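import Mathlib

/-!
# The ring `A[T_1..T_r]/(T_i^p - f_i)` over a local ring of characteristic `p` with `m² = 0` (helper88)

Basic structure: generators, induction principle, lifting of ring maps, locality.
-/

set_option autoImplicit false
universe u
open IsLocalRing

namespace Groth.Agent.Lib.Helper88.PQuot

variable {A : Type u} [CommRing A]

/-- the ideal `(T_i^p - f_i)` -/
noncomputable abbrev relI (p : ℕ) {r : ℕ} (f : Fin r → A) : Ideal (MvPolynomial (Fin r) A) :=
  Ideal.span (Set.range fun i => MvPolynomial.X i ^ p - MvPolynomial.C (f i))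

/-- the quotient ring `A[T_1..T_r]/(T_i^p - f_i)` -/
abbrev Bq (p : ℕ) {r : ℕ} (f : Fin r → A) : Type u :=
  MvPolynomial (Fin r) A ⧸ relI p f

variable (p : ℕ) {r : ℕ} (f : Fin r → A)

/-- the class of `T_j` -/
noncomputable def T (j : Fin r) : Bq p f := Ideal.Quotient.mk _ (MvPolynomial.X j)

theorem algebraMap_eq (a : A) :
    algebraMap A (Bq p f) a = Ideal.Quotient.mk _ (MvPolynomial.C a) := rfl

theorem T_pow (j : Fin r) : T p f j ^ p = algebraMap A (Bq p f) (f j) := by
  rw [algebraMap_eq, T, ← map_pow, ← sub_eq_zero, ← map_sub, Ideal.Quotient.eq_zero_iff_mem]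
  exact Ideal.subset_span ⟨j, rfl⟩

/-- induction principle for the quotient -/
theorem induction_on {P : Bq p f → Prop} (x : Bq p f)
    (hC : ∀ a, P (algebraMap A (Bq p f) a)) (hT : ∀ j, P (T p f j))
    (hadd : ∀ x y, P x → P y → P (x + y)) (hmul : ∀ x y, P x → P y → P (x * y)) : P x := by
  obtain ⟨q, rfl⟩ := Ideal.Quotient.mk_surjective x
  induction q using MvPolynomial.induction_on with
  | C a => exact hC a
  | add q₁ q₂ h₁ h₂ => rw [map_add]; exact hadd _ _ h₁ h₂
  | mul_X q j h => rw [map_mul]; exact hmul _ _ h (hT j)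

/-- lifting ring maps out of the quotient -/
noncomputable def lift {R : Type*} [CommRing R] (ρ : A →+* R) (n : Fin r → R)
    (hn : ∀ j, n j ^ p = ρ (f j)) : Bq p f →+* R :=
  Ideal.Quotient.lift _ (MvPolynomial.eval₂Hom ρ n) (by
    intro q hq
    have hle : relI p f ≤ RingHom.ker (MvPolynomial.eval₂Hom ρ n) := by
      rw [Ideal.span_le]
      rintro _ ⟨j, rfl⟩
      rw [SetLike.mem_coe, RingHom.mem_ker, map_sub, map_pow, MvPolynomial.eval₂Hom_X',
        MvPolynomial.eval₂Hom_C, hn, sub_self]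
    exact hle hq)

variable {p f}

@[simp] theorem lift_algebraMap {R : Type*} [CommRing R] (ρ : A →+* R) (n : Fin r → R)
    (hn : ∀ j, n j ^ p = ρ (f j)) (a : A) : lift p f ρ n hn (algebraMap A (Bq p f) a) = ρ a := by
  rw [algebraMap_eq, lift, Ideal.Quotient.lift_mk, MvPolynomial.eval₂Hom_C]

@[simp] theorem lift_T {R : Type*} [CommRing R] (ρ : A →+* R) (n : Fin r → R)
    (hn : ∀ j, n j ^ p = ρ (f j)) (j : Fin r) : lift p f ρ n hn (T p f j) = n j := by
  rw [T, lift, Ideal.Quotient.lift_mk, MvPolynomial.eval₂Hom_X']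

/-- two ring maps out of the quotient agreeing on `A` and the `T_j` are equal -/
theorem ringHom_ext {R : Type*} [CommRing R] {φ ψ : Bq p f →+* R}
    (hA : ∀ a, φ (algebraMap A (Bq p f) a) = ψ (algebraMap A (Bq p f) a))
    (hT : ∀ j, φ (T p f j) = ψ (T p f j)) : φ = ψ := by
  refine RingHom.ext fun x => ?_
  refine induction_on (P := fun x => φ x = ψ x) p f x hA hT ?_ ?_
  · intro x y hx hy; rw [map_add, map_add, hx, hy]
  · intro x y hx hy; rw [map_mul, map_mul, hx, hy]

variable (p f)

theorem nontrivial [IsLocalRing A] [Fact p.Prime] : Nontrivial (Bq p f) := by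
  have hp : p ≠ 0 := (Fact.out : p.Prime).ne_zero
  let L := AlgebraicClosure (ResidueField A)
  let ρ : A →+* L := (algebraMap (ResidueField A) L).comp (residue A)
  choose n hn using fun j => IsAlgClosed.exists_pow_nat_eq (ρ (f j)) (Nat.pos_of_ne_zero hp)
  exact RingHom.domain_nontrivial (lift p f ρ n hn)

section CharP

variable [Fact p.Prime] [CharP A p]

omit [Fact p.Prime] in
theorem natCast_eq_zero : ((p : ℕ) : Bq p f) = 0 := by
  rw [← map_natCast (algebraMap A (Bq p f)), CharP.cast_eq_zero A p, map_zero]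

theorem charP [IsLocalRing A] : CharP (Bq p f) p := by
  have := nontrivial p f
  exact ringChar.of_eq (CharP.ringChar_of_prime_eq_zero Fact.out (natCast_eq_zero p f))

/-- every `p`-th power comes from `A` -/
theorem exists_pow_eq [IsLocalRing A] (x : Bq p f) : ∃ a : A, x ^ p = algebraMap A (Bq p f) a := by
  have := charP p f
  refine induction_on (P := fun x => ∃ a : A, x ^ p = algebraMap A (Bq p f) a) p f x ?_ ?_ ?_ ?_
  · intro a; exact ⟨a ^ p, by rw [map_pow]⟩
  · intro j; exact ⟨f j, T_pow p f j⟩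
  · rintro x y ⟨a, ha⟩ ⟨b, hb⟩
    exact ⟨a + b, by rw [add_pow_char, ha, hb, map_add]⟩
  · rintro x y ⟨a, ha⟩ ⟨b, hb⟩
    exact ⟨a * b, by rw [mul_pow, ha, hb, map_mul]⟩

/-- non-units are nilpotent -/
theorem isNilpotent_of_not_isUnit [IsLocalRing A] (hm : maximalIdeal A ^ 2 = ⊥) (x : Bq p f)
    (hx : ¬ IsUnit x) : IsNilpotent x := by
  have hp : p ≠ 0 := (Fact.out : p.Prime).ne_zero
  obtain ⟨a, ha⟩ := exists_pow_eq p f x
  have ham : a ∈ maximalIdeal A := by
    rw [mem_maximalIdeal, mem_nonunits_iff]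
    intro hau
    apply hx
    have : IsUnit (x ^ p) := by rw [ha]; exact hau.map _
    exact (isUnit_pow_iff hp).1 this
  have ha2 : a ^ 2 = 0 := by
    have : a ^ 2 ∈ maximalIdeal A ^ 2 := Ideal.pow_mem_pow ham 2
    rwa [hm, Ideal.mem_bot] at this
  refine ⟨p * 2, ?_⟩
  rw [pow_mul, ha, ← map_pow, ha2, map_zero]

theorem isLocalRing [IsLocalRing A] (hm : maximalIdeal A ^ 2 = ⊥) : IsLocalRing (Bq p f) := by
  have := nontrivial p f
  apply IsLocalRing.of_nonunits_add
  intro x y hx hy
  have hx' := isNilpotent_of_not_isUnit p f hm x hx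
  have hy' := isNilpotent_of_not_isUnit p f hm y hy
  exact (Commute.isNilpotent_add (Commute.all x y) hx' hy').not_isUnit

omit [CharP A p] in
theorem isLocalHom [IsLocalRing A] (hm : maximalIdeal A ^ 2 = ⊥) :
    IsLocalHom (algebraMap A (Bq p f)) := by
  have := nontrivial p f
  refine ⟨fun a ha => ?_⟩
  by_contra hau
  have ham : a ∈ maximalIdeal A := by rwa [mem_maximalIdeal, mem_nonunits_iff]
  have ha2 : a ^ 2 = 0 := by
    have : a ^ 2 ∈ maximalIdeal A ^ 2 := Ideal.pow_mem_pow ham 2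
    rwa [hm, Ideal.mem_bot] at this
  have hnil : IsNilpotent (algebraMap A (Bq p f) a) := ⟨2, by rw [← map_pow, ha2, map_zero]⟩
  exact hnil.not_isUnit ha

end CharP

end Groth.Agent.Lib.Helper88.PQuot
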