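import Mathlib
import Groth.Prelude.Def_EGA41
import Groth.Agent.Lib.Helper81.PBasisField2
import Groth.Agent.Lib.Helper81.PBasisPerfect
import Groth.Agent.S2467

/-!
# Field-theoretic input for `A[T]/(T_i^p - f_i)` (helper88)

* the prime subfield of a field of characteristic `p` is perfect;
* a finite set of elements contains a `p`-independent subset generating the same field over `K^p`;
* elements of `K^p[Γ]` are Frobenius-twisted polynomial expressions in `Γ`;
* coefficient fields with prescribed lifts of a `p`-independent family, for a local ring of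
  characteristic `p` with `m² = 0`.
-/

set_option autoImplicit false
universe u
open IsLocalRing

namespace Groth.Agent.Lib.Helper88.PQuot

open Groth.Agent.Lib.Helper81.PBasis Groth.Agent.Lib.Helper81.PBasisEGA
  Groth.Agent.Lib.Helper81.PBasisField

section Prime

theorem charP_bot (p : ℕ) (K : Type u) [Field K] [CharP K p] : CharP (⊥ : Subfield K) p :=
  RingHom.charP (algebraMap (⊥ : Subfield K) K) (algebraMap (⊥ : Subfield K) K).injective p

theorem finite_bot (p : ℕ) [Fact p.Prime] (K : Type u) [Field K] [CharP K p] :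
    Finite (⊥ : Subfield K) := by
  let _ : Algebra (ZMod p) K := ZMod.algebra K p
  have hbot : (⊥ : Subfield K) = (algebraMap (ZMod p) K).fieldRange :=
    Subfield.bot_eq_of_zMod_algebra p
  rw [hbot]
  exact Set.finite_range _

theorem perfectRing_bot (p : ℕ) [Fact p.Prime] (K : Type u) [Field K] [CharP K p]
    [CharP (⊥ : Subfield K) p] : PerfectRing (⊥ : Subfield K) p := by
  have := finite_bot p K
  exact PerfectRing.ofFiniteOfIsReduced p _

end Prime

section Select

variable {p : ℕ} [hp : Fact p.Prime] {k K : Type u} [Field k] [Field K] [Algebra k K] [CharP K p]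

/-- the field generated by `k`, `K^p` and `S` -/
noncomputable abbrev Fgen (p : ℕ) (k : Type u) {K : Type u} [Field k] [Field K] [Algebra k K]
    (S : Set K) : IntermediateField k K :=
  IntermediateField.adjoin k ((Set.range fun y : K => y ^ p) ∪ S)

include hp in
/-- a finite set contains a `p`-independent subset with the same `p`-closure -/
theorem exists_pIndep_subset (s : Finset K) :
    ∃ Γ : Set K, Γ ⊆ ↑s ∧ EGA41.IsPIndependent p k (Subtype.val : Γ → K) ∧
      ∀ y ∈ s, y ∈ Algebra.adjoin (EGA41.pPowerSubalgebra p k K) Γ := by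
  classical
  let Q : Set (Finset K) := {t | t ⊆ s ∧ Fgen p k (↑t : Set K) = Fgen p k (↑s : Set K)}
  have hne : Q.Nonempty := ⟨s, subset_rfl, rfl⟩
  obtain ⟨t, ⟨hts, htF⟩, hmin⟩ := Finset.isWellFounded_ssubset.wf.has_min Q hne
  refine ⟨↑t, by exact_mod_cast hts, ?_, ?_⟩
  · apply isPIndependent_of_forall_notMem
    rintro ⟨a, ha⟩ hmem
    have ha' : a ∈ t := ha
    apply hmin (t.erase a) ⟨(Finset.erase_subset a t).trans hts, ?_⟩ (Finset.erase_ssubset ha')
    rw [← htF]
    apply le_antisymm
    · exact IntermediateField.adjoin.mono k _ _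
        (Set.union_subset_union_right _ (by exact_mod_cast Finset.erase_subset a t))
    · rw [IntermediateField.adjoin_le_iff]
      rintro w (hw | hw)
      · exact IntermediateField.subset_adjoin k _ (Or.inl hw)
      · by_cases hwa : w = a
        · rw [hwa]
          refine IntermediateField.adjoin.mono k _ _ ?_ hmem
          apply Set.union_subset_union_right
          rintro _ ⟨⟨b, hb⟩, hba, rfl⟩
          have hb' : b ∈ t := hb
          have : b ≠ a := fun h => hba (Subtype.ext h)
          exact_mod_cast Finset.mem_erase.2 ⟨this, hb'⟩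
        · have hw' : w ∈ t := hw
          exact IntermediateField.subset_adjoin k _
            (Or.inr (by exact_mod_cast Finset.mem_erase.2 ⟨hwa, hw'⟩))
  · intro y hy
    apply mem_algebraAdjoin_of_mem_adjoin
    show y ∈ Fgen p k (↑t : Set K)
    rw [htF]
    exact IntermediateField.subset_adjoin k _ (Or.inr hy)

end Select

section Frob

variable {p : ℕ} [hp : Fact p.Prime] {k K : Type u} [Field k] [Field K] [Algebra k K] [CharP K p]
  [CharP k p] [PerfectRing k p]

/-- Frobenius-twisted evaluation `Σ c_e X^e ↦ Σ c_e^p y^e` -/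
noncomputable def frobEval (p : ℕ) [Fact p.Prime] {K : Type u} [Field K] [CharP K p] (Γ : Set K) :
    MvPolynomial Γ K →+* K :=
  MvPolynomial.eval₂Hom (frobenius K p) (Subtype.val : Γ → K)

include hp in
theorem exists_frobEval_eq (Γ : Set K) (y : K)
    (hy : y ∈ Algebra.adjoin (EGA41.pPowerSubalgebra p k K) Γ) :
    ∃ H : MvPolynomial Γ K, frobEval p Γ H = y := by
  induction hy using Algebra.adjoin_induction with
  | mem y hy =>
    refine ⟨MvPolynomial.X ⟨y, hy⟩, ?_⟩
    rw [frobEval, MvPolynomial.eval₂Hom_X']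
  | algebraMap c =>
    obtain ⟨d, hd⟩ := exists_pow_eq_of_mem_pPowerSubalgebra (A := k) (c : K) c.2
    refine ⟨MvPolynomial.C d, ?_⟩
    rw [frobEval, MvPolynomial.eval₂Hom_C, frobenius_def, hd]
    rfl
  | add u v _ _ hu hv =>
    obtain ⟨Hu, rfl⟩ := hu
    obtain ⟨Hv, rfl⟩ := hv
    exact ⟨Hu + Hv, map_add _ _ _⟩
  | mul u v _ _ hu hv =>
    obtain ⟨Hu, rfl⟩ := hu
    obtain ⟨Hv, rfl⟩ := hv
    exact ⟨Hu * Hv, map_mul _ _ _⟩

end Frob

section Section

variable {A : Type u} [CommRing A] [IsLocalRing A] (p : ℕ) [hp : Fact p.Prime] [CharP A p]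

theorem charP_residueField : CharP (ResidueField A) p := by
  have h0 : ((p : ℕ) : ResidueField A) = 0 := by
    rw [← map_natCast (residue A), CharP.cast_eq_zero A p, map_zero]
  exact ringChar.of_eq (CharP.ringChar_of_prime_eq_zero hp.out h0)

variable {p}

include hp in
/-- **Coefficient fields with prescribed values.** -/
theorem exists_section (hm : maximalIdeal A ^ 2 = ⊥)
    (hK : CharP (ResidueField A) p)
    (Γ : Set (ResidueField A))
    (hΓ : EGA41.IsPIndependent p (⊥ : Subfield (ResidueField A))
      (Subtype.val : Γ → ResidueField A))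
    (z : Γ → A) (hz : ∀ y : Γ, residue A (z y) = y) :
    ∃ σ : ResidueField A →+* A, (∀ c, residue A (σ c) = c) ∧ ∀ y : Γ, σ y = z y := by
  classical
  have hP1 := charP_bot p (ResidueField A)
  have hP2 := perfectRing_bot p (ResidueField A)
  -- a `p`-basis containing `Γ`
  have hS : EGA41.IsPGenerating p (⊥ : Subfield (ResidueField A))
      (Subtype.val : ↥(Set.univ : Set (ResidueField A)) → ResidueField A) := by
    rw [isPGenerating_iff, eq_top_iff]
    intro y _
    apply Submodule.subset_span
    refine ⟨⟨Finsupp.single ⟨y, Set.mem_univ y⟩ 1, ?_⟩, ?_⟩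
    · intro i
      rw [Finsupp.single_apply]
      split_ifs
      · exact hp.out.one_lt
      · exact hp.out.pos
    · simp [redMon]
  obtain ⟨Bs, hΓB, -, hB⟩ := Groth.Agent.S2467.result p (k := (⊥ : Subfield (ResidueField A)))
    (K := ResidueField A) Set.univ Γ (Set.subset_univ _) hS hΓ
  obtain ⟨hli, hspan⟩ := frobTwist_basis (A := (⊥ : Subfield (ResidueField A)))
    (Subtype.val : Bs → ResidueField A) hB
  -- Frobenius factors through the residue field
  have hpow0 : ∀ a ∈ maximalIdeal A, a ^ p = 0 := by
    intro a ha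
    have h2 : a ^ 2 = 0 := by
      have : a ^ 2 ∈ maximalIdeal A ^ 2 := Ideal.pow_mem_pow ha 2
      rwa [hm, Ideal.mem_bot] at this
    obtain ⟨n, hn⟩ : ∃ n, p = 2 + n := ⟨p - 2, by have := hp.out.two_le; omega⟩
    rw [hn, pow_add, h2, zero_mul]
  let θ : ResidueField A →+* A := Ideal.Quotient.lift (maximalIdeal A) (frobenius A p)
    (fun a ha => by rw [frobenius_def]; exact hpow0 a ha)
  have hθ : ∀ a : A, θ (residue A a) = a ^ p := fun a => by
    show Ideal.Quotient.lift (maximalIdeal A) (frobenius A p) _ (Ideal.Quotient.mk _ a) = _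
    rw [Ideal.Quotient.lift_mk, frobenius_def]
  let ζ : Bs → A := fun b =>
    if h : (b : ResidueField A) ∈ Γ then z ⟨b, h⟩ else Classical.choose (residue_surjective b.1)
  have hζ : ∀ b : Bs, residue A (ζ b) = b := by
    intro b
    by_cases h : (b : ResidueField A) ∈ Γ
    · simp only [ζ, dif_pos h]; exact hz ⟨b, h⟩
    · simp only [ζ, dif_neg h]; exact Classical.choose_spec (residue_surjective b.1)
  have hθζ : ∀ b : Bs, θ (b : ResidueField A) = ζ b ^ p ^ 1 := by
    intro b
    rw [pow_one, ← hθ, hζ]
  obtain ⟨w, ⟨hw1, hw2⟩, -⟩ := existsUnique_ringHom_frob_pow hli hspan 1 θ ζ hθζ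
  have hresθ : ∀ c : ResidueField A, residue A (θ c) = c ^ p := by
    intro c
    obtain ⟨a, rfl⟩ := residue_surjective c
    rw [hθ, map_pow]
  have hθ' : ∀ b : Bs, ((residue A).comp θ) (b : ResidueField A) = (b : ResidueField A) ^ p ^ 1 := by
    intro b
    rw [RingHom.comp_apply, hresθ, pow_one]
  have hid : (residue A).comp w = RingHom.id (ResidueField A) := by
    refine (existsUnique_ringHom_frob_pow hli hspan 1 ((residue A).comp θ)
      (Subtype.val : Bs → ResidueField A) hθ').unique ⟨?_, ?_⟩ ⟨?_, ?_⟩
    · intro c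
      rw [RingHom.comp_apply, hw1, RingHom.comp_apply]
    · intro b
      rw [RingHom.comp_apply, hw2, hζ]
    · intro c
      rw [RingHom.id_apply, RingHom.comp_apply, hresθ, pow_one]
    · intro b
      rfl
  refine ⟨w, fun c => ?_, fun y => ?_⟩
  · exact congrArg (fun g : ResidueField A →+* ResidueField A => g c) hid
  · have hy : (y : ResidueField A) ∈ Bs := hΓB y.2
    have := hw2 ⟨y, hy⟩
    rw [this]
    simp only [ζ, dif_pos y.2]

end Section

end Groth.Agent.Lib.Helper88.PQuot
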