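import Mathlib
import Groth.Agent.Lib.Helper88.PQuotLocal
import Groth.Agent.Lib.Helper88.PQuotField
import Groth.Agent.Lib.Helper81.PBasisDer

/-!
# `A[T]/(T_i^p - f_i)`: the map to a square-zero extension of the residue field (helper88)
-/

set_option autoImplicit false
set_option linter.unusedSectionVars false
universe u
open IsLocalRing TrivSqZeroExt

namespace Groth.Agent.Lib.Helper88.PQuot

open Groth.Agent.Lib.Helper81.PBasis

section Nu

variable {A : Type u} [CommRing A] [IsLocalRing A] (σ : ResidueField A →+* A)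

/-- the `m`-component of `a` with respect to the coefficient field `σ` -/
noncomputable def nu (a : A) : A := a - σ (residue A a)

variable {σ}

theorem nu_mem (hσ : ∀ c, residue A (σ c) = c) (a : A) : nu σ a ∈ maximalIdeal A := by
  rw [← residue_eq_zero_iff, nu, map_sub, hσ, sub_self]

theorem nu_add (a b : A) : nu σ (a + b) = nu σ a + nu σ b := by
  simp only [nu, map_add]; ring

theorem nu_sigma (hσ : ∀ c, residue A (σ c) = c) (c : ResidueField A) : nu σ (σ c) = 0 := by
  rw [nu, hσ, sub_self]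

theorem nu_of_mem {x : A} (hx : x ∈ maximalIdeal A) : nu σ x = x := by
  rw [nu, (residue_eq_zero_iff x).2 hx, map_zero, sub_zero]

theorem nu_mul (hσ : ∀ c, residue A (σ c) = c) (hm : maximalIdeal A ^ 2 = ⊥) (a b : A) :
    nu σ (a * b) = σ (residue A a) * nu σ b + σ (residue A b) * nu σ a := by
  have h0 : nu σ a * nu σ b = 0 := by
    have : nu σ a * nu σ b ∈ maximalIdeal A ^ 2 := by
      rw [pow_two]; exact Ideal.mul_mem_mul (nu_mem hσ a) (nu_mem hσ b)
    rwa [hm, Ideal.mem_bot] at this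
  have : nu σ (a * b) = σ (residue A a) * nu σ b + σ (residue A b) * nu σ a + nu σ a * nu σ b := by
    simp only [nu, map_mul]; ring
  rw [this, h0, add_zero]

variable {M : Type*} [AddCommGroup M] [Module A M]

/-- the derivation `a ↦ ℓ (ν a)` -/
noncomputable def derivOf (hσ : ∀ c, residue A (σ c) = c) (hm : maximalIdeal A ^ 2 = ⊥)
    (hM : ∀ x ∈ maximalIdeal A, ∀ n : M, x • n = 0) (ℓ : maximalIdeal A →ₗ[A] M) :
    Derivation ℤ A M :=
  Derivation.mk'
    ((AddMonoidHom.mk' (fun a => ℓ ⟨nu σ a, nu_mem hσ a⟩) (fun a b => by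
      rw [← map_add]; congr 1; exact Subtype.ext (nu_add a b))).toIntLinearMap)
    (fun a b => by
      show ℓ ⟨nu σ (a * b), nu_mem hσ (a * b)⟩ = a • ℓ ⟨nu σ b, nu_mem hσ b⟩ +
        b • ℓ ⟨nu σ a, nu_mem hσ a⟩
      have h1 : (⟨nu σ (a * b), nu_mem hσ (a * b)⟩ : maximalIdeal A) =
          σ (residue A a) • ⟨nu σ b, nu_mem hσ b⟩ + σ (residue A b) • ⟨nu σ a, nu_mem hσ a⟩ :=
        Subtype.ext (nu_mul hσ hm a b)
      have h2 : ∀ (a : A) (n : M), σ (residue A a) • n = a • n := by
        intro a n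
        have := hM _ (nu_mem hσ a) n
        rw [nu, sub_smul, sub_eq_zero] at this
        exact this.symm
      rw [h1, map_add, map_smul, map_smul, h2, h2])

@[simp] theorem derivOf_apply (hσ : ∀ c, residue A (σ c) = c) (hm : maximalIdeal A ^ 2 = ⊥)
    (hM : ∀ x ∈ maximalIdeal A, ∀ n : M, x • n = 0) (ℓ : maximalIdeal A →ₗ[A] M) (a : A) :
    derivOf hσ hm hM ℓ a = ℓ ⟨nu σ a, nu_mem hσ a⟩ := rfl

end Nu

section Phi

variable {A : Type u} [CommRing A] [IsLocalRing A] {p : ℕ} [hp : Fact p.Prime] [CharP A p]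
  {r : ℕ} {f : Fin r → A} [IsLocalRing (Bq p f)] [IsLocalHom (algebraMap A (Bq p f))]

omit hp [CharP A p] in
theorem algebraMap_residueField_eq_zero {x : A} (hx : x ∈ maximalIdeal A) :
    algebraMap A (ResidueField (Bq p f)) x = 0 := by
  have : algebraMap A (ResidueField (Bq p f)) x =
      algebraMap (ResidueField A) (ResidueField (Bq p f)) (residue A x) := rfl
  rw [this, (residue_eq_zero_iff x).2 hx, map_zero]

omit [IsLocalHom (algebraMap A (Bq p f))] [IsLocalRing A] hp in
theorem natCast_residueField_eq_zero : ((p : ℕ) : ResidueField (Bq p f)) = 0 := by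
  rw [← map_natCast (residue (Bq p f)), natCast_eq_zero, map_zero]

omit [IsLocalHom (algebraMap A (Bq p f))] in
theorem charP_residueField_Bq : CharP (ResidueField (Bq p f)) p :=
  ringChar.of_eq (CharP.ringChar_of_prime_eq_zero hp.out natCast_residueField_eq_zero)

variable {σ : ResidueField A →+* A} (hσ : ∀ c, residue A (σ c) = c)
  (hm : maximalIdeal A ^ 2 = ⊥)
  {N : Type*} [AddCommGroup N] [Module (ResidueField (Bq p f)) N] [Module A N]
  [IsScalarTower A (ResidueField (Bq p f)) N] [Module (ResidueField (Bq p f))ᵐᵒᵖ N]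
  [IsCentralScalar (ResidueField (Bq p f)) N]

include p f in
omit hp [CharP A p] [Module (ResidueField (Bq p f))ᵐᵒᵖ N]
  [IsCentralScalar (ResidueField (Bq p f)) N] in
theorem smul_eq_zero_of_mem {x : A} (hx : x ∈ maximalIdeal A) (n : N) : x • n = 0 := by
  rw [← algebraMap_smul (ResidueField (Bq p f)) x n, algebraMap_residueField_eq_zero hx, zero_smul]

variable (ℓ : maximalIdeal A →ₗ[A] N) (hℓ : ∀ j, ℓ ⟨nu σ (f j), nu_mem hσ (f j)⟩ = 0)
  (n : Fin r → N)

/-- the ring map `B → K_B ⊕ N` -/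
noncomputable def phi : Bq p f →+* TrivSqZeroExt (ResidueField (Bq p f)) N :=
  lift p f (derivHom (B := ResidueField (Bq p f))
      (derivOf hσ hm (fun _ hx n => smul_eq_zero_of_mem (p := p) (f := f) hx n) ℓ))
    (fun j => inl (residue (Bq p f) (T p f j)) + inr (n j)) (by
      intro j
      have hpL : ∀ l : N, p • l = 0 := fun l => by
        rw [← Nat.cast_smul_eq_nsmul (ResidueField (Bq p f)), natCast_residueField_eq_zero,
          zero_smul]
      ext
      · simp only [fst_pow, fst_add, fst_inl, fst_inr, add_zero, fst_derivHom]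
        rw [← map_pow, T_pow]
        rfl
      · rw [snd_pow, hpL, snd_derivHom, derivOf_apply, hℓ])

theorem phi_algebraMap (a : A) :
    phi hσ hm ℓ hℓ n (algebraMap A (Bq p f) a) =
      inl (algebraMap A (ResidueField (Bq p f)) a) + inr (ℓ ⟨nu σ a, nu_mem hσ a⟩) := by
  rw [phi, lift_algebraMap]
  rfl

theorem phi_T (j : Fin r) :
    phi hσ hm ℓ hℓ n (T p f j) = inl (residue (Bq p f) (T p f j)) + inr (n j) := by
  rw [phi, lift_T]

theorem phi_fst (x : Bq p f) : (phi hσ hm ℓ hℓ n x).fst = residue (Bq p f) x := by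
  have h : (TrivSqZeroExt.fstHom (ResidueField (Bq p f)) (ResidueField (Bq p f)) N).toRingHom.comp
      (phi hσ hm ℓ hℓ n) = residue (Bq p f) := by
    apply ringHom_ext
    · intro a
      rw [RingHom.comp_apply, phi_algebraMap]
      simp
      rfl
    · intro j
      rw [RingHom.comp_apply, phi_T]
      simp
  exact congrArg (fun g : Bq p f →+* ResidueField (Bq p f) => g x) h

theorem phi_snd_mul (x y : Bq p f) :
    (phi hσ hm ℓ hℓ n (x * y)).snd = residue (Bq p f) x • (phi hσ hm ℓ hℓ n y).snd +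
      residue (Bq p f) y • (phi hσ hm ℓ hℓ n x).snd := by
  rw [map_mul, snd_mul, phi_fst, phi_fst, op_smul_eq_smul]

theorem phi_snd_of_mem_sq {x : Bq p f} (hx : x ∈ maximalIdeal (Bq p f) ^ 2) :
    (phi hσ hm ℓ hℓ n x).snd = 0 := by
  rw [pow_two] at hx
  refine Submodule.mul_induction_on (C := fun x => (phi hσ hm ℓ hℓ n x).snd = 0) hx ?_ ?_
  · intro a ha b hb
    rw [phi_snd_mul, (residue_eq_zero_iff a).2 ha, (residue_eq_zero_iff b).2 hb, zero_smul,
      zero_smul, add_zero]
  · intro a b ha hb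
    rw [map_add, snd_add, ha, hb, add_zero]

end Phi

end Groth.Agent.Lib.Helper88.PQuot
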