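import Mathlib
import Groth.Agent.Lib.Helper88.PQuotPhi

/-!
# `A[T]/(T_i^p - f_i)`: the elements `U_j = T_j - H_j(T_Γ)` and the lower bound (helper88)
-/

set_option autoImplicit false
set_option linter.unusedSectionVars false
universe u
open IsLocalRing TrivSqZeroExt

namespace Groth.Agent.Lib.Helper88.PQuot

section Cot

variable {R : Type*} [CommRing R] [IsLocalRing R] {ι : Type*} [Fintype ι]

theorem sum_smul_toCotangent' (x : ι → R) (hx : ∀ i, x i ∈ maximalIdeal R) (a : ι → R) :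
    ∑ i, (residue R (a i)) • (maximalIdeal R).toCotangent ⟨x i, hx i⟩ =
      (maximalIdeal R).toCotangent ⟨∑ i, a i * x i,
        Ideal.sum_mem _ fun i _ => Ideal.mul_mem_left _ _ (hx i)⟩ := by
  have h1 : (⟨∑ i, a i * x i, Ideal.sum_mem _ fun i _ => Ideal.mul_mem_left _ _ (hx i)⟩ :
      maximalIdeal R) = ∑ i, a i • (⟨x i, hx i⟩ : maximalIdeal R) := by
    apply Subtype.ext
    rw [Submodule.coe_sum]
    rfl
  rw [h1, map_sum]
  refine Finset.sum_congr rfl fun i _ => ?_
  rw [map_smul]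
  exact algebraMap_smul (ResidueField R) (a i) _

theorem li_cotangent_of (x : ι → R) (hx : ∀ i, x i ∈ maximalIdeal R)
    (h : ∀ a : ι → R, ∑ i, a i * x i ∈ maximalIdeal R ^ 2 → ∀ i, a i ∈ maximalIdeal R) :
    LinearIndependent (ResidueField R) (fun i => (maximalIdeal R).toCotangent ⟨x i, hx i⟩) := by
  rw [Fintype.linearIndependent_iff]
  intro g hg i
  choose a ha using fun i => residue_surjective (g i)
  have hg' : ∑ i, (residue R (a i)) • (maximalIdeal R).toCotangent ⟨x i, hx i⟩ = 0 := by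
    rw [← hg]
    exact Finset.sum_congr rfl fun i _ => by rw [ha i]
  rw [sum_smul_toCotangent' x hx a, Ideal.toCotangent_eq_zero] at hg'
  rw [← ha i, residue_eq_zero_iff]
  exact h a hg' i

end Cot

section Ev

variable {A : Type u} [CommRing A] [IsLocalRing A] {p : ℕ} [hp : Fact p.Prime] [CharP A p]
  [CharP (ResidueField A) p]
  {r : ℕ} {f : Fin r → A} [IsLocalRing (Bq p f)] [IsLocalHom (algebraMap A (Bq p f))]
  (σ : ResidueField A →+* A) {Γ : Set (ResidueField A)} (g : Γ → Fin r)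

/-- evaluation of polynomials over the coefficient field at the `T_{g y}` -/
noncomputable def ev : MvPolynomial Γ (ResidueField A) →+* Bq p f :=
  MvPolynomial.eval₂Hom ((algebraMap A (Bq p f)).comp σ) (fun y => T p f (g y))

theorem ev_C (c : ResidueField A) :
    ev (p := p) (f := f) σ g (MvPolynomial.C c) = algebraMap A (Bq p f) (σ c) := by
  rw [ev, MvPolynomial.eval₂Hom_C]; rfl

theorem ev_X (y : Γ) : ev (p := p) (f := f) σ g (MvPolynomial.X y) = T p f (g y) := by
  rw [ev, MvPolynomial.eval₂Hom_X']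

variable {σ g}

theorem ev_pow (hσΓ : ∀ y : Γ, σ y = f (g y)) (H : MvPolynomial Γ (ResidueField A)) :
    ev (p := p) (f := f) σ g H ^ p = algebraMap A (Bq p f) (σ (frobEval p Γ H)) := by
  have := charP p f
  induction H using MvPolynomial.induction_on with
  | C c =>
    rw [ev_C, ← map_pow, ← map_pow, frobEval, MvPolynomial.eval₂Hom_C, frobenius_def]
  | add H₁ H₂ h₁ h₂ =>
    rw [map_add, add_pow_char, h₁, h₂, map_add, map_add, map_add]
  | mul_X H y h =>
    rw [map_mul, mul_pow, h, ev_X, T_pow, map_mul, map_mul, map_mul, frobEval,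
      MvPolynomial.eval₂Hom_X', hσΓ]

variable (hσ : ∀ c, residue A (σ c) = c)

include hσ in
theorem residue_ev (hσΓ : ∀ y : Γ, σ y = f (g y)) (j : Fin r) (H : MvPolynomial Γ (ResidueField A))
    (hH : frobEval p Γ H = residue A (f j)) :
    residue (Bq p f) (ev σ g H) = residue (Bq p f) (T p f j) := by
  have := charP_residueField_Bq (p := p) (f := f)
  apply frobenius_inj (ResidueField (Bq p f)) p
  have h : ∀ a : A, residue (Bq p f) (algebraMap A (Bq p f) a) =
      algebraMap (ResidueField A) (ResidueField (Bq p f)) (residue A a) := fun a => rfl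
  have h1 : residue (Bq p f) (ev σ g H) ^ p = residue (Bq p f) (ev σ g H ^ p) :=
    (map_pow _ _ _).symm
  have h2 : residue (Bq p f) (T p f j) ^ p = residue (Bq p f) (T p f j ^ p) :=
    (map_pow _ _ _).symm
  rw [frobenius_def, frobenius_def, h1, h2, ev_pow hσΓ, T_pow, hH, h, h, hσ]

variable (H : Fin r → MvPolynomial Γ (ResidueField A))
  (hH : ∀ j, frobEval p Γ (H j) = residue A (f j))

/-- `U_j = T_j - H_j(T_Γ)` -/
noncomputable def U (σ : ResidueField A →+* A) (g : Γ → Fin r)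
    (H : Fin r → MvPolynomial Γ (ResidueField A)) (j : Fin r) : Bq p f :=
  T p f j - ev σ g (H j)

include hσ hH in
theorem U_mem (hσΓ : ∀ y : Γ, σ y = f (g y)) (j : Fin r) :
    U (p := p) (f := f) σ g H j ∈ maximalIdeal (Bq p f) := by
  rw [← residue_eq_zero_iff, U, map_sub, residue_ev hσ hσΓ j (H j) (hH j), sub_self]

include hH in
theorem U_pow (hσΓ : ∀ y : Γ, σ y = f (g y)) (j : Fin r) :
    U (p := p) (f := f) σ g H j ^ p = algebraMap A (Bq p f) (nu σ (f j)) := by
  have := charP p f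
  rw [U, sub_pow_char, T_pow, ev_pow hσΓ, hH, nu, map_sub]

variable (hm : maximalIdeal A ^ 2 = ⊥)
  {N : Type*} [AddCommGroup N] [Module (ResidueField (Bq p f)) N] [Module A N]
  [IsScalarTower A (ResidueField (Bq p f)) N] [Module (ResidueField (Bq p f))ᵐᵒᵖ N]
  [IsCentralScalar (ResidueField (Bq p f)) N]
  (ℓ : maximalIdeal A →ₗ[A] N) (hℓ : ∀ j, ℓ ⟨nu σ (f j), nu_mem hσ (f j)⟩ = 0)
  (n : Fin r → N)

theorem phi_snd_ev (hn : ∀ y : Γ, n (g y) = 0) (Q : MvPolynomial Γ (ResidueField A)) :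
    (phi hσ hm ℓ hℓ n (ev σ g Q)).snd = 0 := by
  induction Q using MvPolynomial.induction_on with
  | C c =>
    rw [ev_C, phi_algebraMap, snd_add, snd_inl, snd_inr, zero_add]
    have : (⟨nu σ (σ c), nu_mem hσ (σ c)⟩ : maximalIdeal A) = 0 := Subtype.ext (nu_sigma hσ c)
    rw [this, map_zero]
  | add Q₁ Q₂ h₁ h₂ => rw [map_add, map_add, snd_add, h₁, h₂, add_zero]
  | mul_X Q y h =>
    rw [map_mul, phi_snd_mul, h, smul_zero, add_zero, ev_X, phi_T, snd_add, snd_inl, snd_inr,
      zero_add, hn, smul_zero]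

theorem phi_snd_U (hn : ∀ y : Γ, n (g y) = 0) (j : Fin r) :
    (phi hσ hm ℓ hℓ n (U σ g H j)).snd = n j := by
  rw [U, map_sub, snd_sub, phi_snd_ev hσ hm ℓ hℓ n hn, sub_zero, phi_T, snd_add, snd_inl,
    snd_inr, zero_add]

theorem phi_snd_algebraMap_of_mem {x : A} (hx : x ∈ maximalIdeal A) :
    (phi hσ hm ℓ hℓ n (algebraMap A (Bq p f) x)).snd = ℓ ⟨x, hx⟩ := by
  rw [phi_algebraMap, snd_add, snd_inl, snd_inr, zero_add]
  congr 1
  exact Subtype.ext (nu_of_mem hx)

end Ev

end Groth.Agent.Lib.Helper88.PQuot
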