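import Mathlib
import Groth.Agent.Lib.Helper88.PQuotEv

/-!
# `A[T]/(T_i^p - f_i)`: generators of the maximal ideal (helper88)
-/

set_option autoImplicit false
set_option linter.unusedSectionVars false
universe u
open IsLocalRing

namespace Groth.Agent.Lib.Helper88.PQuot

open Groth.Agent.Lib.Helper81.PBasis

section RedMon

theorem redMon_pow' {B : Type*} [CommRing B] {ι : Type*} (p : ℕ) (y : ι → B) (e : Red ι p) :
    redMon p y e ^ p = redMon p (fun i => y i ^ p) e := by
  simp only [redMon, Finsupp.prod, ← Finset.prod_pow]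
  refine Finset.prod_congr rfl fun i _ => ?_
  rw [← pow_mul, ← pow_mul, mul_comm]

theorem map_redMon' {B C : Type*} [CommRing B] [CommRing C] (p : ℕ) (φ : B →+* C) {ι : Type*}
    (x : ι → B) (e : Red ι p) : φ (redMon p x e) = redMon p (fun i => φ (x i)) e := by
  simp only [redMon, Finsupp.prod, map_prod, map_pow]

/-- `p`-th roots of a `p`-independent family have linearly independent reduced monomials -/
theorem li_redMon {p : ℕ} [hp : Fact p.Prime] {k K : Type u} [Field k] [Field K] [Algebra k K]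
    {L : Type*} [Field L] [Algebra K L] [CharP L p] {ι : Type u} (x : ι → K)
    (hx : EGA41.IsPIndependent p k x) (t : ι → L) (ht : ∀ i, t i ^ p = algebraMap K L (x i)) :
    LinearIndependent K (redMon p t) := by
  have hx' : LinearIndependent (EGA41.pPowerSubalgebra p k K) (redMon p x) := hx
  rw [linearIndependent_iff']
  intro s c hc e he
  have h1 : (∑ e ∈ s, c e • redMon p t e) ^ p =
      algebraMap K L (∑ e ∈ s, c e ^ p * redMon p x e) := by
    rw [sum_pow_char, map_sum]
    refine Finset.sum_congr rfl fun e _ => ?_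
    rw [Algebra.smul_def, mul_pow, redMon_pow', map_mul, map_pow, map_redMon']
    congr 2
    funext i
    exact ht i
  rw [hc, zero_pow hp.out.ne_zero] at h1
  have h2 : ∑ e ∈ s, c e ^ p * redMon p x e = 0 :=
    (algebraMap K L).injective (by rw [← h1, map_zero])
  have h3 : ∑ e ∈ s, (⟨c e ^ p, Algebra.subset_adjoin ⟨c e, rfl⟩⟩ :
      EGA41.pPowerSubalgebra p k K) • redMon p x e = 0 := by
    rw [← h2]
    exact Finset.sum_congr rfl fun e _ => rfl
  have h4 := linearIndependent_iff'.1 hx' s _ h3 e he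
  have h5 : c e ^ p = 0 := congrArg Subtype.val h4
  exact pow_eq_zero_iff hp.out.ne_zero |>.1 h5

end RedMon

section Span

variable {A : Type u} [CommRing A] [IsLocalRing A] {p : ℕ} [hp : Fact p.Prime] [CharP A p]
  [CharP (ResidueField A) p]
  {r : ℕ} {f : Fin r → A} [IsLocalRing (Bq p f)] [IsLocalHom (algebraMap A (Bq p f))]
  {σ : ResidueField A →+* A} {Γ : Set (ResidueField A)} {g : Γ → Fin r}
  (hσ : ∀ c, residue A (σ c) = c) (hσΓ : ∀ y : Γ, σ y = f (g y))
  (H : Fin r → MvPolynomial Γ (ResidueField A))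
  (hH : ∀ j, frobEval p Γ (H j) = residue A (f j))

theorem aeval_map_sigma (Q : MvPolynomial Γ (ResidueField A)) :
    MvPolynomial.aeval (fun y => T p f (g y)) (MvPolynomial.map σ Q) = ev σ g Q := by
  rw [MvPolynomial.aeval_def, MvPolynomial.eval₂_map]
  rfl

theorem algebraMap_mem_maximalIdeal {x : A} (hx : x ∈ maximalIdeal A) :
    algebraMap A (Bq p f) x ∈ maximalIdeal (Bq p f) := by
  rw [← residue_eq_zero_iff]
  have : residue (Bq p f) (algebraMap A (Bq p f) x) =
      algebraMap (ResidueField A) (ResidueField (Bq p f)) (residue A x) := rfl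
  rw [this, (residue_eq_zero_iff x).2 hx, map_zero]

/-- the ideal `mB + (U_j : j ∉ range g)` -/
noncomputable def idealI (σ : ResidueField A →+* A) (g : Γ → Fin r)
    (H : Fin r → MvPolynomial Γ (ResidueField A)) : Ideal (Bq p f) :=
  Ideal.map (algebraMap A (Bq p f)) (maximalIdeal A) ⊔
    Ideal.span (Set.range fun j : {j : Fin r // j ∉ Set.range g} => U σ g H j.1)

include hσ hσΓ hH in
theorem idealI_le : idealI (p := p) (f := f) σ g H ≤ maximalIdeal (Bq p f) := by
  rw [idealI]
  refine sup_le ?_ ?_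
  · rw [Ideal.map_le_iff_le_comap]
    intro x hx
    exact algebraMap_mem_maximalIdeal hx
  · rw [Ideal.span_le]
    rintro _ ⟨j, rfl⟩
    exact U_mem hσ H hH hσΓ j.1

theorem exists_sub_aeval_mem (x : Bq p f) :
    ∃ Q : MvPolynomial Γ A,
      x - MvPolynomial.aeval (fun y => T p f (g y)) Q ∈ idealI (p := p) (f := f) σ g H := by
  refine induction_on (P := fun x => ∃ Q : MvPolynomial Γ A,
      x - MvPolynomial.aeval (fun y => T p f (g y)) Q ∈ idealI (p := p) (f := f) σ g H) p f x
    ?_ ?_ ?_ ?_
  · intro a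
    refine ⟨MvPolynomial.C a, ?_⟩
    rw [MvPolynomial.aeval_C, sub_self]
    exact zero_mem _
  · intro j
    by_cases h : j ∈ Set.range g
    · obtain ⟨y, rfl⟩ := h
      refine ⟨MvPolynomial.X y, ?_⟩
      rw [MvPolynomial.aeval_X, sub_self]
      exact zero_mem _
    · refine ⟨MvPolynomial.map σ (H j), ?_⟩
      rw [aeval_map_sigma]
      exact Ideal.mem_sup_right (Ideal.subset_span ⟨⟨j, h⟩, rfl⟩)
  · rintro x y ⟨Q, hQ⟩ ⟨Q', hQ'⟩
    refine ⟨Q + Q', ?_⟩
    have : x + y - MvPolynomial.aeval (fun y => T p f (g y)) (Q + Q') =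
        (x - MvPolynomial.aeval (fun y => T p f (g y)) Q) +
          (y - MvPolynomial.aeval (fun y => T p f (g y)) Q') := by
      rw [map_add]; ring
    rw [this]
    exact add_mem hQ hQ'
  · rintro x y ⟨Q, hQ⟩ ⟨Q', hQ'⟩
    refine ⟨Q * Q', ?_⟩
    have : x * y - MvPolynomial.aeval (fun y => T p f (g y)) (Q * Q') =
        x * (y - MvPolynomial.aeval (fun y => T p f (g y)) Q') +
          MvPolynomial.aeval (fun y => T p f (g y)) Q' *
            (x - MvPolynomial.aeval (fun y => T p f (g y)) Q) := by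
      rw [map_mul]; ring
    rw [this]
    exact add_mem (Ideal.mul_mem_left _ _ hQ') (Ideal.mul_mem_left _ _ hQ)

theorem residue_aeval (Q : MvPolynomial Γ A) :
    residue (Bq p f) (MvPolynomial.aeval (fun y => T p f (g y)) Q) =
      MvPolynomial.aeval (fun y : Γ => residue (Bq p f) (T p f (g y)))
        (MvPolynomial.map (residue A) Q) := by
  induction Q using MvPolynomial.induction_on with
  | C a =>
    rw [MvPolynomial.aeval_C, MvPolynomial.map_C, MvPolynomial.aeval_C]
    rfl
  | add Q₁ Q₂ h₁ h₂ => rw [map_add, map_add, h₁, h₂, map_add, map_add]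
  | mul_X Q y h =>
    rw [map_mul, map_mul, h, map_mul, map_mul, MvPolynomial.aeval_X, MvPolynomial.map_X,
      MvPolynomial.aeval_X]

include hσ hσΓ hH in
/-- **Generators of the maximal ideal.** -/
theorem maximalIdeal_le
    (hΓ : EGA41.IsPIndependent p (⊥ : Subfield (ResidueField A))
      (Subtype.val : Γ → ResidueField A)) :
    maximalIdeal (Bq p f) ≤ idealI (p := p) (f := f) σ g H := by
  have hcharKB := charP_residueField_Bq (p := p) (f := f)
  have hg : ∀ y : Γ, residue A (f (g y)) = y := fun y => by rw [← hσΓ, hσ]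
  intro x hx
  obtain ⟨Q, hQ⟩ := exists_sub_aeval_mem (σ := σ) (g := g) H x
  have hQm : MvPolynomial.aeval (fun y => T p f (g y)) Q ∈ maximalIdeal (Bq p f) := by
    have := sub_mem hx (idealI_le hσ hσΓ H hH hQ)
    rwa [sub_sub_cancel] at this
  -- the presentation of `K[t_Γ]`
  have hxa : ∀ y : Γ, (residue (Bq p f) (T p f (g y))) ^ p =
      algebraMap (ResidueField A) (ResidueField (Bq p f)) (y : ResidueField A) := by
    intro y
    rw [← map_pow, T_pow, ← hg y]
    rfl
  have hli := li_redMon (Subtype.val : Γ → ResidueField A) hΓ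
    (fun y : Γ => residue (Bq p f) (T p f (g y))) hxa
  have hker := ker_aeval_eq hp.out.pos hxa hli
  have hmem : MvPolynomial.map (residue A) Q ∈
      relIdeal p (fun y : Γ => (y : ResidueField A)) := by
    rw [← hker, RingHom.mem_ker, ← residue_aeval]
    exact (residue_eq_zero_iff _).2 hQm
  -- lift the relation ideal
  let relIA : Ideal (MvPolynomial Γ A) :=
    Ideal.span (Set.range fun y : Γ => MvPolynomial.X y ^ p - MvPolynomial.C (f (g y)))
  have hmapI : relIdeal p (fun y : Γ => (y : ResidueField A)) =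
      Ideal.map (MvPolynomial.map (residue A)) relIA := by
    rw [relIdeal, Ideal.map_span]
    congr 1
    ext q
    constructor
    · rintro ⟨y, rfl⟩
      refine ⟨_, ⟨y, rfl⟩, ?_⟩
      rw [map_sub, map_pow, MvPolynomial.map_X, MvPolynomial.map_C, hg]
    · rintro ⟨_, ⟨y, rfl⟩, rfl⟩
      refine ⟨y, ?_⟩
      rw [map_sub, map_pow, MvPolynomial.map_X, MvPolynomial.map_C, hg]
  rw [hmapI, Ideal.mem_map_iff_of_surjective _
    (MvPolynomial.map_surjective _ residue_surjective)] at hmem
  obtain ⟨Q', hQ'I, hQ'⟩ := hmem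
  have hQ'0 : MvPolynomial.aeval (fun y => T p f (g y)) Q' = (0 : Bq p f) := by
    have hle : relIA ≤ RingHom.ker
        (MvPolynomial.aeval (fun y => T p f (g y)) : MvPolynomial Γ A →ₐ[A] Bq p f) := by
      rw [Ideal.span_le]
      rintro _ ⟨y, rfl⟩
      rw [SetLike.mem_coe, RingHom.mem_ker, map_sub, map_pow, MvPolynomial.aeval_X,
        MvPolynomial.aeval_C, T_pow, sub_self]
    exact hle hQ'I
  have hdiff : Q - Q' ∈ Ideal.map (MvPolynomial.C : A →+* MvPolynomial Γ A) (maximalIdeal A) := by
    rw [← ker_residue, ← MvPolynomial.ker_map, RingHom.mem_ker, map_sub, hQ', sub_self]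
  have hdiff' : MvPolynomial.aeval (fun y => T p f (g y)) (Q - Q') ∈
      Ideal.map (algebraMap A (Bq p f)) (maximalIdeal A) := by
    have hle : Ideal.map (MvPolynomial.C : A →+* MvPolynomial Γ A) (maximalIdeal A) ≤
        Ideal.comap (MvPolynomial.aeval (fun y => T p f (g y)) : MvPolynomial Γ A →ₐ[A] Bq p f)
          (Ideal.map (algebraMap A (Bq p f)) (maximalIdeal A)) := by
      rw [Ideal.map_le_iff_le_comap]
      intro a ha
      rw [Ideal.mem_comap, Ideal.mem_comap, MvPolynomial.aeval_C]
      exact Ideal.mem_map_of_mem _ ha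
    exact hle hdiff
  have hx_eq : x = (x - MvPolynomial.aeval (fun y => T p f (g y)) Q) +
      MvPolynomial.aeval (fun y => T p f (g y)) (Q - Q') := by
    rw [map_sub, hQ'0]; ring
  rw [hx_eq]
  exact add_mem hQ (Ideal.mem_sup_left hdiff')

end Span

end Groth.Agent.Lib.Helper88.PQuot
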