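import Mathlib
import Groth.Agent.Lib.Helper88.PQuotLocal
import Groth.Agent.Lib.Helper88.PQuotSpan
import Groth.Agent.Lib.Helper81.PBasis

/-!
# `k[T_1..T_r]/(T_i^p - γ_i)` for a `p`-independent family `γ` in a field `k` (helper88)

It is a field, finite over `k`, with all `p`-th powers in `k`; and its base change to a
`k`-algebra `A` is `A[T]/(T_i^p - γ_i)`.
-/

set_option autoImplicit false
universe u
set_option linter.unusedSectionVars false
open TensorProduct

namespace Groth.Agent.Lib.Helper88.FSField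

open Groth.Agent.Lib.Helper88.PQuot Groth.Agent.Lib.Helper81.PBasis

section Sub

variable {p : ℕ} {B : Type*} [CommRing B] {ι κ : Type*}

/-- the reindexing of reduced exponent vectors along an injective map -/
noncomputable def redMap (hp : 0 < p) (g : κ → ι) (hg : Function.Injective g) (e : Red κ p) :
    Red ι p :=
  ⟨e.1.mapDomain g, fun i => by
    by_cases hi : i ∈ Set.range g
    · obtain ⟨a, rfl⟩ := hi
      rw [Finsupp.mapDomain_apply hg]
      exact e.2 a
    · rw [Finsupp.mapDomain_of_notMem_range _ _ hi]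
      exact hp⟩

theorem redMap_injective (hp : 0 < p) (g : κ → ι) (hg : Function.Injective g) :
    Function.Injective (redMap hp g hg) := by
  intro e e' h
  apply Subtype.ext
  apply Finsupp.mapDomain_injective hg
  exact congrArg Subtype.val h

theorem redMon_comp (hp : 0 < p) (g : κ → ι) (hg : Function.Injective g) (t : ι → B)
    (e : Red κ p) : redMon p (t ∘ g) e = redMon p t (redMap hp g hg e) := by
  rw [redMon, redMon, redMap]
  dsimp only
  rw [Finsupp.prod_mapDomain_index_inj hg]
  rfl

end Sub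

section Field

variable {k : Type u} [Field k] {p : ℕ} [hp : Fact p.Prime] [CharP k p]

include hp in
/-- `p`-th roots of finitely many members of a `p`-independent family have independent reduced
monomials. -/
theorem li_redMon_sub {L : Type*} [Field L] [Algebra k L] [CharP L p]
    (Γ : Set k) (hΓ : EGA41.IsPIndependent p (⊥ : Subfield k) (Subtype.val : Γ → k))
    {r : ℕ} (g : Fin r → Γ) (hg : Function.Injective g) (t : Fin r → L)
    (ht : ∀ i, t i ^ p = algebraMap k L (g i : k)) (t' : Γ → L)
    (ht' : ∀ y : Γ, t' y ^ p = algebraMap k L (y : k)) :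
    LinearIndependent k (redMon p t) := by
  have hli : LinearIndependent k (redMon p t') := li_redMon (Subtype.val : Γ → k) hΓ t' ht'
  have htt : t = t' ∘ g := by
    funext i
    apply frobenius_inj L p
    rw [frobenius_def, frobenius_def, ht, Function.comp_apply, ht']
  have hfun : redMon p t = redMon p t' ∘ redMap hp.out.pos g hg := by
    funext e
    rw [htt, redMon_comp hp.out.pos g hg t' e]
    rfl
  rw [hfun]
  exact hli.comp _ (redMap_injective hp.out.pos g hg)

include hp in
/-- `k[T]/(T_i^p - γ_i)` is a field when the reduced monomials in `p`-th roots are independent. -/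
theorem isField_Bq {r : ℕ} (γ : Fin r → k)
    (h : ∀ t : Fin r → AlgebraicClosure k, (∀ i, t i ^ p = algebraMap k _ (γ i)) →
      LinearIndependent k (redMon p t)) : IsField (Bq p γ) := by
  choose t ht using fun i =>
    IsAlgClosed.exists_pow_nat_eq (algebraMap k (AlgebraicClosure k) (γ i)) hp.out.pos
  have hli := h t ht
  have hker : RingHom.ker (MvPolynomial.aeval t : MvPolynomial (Fin r) k →ₐ[k] AlgebraicClosure k) =
      relI p γ := ker_aeval_eq (R := k) (a := γ) (x := t) hp.out.pos ht hli
  let φ : MvPolynomial (Fin r) k →ₐ[k] AlgebraicClosure k := MvPolynomial.aeval t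
  have hT : IsField φ.range := Subalgebra.isField_of_algebraic φ.range
  have hker' : RingHom.ker φ.rangeRestrict = relI p γ := by
    rw [← hker]
    exact AlgHom.ker_rangeRestrict φ
  let e : Bq p γ ≃+* φ.range :=
    (Ideal.quotEquivOfEq hker'.symm).trans
      (Ideal.quotientKerAlgEquivOfSurjective (AlgHom.rangeRestrict_surjective φ)).toRingEquiv
  exact MulEquiv.isField hT e.toMulEquiv

include hp in
theorem pow_mem_range {r : ℕ} (γ : Fin r → k) (x : Bq p γ) :
    x ^ p ∈ (algebraMap k (Bq p γ)).range := by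
  obtain ⟨a, ha⟩ := PQuot.exists_pow_eq p γ x
  exact ⟨a, ha.symm⟩

include hp in
theorem finite_Bq {r : ℕ} (γ : Fin r → k) : Module.Finite k (Bq p γ) := by
  have hint : Algebra.IsIntegral k (Bq p γ) := by
    refine ⟨fun x => ?_⟩
    obtain ⟨a, ha⟩ := PQuot.exists_pow_eq p γ x
    refine ⟨Polynomial.X ^ p - Polynomial.C a, Polynomial.monic_X_pow_sub_C a hp.out.ne_zero, ?_⟩
    rw [Polynomial.eval₂_sub, Polynomial.eval₂_pow, Polynomial.eval₂_X, Polynomial.eval₂_C, ha,
      sub_self]
  exact Algebra.IsIntegral.finite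

end Field

section Tensor

variable {k A : Type u} [Field k] [CommRing A] [Algebra k A] (p : ℕ) {r : ℕ} (γ : Fin r → k)

theorem algebraMap_tmul_one (c : k) :
    (algebraMap k (Bq p γ) c) ⊗ₜ[k] (1 : A) = (1 : Bq p γ) ⊗ₜ[k] algebraMap k A c := by
  rw [Algebra.algebraMap_eq_smul_one, Algebra.algebraMap_eq_smul_one, TensorProduct.smul_tmul]

/-- the family `γ` in `A` -/
abbrev γA (A : Type u) [CommRing A] [Algebra k A] {r : ℕ} (γ : Fin r → k) : Fin r → A :=
  fun i => algebraMap k A (γ i)

/-- the ring map `k[T]/(T^p - γ) → A[T]/(T^p - γ)` -/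
noncomputable def leftRingHom : Bq p γ →+* Bq p (γA A γ) :=
  PQuot.lift p γ ((algebraMap A (Bq p (γA A γ))).comp (algebraMap k A))
    (T p (γA A γ)) (fun j => by rw [T_pow]; rfl)

theorem leftRingHom_T (j : Fin r) : leftRingHom (A := A) p γ (T p γ j) = T p (γA A γ) j :=
  lift_T _ _ _ j

theorem leftRingHom_algebraMap (c : k) :
    leftRingHom (A := A) p γ (algebraMap k (Bq p γ) c) =
      algebraMap A (Bq p (γA A γ)) (algebraMap k A c) :=
  lift_algebraMap _ _ _ c

/-- the map `k[T]/(T^p - γ) → A[T]/(T^p - γ)` -/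
noncomputable def leftHom : Bq p γ →ₐ[k] Bq p (γA A γ) :=
  { toRingHom := leftRingHom p γ
    commutes' := fun c => by
      change leftRingHom p γ (algebraMap k (Bq p γ) c) = _
      rw [leftRingHom_algebraMap]
      rfl }

theorem leftHom_apply (x : Bq p γ) : leftHom (A := A) p γ x = leftRingHom p γ x := rfl

/-- `k[T]/(T^p - γ) ⊗ A → A[T]/(T^p - γ)` -/
noncomputable def toBqA : Bq p γ ⊗[k] A →ₐ[k] Bq p (γA A γ) :=
  Algebra.TensorProduct.lift (leftHom p γ)
    (IsScalarTower.toAlgHom k A (Bq p (γA A γ)))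
    (fun _ _ => Commute.all _ _)

theorem toBqA_tmul (x : Bq p γ) (a : A) :
    toBqA p γ (x ⊗ₜ[k] a) = leftRingHom p γ x * algebraMap A (Bq p (γA A γ)) a := by
  rw [toBqA, Algebra.TensorProduct.lift_tmul, leftHom_apply]
  rfl

/-- `A[T]/(T^p - γ) → k[T]/(T^p - γ) ⊗ A` -/
noncomputable def fromBqA : Bq p (γA A γ) →+* Bq p γ ⊗[k] A :=
  PQuot.lift p (γA A γ)
    (Algebra.TensorProduct.includeRight : A →ₐ[k] Bq p γ ⊗[k] A).toRingHom
    (fun j => T p γ j ⊗ₜ[k] (1 : A)) (fun j => by
      rw [Algebra.TensorProduct.tmul_pow, one_pow, T_pow, algebraMap_tmul_one]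
      rfl)

theorem fromBqA_T (j : Fin r) : fromBqA (A := A) p γ (T p (γA A γ) j) = T p γ j ⊗ₜ[k] (1 : A) :=
  lift_T _ _ _ j

theorem fromBqA_algebraMap (a : A) :
    fromBqA (A := A) p γ (algebraMap A (Bq p (γA A γ)) a) = (1 : Bq p γ) ⊗ₜ[k] a :=
  lift_algebraMap _ _ _ a

theorem fromBqA_leftRingHom (x : Bq p γ) :
    fromBqA (A := A) p γ (leftRingHom p γ x) = x ⊗ₜ[k] (1 : A) := by
  have h : (fromBqA (A := A) p γ).comp (leftRingHom (A := A) p γ) =
      (Algebra.TensorProduct.includeLeft : Bq p γ →ₐ[k] Bq p γ ⊗[k] A).toRingHom := by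
    refine PQuot.ringHom_ext (p := p) (f := γ) (R := Bq p γ ⊗[k] A) ?_ ?_
    · intro c
      change fromBqA p γ (leftRingHom p γ (algebraMap k (Bq p γ) c)) =
        (algebraMap k (Bq p γ) c) ⊗ₜ[k] (1 : A)
      rw [leftRingHom_algebraMap, fromBqA_algebraMap, algebraMap_tmul_one]
    · intro j
      change fromBqA p γ (leftRingHom p γ (T p γ j)) = (T p γ j) ⊗ₜ[k] (1 : A)
      rw [leftRingHom_T, fromBqA_T]
  exact congrFun (congrArg DFunLike.coe h) x

/-- **Base change of the presentation.** -/
noncomputable def tensorEquiv : Bq p γ ⊗[k] A ≃+* Bq p (γA A γ) :=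
  RingEquiv.ofRingHom (toBqA p γ).toRingHom (fromBqA p γ)
    (by
      refine PQuot.ringHom_ext (p := p) (f := γA A γ) (R := Bq p (γA A γ)) ?_ ?_
      · intro a
        change toBqA p γ (fromBqA p γ (algebraMap A (Bq p (γA A γ)) a)) =
          algebraMap A (Bq p (γA A γ)) a
        rw [fromBqA_algebraMap, toBqA_tmul, map_one, one_mul]
      · intro j
        change toBqA p γ (fromBqA p γ (T p (γA A γ) j)) = T p (γA A γ) j
        rw [fromBqA_T, toBqA_tmul, map_one, mul_one, leftRingHom_T])
    (by
      refine RingHom.ext fun z => ?_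
      change fromBqA p γ (toBqA p γ z) = z
      induction z using TensorProduct.induction_on with
      | zero => rw [map_zero, map_zero]
      | tmul x a =>
        rw [toBqA_tmul, map_mul, fromBqA_leftRingHom, fromBqA_algebraMap,
          Algebra.TensorProduct.tmul_mul_tmul, mul_one, one_mul]
      | add x y hx hy => rw [map_add, map_add, hx, hy])

end Tensor

end Groth.Agent.Lib.Helper88.FSField
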