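import Mathlib

/-!
# Comparison lemmas for a local ring and its quotient by an ideal inside `m²` (helper88)

* `(1 : R ⧸ I) ⊗ x = 0 ↔ x ∈ I • ⊤`;
* linear independence of `1 ⊗ w_i` in `K ⊗_A M` in terms of `m • M`;
* `K ⊗ Ω_A` versus `K' ⊗ Ω_{A/J}` for `J ≤ m²`;
* embedding dimension is unchanged by a surjection with kernel inside `m²`.
-/

set_option autoImplicit false
set_option linter.unusedSectionVars false
universe u
open IsLocalRing TensorProduct

namespace Groth.Agent.Lib.Helper88.PQuotReg

section Tensor

variable {R : Type*} [CommRing R] (I : Ideal R) {M : Type*} [AddCommGroup M] [Module R M]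

theorem one_tmul_eq_zero_iff (x : M) :
    (1 : R ⧸ I) ⊗ₜ[R] x = 0 ↔ x ∈ I • (⊤ : Submodule R M) := by
  rw [← (TensorProduct.quotTensorEquivQuotSMul M I).map_eq_zero_iff,
    TensorProduct.quotTensorEquivQuotSMul_mk_one_tmul, Submodule.Quotient.mk_eq_zero]

end Tensor

section LI

variable {A : Type u} [CommRing A] [IsLocalRing A] {M : Type*} [AddCommGroup M] [Module A M]

theorem residue_smul_one_tmul (a : A) (w : M) :
    residue A a • ((1 : ResidueField A) ⊗ₜ[A] w) = (1 : ResidueField A) ⊗ₜ[A] (a • w) := by
  rw [TensorProduct.tmul_smul]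
  exact algebraMap_smul (ResidueField A) a _

theorem residueField_one_tmul_eq_zero_iff (x : M) :
    (1 : ResidueField A) ⊗ₜ[A] x = 0 ↔ x ∈ maximalIdeal A • (⊤ : Submodule A M) :=
  one_tmul_eq_zero_iff (maximalIdeal A) x

theorem li_one_tmul_iff {ι : Type*} [Fintype ι] (w : ι → M) :
    LinearIndependent (ResidueField A) (fun i => (1 : ResidueField A) ⊗ₜ[A] w i) ↔
      ∀ a : ι → A, ∑ i, a i • w i ∈ maximalIdeal A • (⊤ : Submodule A M) →
        ∀ i, a i ∈ maximalIdeal A := by
  rw [Fintype.linearIndependent_iff]
  have key : ∀ a : ι → A, ∑ i, residue A (a i) • ((1 : ResidueField A) ⊗ₜ[A] w i) =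
      (1 : ResidueField A) ⊗ₜ[A] (∑ i, a i • w i) := by
    intro a
    rw [TensorProduct.tmul_sum]
    exact Finset.sum_congr rfl fun i _ => residue_smul_one_tmul (a i) (w i)
  constructor
  · intro h a ha i
    have h1 := h (fun i => residue A (a i)) (by
      rw [key, residueField_one_tmul_eq_zero_iff]; exact ha) i
    exact (residue_eq_zero_iff _).1 h1
  · intro h c hc i
    choose a ha using fun i => residue_surjective (c i)
    have h1 : ∑ i, residue A (a i) • ((1 : ResidueField A) ⊗ₜ[A] w i) = 0 := by
      rw [← hc]
      exact Finset.sum_congr rfl fun i _ => by rw [ha i]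
    rw [key, residueField_one_tmul_eq_zero_iff] at h1
    rw [← ha i, residue_eq_zero_iff]
    exact h a h1 i

end LI

section Span

variable {R S : Type u} [CommRing R] [CommRing S] [IsLocalRing R] [IsLocalRing S]

theorem maximalIdeal_map_of_surjective (f : R →+* S) (hf : Function.Surjective f) :
    (maximalIdeal R).map f = maximalIdeal S := by
  rcases Ideal.map_eq_top_or_isMaximal_of_surjective f hf (maximalIdeal.isMaximal R) with h | h
  · exfalso
    have h1 : (1 : S) ∈ (maximalIdeal R).map f := by rw [h]; trivial
    obtain ⟨r, hr, hr1⟩ := (Ideal.mem_map_iff_of_surjective f hf).mp h1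
    have hu : IsUnit (1 - r) := by
      by_contra hnu
      have h2 : 1 - r ∈ maximalIdeal R := (mem_maximalIdeal _).mpr hnu
      have : (1 : R) ∈ maximalIdeal R := by
        have := Ideal.add_mem _ h2 hr
        rwa [sub_add_cancel] at this
      exact (maximalIdeal.isMaximal R).ne_top ((Ideal.eq_top_iff_one _).mpr this)
    have h0 : f (1 - r) = 0 := by rw [map_sub, map_one, hr1, sub_self]
    have := hu.map f
    rw [h0] at this
    exact not_isUnit_zero this
  · exact IsLocalRing.eq_maximalIdeal h

theorem mem_maximalIdeal_iff_of_surjective (f : R →+* S) (hf : Function.Surjective f) (x : R) :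
    f x ∈ maximalIdeal S ↔ x ∈ maximalIdeal R := by
  constructor
  · intro h
    by_contra hx
    have hu : IsUnit x := by
      rw [mem_maximalIdeal, mem_nonunits_iff, not_not] at hx
      exact hx
    exact (mem_maximalIdeal _).1 h (hu.map f)
  · intro h
    rw [← maximalIdeal_map_of_surjective f hf]
    exact Ideal.mem_map_of_mem f h

/-- a surjection of local rings whose kernel lies in `m²` preserves the embedding dimension -/
theorem spanFinrank_maximalIdeal_eq_of_surjective [IsNoetherianRing R] (f : R →+* S)
    (hf : Function.Surjective f) (hker : RingHom.ker f ≤ maximalIdeal R ^ 2) :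
    (maximalIdeal R).spanFinrank = (maximalIdeal S).spanFinrank := by
  classical
  have hS : IsNoetherianRing S := isNoetherianRing_of_surjective R S f hf
  apply le_antisymm
  · obtain ⟨s, hscard, hs⟩ := Submodule.FG.exists_span_finset_card_eq_spanFinrank
      (maximalIdeal S).fg_of_isNoetherianRing
    let t : Finset R := s.image (Function.surjInv hf)
    have hts : f '' (t : Set R) = (s : Set S) := by
      ext y
      simp only [t, Finset.coe_image, Set.mem_image, Finset.mem_coe]
      constructor
      · rintro ⟨x, ⟨z, hz, rfl⟩, rfl⟩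
        rw [Function.surjInv_eq hf]; exact hz
      · intro hy
        exact ⟨_, ⟨y, hy, rfl⟩, Function.surjInv_eq hf y⟩
    have hmap : (Ideal.span (t : Set R)).map f = (maximalIdeal R).map f := by
      rw [Ideal.map_span, hts, maximalIdeal_map_of_surjective _ hf]
      exact hs
    have hcomap := congrArg (Ideal.comap f) hmap
    rw [Ideal.comap_map_of_surjective _ hf, Ideal.comap_map_of_surjective _ hf,
      ← RingHom.ker_eq_comap_bot] at hcomap
    have hnm : RingHom.ker f ≤ maximalIdeal R := hker.trans (Ideal.pow_le_self two_ne_zero)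
    have hle : maximalIdeal R ≤ Ideal.span (t : Set R) := by
      apply Submodule.le_of_le_smul_of_le_jacobson_bot (maximalIdeal R).fg_of_isNoetherianRing
        (IsLocalRing.jacobson_eq_maximalIdeal _ bot_ne_top).ge
      calc maximalIdeal R ≤ maximalIdeal R ⊔ RingHom.ker f := le_sup_left
        _ = Ideal.span (t : Set R) ⊔ RingHom.ker f := hcomap.symm
        _ ≤ Ideal.span (t : Set R) ⊔ maximalIdeal R • maximalIdeal R := by
          refine sup_le_sup_left ?_ _
          rw [smul_eq_mul, ← pow_two]; exact hker
    have hge : Ideal.span (t : Set R) ≤ maximalIdeal R := by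
      calc Ideal.span (t : Set R) ≤ Ideal.span (t : Set R) ⊔ RingHom.ker f := le_sup_left
        _ = maximalIdeal R ⊔ RingHom.ker f := hcomap
        _ ≤ maximalIdeal R := sup_le le_rfl hnm
    have heq : maximalIdeal R = Ideal.span (t : Set R) := le_antisymm hle hge
    calc (maximalIdeal R).spanFinrank = (Ideal.span (t : Set R)).spanFinrank := by rw [← heq]
      _ ≤ (t : Set R).ncard := Submodule.spanFinrank_span_le_ncard_of_finite t.finite_toSet
      _ = t.card := Set.ncard_coe_finset t
      _ ≤ s.card := Finset.card_image_le
      _ = (maximalIdeal S).spanFinrank := hscard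
  · obtain ⟨s, hscard, hs⟩ := Submodule.FG.exists_span_finset_card_eq_spanFinrank
      (maximalIdeal R).fg_of_isNoetherianRing
    have h1 : maximalIdeal S = Ideal.span (f '' (s : Set R)) := by
      rw [← maximalIdeal_map_of_surjective f hf, ← Ideal.map_span]
      congr 1
      exact hs.symm
    calc (maximalIdeal S).spanFinrank = (Ideal.span (f '' (s : Set R))).spanFinrank := by rw [← h1]
      _ ≤ (f '' (s : Set R)).ncard :=
        Submodule.spanFinrank_span_le_ncard_of_finite (s.finite_toSet.image f)
      _ ≤ (s : Set R).ncard := Set.ncard_image_le s.finite_toSet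
      _ = s.card := Set.ncard_coe_finset s
      _ = (maximalIdeal R).spanFinrank := hscard

/-- the same for cotangent spaces -/
theorem finrank_cotangentSpace_eq_of_surjective [IsNoetherianRing R] (f : R →+* S)
    (hf : Function.Surjective f) (hker : RingHom.ker f ≤ maximalIdeal R ^ 2) :
    Module.finrank (ResidueField R) (CotangentSpace R) =
      Module.finrank (ResidueField S) (CotangentSpace S) := by
  have hS : IsNoetherianRing S := isNoetherianRing_of_surjective R S f hf
  rw [← IsLocalRing.spanFinrank_maximalIdeal_eq_finrank_cotangentSpace,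
    ← IsLocalRing.spanFinrank_maximalIdeal_eq_finrank_cotangentSpace]
  exact spanFinrank_maximalIdeal_eq_of_surjective f hf hker

end Span

end Groth.Agent.Lib.Helper88.PQuotReg
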