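import Mathlib
import Groth.Agent.Lib.Helper88.PQuotReg

/-!
# `K ⊗ Ω_A` versus `K' ⊗ Ω_{A/J}` for `J ≤ m²` (helper88)
-/

set_option autoImplicit false
set_option linter.unusedSectionVars false
universe u
open IsLocalRing TensorProduct

namespace Groth.Agent.Lib.Helper88.PQuotReg

section Kaehler

variable {A : Type u} [CommRing A] [IsLocalRing A]

theorem D_mem_of_mem_sq (x : A) (hx : x ∈ maximalIdeal A ^ 2) :
    KaehlerDifferential.D ℤ A x ∈ maximalIdeal A • (⊤ : Submodule A Ω[A⁄ℤ]) := by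
  rw [pow_two] at hx
  refine Submodule.mul_induction_on
    (C := fun x => KaehlerDifferential.D ℤ A x ∈ maximalIdeal A • (⊤ : Submodule A Ω[A⁄ℤ])) hx ?_ ?_
  · intro y hy z hz
    rw [Derivation.leibniz]
    exact add_mem (Submodule.smul_mem_smul hy trivial) (Submodule.smul_mem_smul hz trivial)
  · intro y z hy hz
    rw [map_add]
    exact add_mem hy hz

variable (J : Ideal A) (hJ : J ≤ maximalIdeal A ^ 2)

include hJ in
theorem ker_map_le :
    LinearMap.ker (KaehlerDifferential.map ℤ ℤ A (A ⧸ J)) ≤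
      maximalIdeal A • (⊤ : Submodule A Ω[A⁄ℤ]) := by
  intro v hv
  have hex := KaehlerDifferential.exact_kerCotangentToTensor_mapBaseChange ℤ A (A ⧸ J)
    Ideal.Quotient.mk_surjective
  have h0 : KaehlerDifferential.mapBaseChange ℤ A (A ⧸ J) ((1 : A ⧸ J) ⊗ₜ[A] v) = 0 := by
    rw [KaehlerDifferential.mapBaseChange_tmul, LinearMap.mem_ker.1 hv, smul_zero]
  obtain ⟨c, hc⟩ := (hex _).1 h0
  obtain ⟨x, rfl⟩ := Ideal.toCotangent_surjective _ c
  rw [KaehlerDifferential.kerCotangentToTensor_toCotangent] at hc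
  have hxJ : (x : A) ∈ J := by
    have h := x.2
    rw [RingHom.mem_ker] at h
    have h' : Ideal.Quotient.mk J (x : A) = 0 := h
    exact Ideal.Quotient.eq_zero_iff_mem.1 h'
  have h1 : (1 : A ⧸ J) ⊗ₜ[A] (v - KaehlerDifferential.D ℤ A (x : A)) = 0 := by
    rw [TensorProduct.tmul_sub, hc, sub_self]
  rw [one_tmul_eq_zero_iff] at h1
  have h2 : v - KaehlerDifferential.D ℤ A (x : A) ∈ maximalIdeal A • (⊤ : Submodule A Ω[A⁄ℤ]) :=
    Submodule.smul_mono_left (hJ.trans (Ideal.pow_le_self two_ne_zero)) h1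
  have h3 := D_mem_of_mem_sq (x : A) (hJ hxJ)
  have := add_mem h2 h3
  rwa [sub_add_cancel] at this

variable [IsLocalRing (A ⧸ J)]

include hJ in
theorem mem_smul_top_iff (w : Ω[A⁄ℤ]) :
    w ∈ maximalIdeal A • (⊤ : Submodule A Ω[A⁄ℤ]) ↔
      KaehlerDifferential.map ℤ ℤ A (A ⧸ J) w ∈
        maximalIdeal (A ⧸ J) • (⊤ : Submodule (A ⧸ J) Ω[(A ⧸ J)⁄ℤ]) := by
  have hsurj : Function.Surjective (Ideal.Quotient.mk J) := Ideal.Quotient.mk_surjective
  constructor
  · intro h
    refine Submodule.smul_induction_on (p := fun w => KaehlerDifferential.map ℤ ℤ A (A ⧸ J) w ∈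
        maximalIdeal (A ⧸ J) • (⊤ : Submodule (A ⧸ J) Ω[(A ⧸ J)⁄ℤ])) h ?_ ?_
    · intro x hx n _
      rw [map_smul, ← algebraMap_smul (A ⧸ J) x]
      refine Submodule.smul_mem_smul ?_ trivial
      exact (mem_maximalIdeal_iff_of_surjective (Ideal.Quotient.mk J) hsurj x).2 hx
    · intro y z hy hz
      rw [map_add]
      exact add_mem hy hz
  · intro h
    have hex : ∃ w'' ∈ maximalIdeal A • (⊤ : Submodule A Ω[A⁄ℤ]),
        KaehlerDifferential.map ℤ ℤ A (A ⧸ J) w'' = KaehlerDifferential.map ℤ ℤ A (A ⧸ J) w := by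
      refine Submodule.smul_induction_on (p := fun z => ∃ w'' ∈ maximalIdeal A •
        (⊤ : Submodule A Ω[A⁄ℤ]), KaehlerDifferential.map ℤ ℤ A (A ⧸ J) w'' = z) h ?_ ?_
      · intro xb hxb z' _
        obtain ⟨x, rfl⟩ := hsurj xb
        have hx : x ∈ maximalIdeal A :=
          (mem_maximalIdeal_iff_of_surjective (Ideal.Quotient.mk J) hsurj x).1 hxb
        obtain ⟨w', rfl⟩ := KaehlerDifferential.map_surjective_of_surjective ℤ ℤ A (A ⧸ J)
          hsurj z'
        refine ⟨x • w', Submodule.smul_mem_smul hx trivial, ?_⟩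
        rw [map_smul, ← algebraMap_smul (A ⧸ J) x]
        rfl
      · rintro y z ⟨wy, hwy, rfl⟩ ⟨wz, hwz, rfl⟩
        exact ⟨wy + wz, add_mem hwy hwz, map_add _ _ _⟩
    obtain ⟨w'', hw'', hmap⟩ := hex
    have hker : w - w'' ∈ LinearMap.ker (KaehlerDifferential.map ℤ ℤ A (A ⧸ J)) := by
      rw [LinearMap.mem_ker, map_sub, hmap, sub_self]
    have := add_mem (ker_map_le J hJ hker) hw''
    rwa [sub_add_cancel] at this

include hJ in
/-- **Independence of differentials passes to `A ⧸ J` for `J ≤ m²`.** -/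
theorem li_iff_quotient {r : ℕ} (f : Fin r → A) :
    LinearIndependent (ResidueField A)
      (fun i => (1 : ResidueField A) ⊗ₜ[A] KaehlerDifferential.D ℤ A (f i)) ↔
    LinearIndependent (ResidueField (A ⧸ J))
      (fun i => (1 : ResidueField (A ⧸ J)) ⊗ₜ[A ⧸ J]
        KaehlerDifferential.D ℤ (A ⧸ J) (Ideal.Quotient.mk J (f i))) := by
  have hsurj : Function.Surjective (Ideal.Quotient.mk J) := Ideal.Quotient.mk_surjective
  rw [li_one_tmul_iff, li_one_tmul_iff]
  have hmap : ∀ a : Fin r → A, KaehlerDifferential.map ℤ ℤ A (A ⧸ J)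
      (∑ i, a i • KaehlerDifferential.D ℤ A (f i)) =
      ∑ i, Ideal.Quotient.mk J (a i) •
        KaehlerDifferential.D ℤ (A ⧸ J) (Ideal.Quotient.mk J (f i)) := by
    intro a
    rw [map_sum]
    refine Finset.sum_congr rfl fun i _ => ?_
    rw [map_smul, KaehlerDifferential.map_D, ← algebraMap_smul (A ⧸ J) (a i)]
    rfl
  constructor
  · intro h ab hab i
    choose a ha using fun i => hsurj (ab i)
    have h1 : ∑ i, a i • KaehlerDifferential.D ℤ A (f i) ∈
        maximalIdeal A • (⊤ : Submodule A Ω[A⁄ℤ]) := by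
      rw [mem_smul_top_iff J hJ, hmap]
      convert hab using 1
      exact Finset.sum_congr rfl fun i _ => by rw [ha i]
    rw [← ha i]
    exact (mem_maximalIdeal_iff_of_surjective (Ideal.Quotient.mk J) hsurj _).2 (h a h1 i)
  · intro h a ha i
    rw [mem_smul_top_iff J hJ, hmap] at ha
    exact (mem_maximalIdeal_iff_of_surjective (Ideal.Quotient.mk J) hsurj _).1
      (h (fun i => Ideal.Quotient.mk J (a i)) ha i)

end Kaehler

end Groth.Agent.Lib.Helper88.PQuotReg
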