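import Mathlib
import Groth.Agent.Lib.Helper88.PQuotSpan

/-!
# `A[T]/(T_i^p - f_i)`: the embedding dimension (helper88)
-/

set_option autoImplicit false
set_option linter.unusedSectionVars false
universe u
open IsLocalRing TrivSqZeroExt

namespace Groth.Agent.Lib.Helper88.PQuot

section Complement

variable {A : Type u} [CommRing A] [IsLocalRing A] [IsNoetherianRing A] {ι : Type*}

/-- complementary generators and coordinates for a family in the maximal ideal -/
theorem exists_complement (μ : ι → A) (hμ : ∀ i, μ i ∈ maximalIdeal A) :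
    ∃ (e : ℕ) (y : Fin e → A) (hy : ∀ k, y k ∈ maximalIdeal A)
      (ℓ₀ : maximalIdeal A →ₗ[A] (Fin e → ResidueField A)),
      e + Module.finrank (ResidueField A) (Submodule.span (ResidueField A)
        (Set.range fun i => (maximalIdeal A).toCotangent ⟨μ i, hμ i⟩)) =
          Module.finrank (ResidueField A) (CotangentSpace A) ∧
      (∀ i, ℓ₀ ⟨μ i, hμ i⟩ = 0) ∧ (∀ k, ℓ₀ ⟨y k, hy k⟩ = Pi.single k 1) ∧
      Ideal.span (Set.range y ∪ Set.range μ) = maximalIdeal A := by
  classical
  let v : ι → CotangentSpace A := fun i => (maximalIdeal A).toCotangent ⟨μ i, hμ i⟩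
  let W : Submodule (ResidueField A) (CotangentSpace A) := Submodule.span _ (Set.range v)
  have hsum := Submodule.finrank_quotient_add_finrank W
  let b := Module.finBasis (ResidueField A) (CotangentSpace A ⧸ W)
  choose u hu using fun j => Submodule.mkQ_surjective W (b j)
  choose z' hz' using fun j => Ideal.toCotangent_surjective (maximalIdeal A) (u j)
  let S : Set (maximalIdeal A) := Set.range z' ∪ Set.range (fun i => (⟨μ i, hμ i⟩ : maximalIdeal A))
  have hWle : W ≤ Submodule.span (ResidueField A) ((maximalIdeal A).toCotangent '' S) := by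
    apply Submodule.span_mono
    rintro _ ⟨i, rfl⟩
    exact ⟨⟨μ i, hμ i⟩, Or.inr ⟨i, rfl⟩, rfl⟩
  have hspan : Submodule.span (ResidueField A) ((maximalIdeal A).toCotangent '' S) = ⊤ := by
    rw [eq_top_iff]
    intro y _
    have h1 : W.mkQ y = W.mkQ (∑ j, b.repr (W.mkQ y) j • u j) := by
      rw [map_sum]
      conv_lhs => rw [← b.sum_repr (W.mkQ y)]
      exact Finset.sum_congr rfl fun j _ => by rw [map_smul, hu j]
    have h2 : y - ∑ j, b.repr (W.mkQ y) j • u j ∈ W := (Submodule.Quotient.eq W).mp h1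
    have h3 : y = (y - ∑ j, b.repr (W.mkQ y) j • u j) + ∑ j, b.repr (W.mkQ y) j • u j := by abel
    rw [h3]
    refine add_mem (hWle h2) (Submodule.sum_mem _ fun j _ => Submodule.smul_mem _ _ ?_)
    exact Submodule.subset_span ⟨z' j, Or.inl ⟨j, rfl⟩, hz' j⟩
  have hS : Submodule.span A S = ⊤ := CotangentSpace.span_image_eq_top_iff.mp hspan
  let ℓ₀ : maximalIdeal A →ₗ[A] (Fin _ → ResidueField A) :=
    ((b.equivFun.toLinearMap ∘ₗ W.mkQ).restrictScalars A) ∘ₗ (maximalIdeal A).toCotangent
  have hℓ₀ : ∀ x, ℓ₀ x = b.equivFun (W.mkQ ((maximalIdeal A).toCotangent x)) := fun _ => rfl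
  refine ⟨_, fun j => (z' j : A), fun j => (z' j).2, ℓ₀, ?_, ?_, ?_, ?_⟩
  · exact hsum
  · intro i
    rw [hℓ₀]
    have : W.mkQ ((maximalIdeal A).toCotangent ⟨μ i, hμ i⟩) = 0 := by
      rw [Submodule.mkQ_apply, Submodule.Quotient.mk_eq_zero]
      exact Submodule.subset_span ⟨i, rfl⟩
    rw [this, map_zero]
  · intro k
    rw [hℓ₀]
    have : (⟨(z' k : A), (z' k).2⟩ : maximalIdeal A) = z' k := rfl
    rw [this, hz', hu]
    ext k'
    rw [Module.Basis.equivFun_apply, Module.Basis.repr_self, Finsupp.single_apply,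
      Pi.single_apply]
    simp only [eq_comm]
  · have h4 : (Submodule.span A S).map (maximalIdeal A).subtype = maximalIdeal A := by
      rw [hS, Submodule.map_subtype_top]
    rw [Submodule.map_span] at h4
    have h5 : (maximalIdeal A).subtype '' S =
        (Set.range fun j => (z' j : A)) ∪ Set.range μ := by
      ext y
      constructor
      · rintro ⟨w, hw | hw, rfl⟩
        · obtain ⟨j, rfl⟩ := hw; exact Or.inl ⟨j, rfl⟩
        · obtain ⟨i, rfl⟩ := hw; exact Or.inr ⟨i, rfl⟩
      · rintro (⟨j, rfl⟩ | ⟨i, rfl⟩)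
        · exact ⟨z' j, Or.inl ⟨j, rfl⟩, rfl⟩
        · exact ⟨⟨μ i, hμ i⟩, Or.inr ⟨i, rfl⟩, rfl⟩
    rw [h5] at h4
    exact h4

end Complement

section Count

variable {A : Type u} [CommRing A] [IsLocalRing A] [IsNoetherianRing A] {p : ℕ} [hp : Fact p.Prime]
  [CharP A p] [CharP (ResidueField A) p]
  {r : ℕ} {f : Fin r → A} [IsLocalRing (Bq p f)] [IsLocalHom (algebraMap A (Bq p f))]
  {σ : ResidueField A →+* A} {Γ : Set (ResidueField A)} {g : Γ → Fin r}
  (hσ : ∀ c, residue A (σ c) = c) (hσΓ : ∀ y : Γ, σ y = f (g y))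
  (hm : maximalIdeal A ^ 2 = ⊥)
  (H : Fin r → MvPolynomial Γ (ResidueField A))
  (hH : ∀ j, frobEval p Γ (H j) = residue A (f j))
  (hΓ : EGA41.IsPIndependent p (⊥ : Subfield (ResidueField A))
      (Subtype.val : Γ → ResidueField A))

include hσΓ hm H hH hΓ in
/-- **The embedding dimension of `A[T]/(T_i^p - f_i)`.** -/
theorem finrank_cotangentSpace_Bq :
    Module.finrank (ResidueField (Bq p f)) (CotangentSpace (Bq p f)) +
      Module.finrank (ResidueField A) (Submodule.span (ResidueField A)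
        (Set.range fun j : {j : Fin r // j ∉ Set.range g} =>
          (maximalIdeal A).toCotangent ⟨nu σ (f j.1), nu_mem hσ (f j.1)⟩)) =
    Module.finrank (ResidueField A) (CotangentSpace A) +
      Nat.card {j : Fin r // j ∉ Set.range g} := by
  classical
  obtain ⟨e, y, hy, ℓ₀, hfin, hℓμ, hℓy, hspanA⟩ :=
    exists_complement (fun j : {j : Fin r // j ∉ Set.range g} => nu σ (f j.1))
      (fun j => nu_mem hσ (f j.1))
  -- the linear map
  let incl : ResidueField A →ₗ[A] ResidueField (Bq p f) :=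
    (Algebra.linearMap (ResidueField A) (ResidueField (Bq p f))).restrictScalars A
  let ℓ : maximalIdeal A →ₗ[A] (Fin e ⊕ {j : Fin r // j ∉ Set.range g} → ResidueField (Bq p f)) :=
    LinearMap.pi (fun i => Sum.elim (fun k => incl ∘ₗ (LinearMap.proj k) ∘ₗ ℓ₀) (fun _ => 0) i)
  have hℓl : ∀ x k, ℓ x (Sum.inl k) =
      algebraMap (ResidueField A) (ResidueField (Bq p f)) (ℓ₀ x k) := fun _ _ => rfl
  have hℓr : ∀ x j, ℓ x (Sum.inr j) = 0 := fun _ _ => rfl
  have hℓ : ∀ j, ℓ ⟨nu σ (f j), nu_mem hσ (f j)⟩ = 0 := by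
    intro j
    by_cases h : j ∈ Set.range g
    · obtain ⟨y, rfl⟩ := h
      have : (⟨nu σ (f (g y)), nu_mem hσ (f (g y))⟩ : maximalIdeal A) = 0 :=
        Subtype.ext (show nu σ (f (g y)) = 0 by rw [← hσΓ]; exact nu_sigma hσ _)
      rw [this, map_zero]
    · funext i
      rcases i with k | j'
      · rw [hℓl, hℓμ ⟨j, h⟩]
        simp
      · rw [hℓr]; rfl
  let n : Fin r → (Fin e ⊕ {j : Fin r // j ∉ Set.range g} → ResidueField (Bq p f)) := fun j =>
    if h : j ∈ Set.range g then 0 else Pi.single (Sum.inr ⟨j, h⟩) 1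
  have hn : ∀ y : Γ, n (g y) = 0 := fun y => dif_pos ⟨y, rfl⟩
  let x : Fin e ⊕ {j : Fin r // j ∉ Set.range g} → Bq p f :=
    Sum.elim (fun k => algebraMap A (Bq p f) (y k)) (fun j => U σ g H j.1)
  have hx : ∀ i, x i ∈ maximalIdeal (Bq p f) := by
    rintro (k | j)
    · exact algebraMap_mem_maximalIdeal (hy k)
    · exact U_mem hσ H hH hσΓ j.1
  have hsnd : ∀ i, (phi hσ hm ℓ hℓ n (x i)).snd = Pi.single i 1 := by
    rintro (k | j)
    · show (phi hσ hm ℓ hℓ n (algebraMap A (Bq p f) (y k))).snd = _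
      rw [phi_snd_algebraMap_of_mem hσ hm ℓ hℓ n (hy k)]
      funext i
      rcases i with k' | j'
      · rw [hℓl, hℓy]
        by_cases hk : k' = k
        · subst hk; simp
        · rw [Pi.single_eq_of_ne hk, Pi.single_eq_of_ne (by simpa using hk), map_zero]
      · rw [hℓr, Pi.single_eq_of_ne (by simp)]
    · show (phi hσ hm ℓ hℓ n (U σ g H j.1)).snd = _
      rw [phi_snd_U hσ H hm ℓ hℓ n hn]
      simp only [n, dif_neg j.2]
  -- linear independence
  have hli : LinearIndependent (ResidueField (Bq p f))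
      (fun i => (maximalIdeal (Bq p f)).toCotangent ⟨x i, hx i⟩) := by
    apply li_cotangent_of x hx
    intro a ha i
    have h0 := phi_snd_of_mem_sq hσ hm ℓ hℓ n ha
    rw [map_sum, snd_sum] at h0
    have h1 : ∀ i', (phi hσ hm ℓ hℓ n (a i' * x i')).snd = residue (Bq p f) (a i') • Pi.single i' 1 := by
      intro i'
      rw [phi_snd_mul, hsnd, (residue_eq_zero_iff (x i')).2 (hx i'), zero_smul, add_zero]
    simp only [h1] at h0
    have h2 := congrFun h0 i
    rw [Finset.sum_apply, Finset.sum_eq_single i] at h2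
    · rw [← residue_eq_zero_iff]
      simpa using h2
    · intro i' _ hne
      rw [Pi.smul_apply, Pi.single_eq_of_ne hne.symm, smul_zero]
    · intro hi
      exact absurd (Finset.mem_univ i) hi
  -- spanning
  have hspanI : Ideal.span (Set.range x) = maximalIdeal (Bq p f) := by
    apply le_antisymm
    · rw [Ideal.span_le]
      rintro _ ⟨i, rfl⟩
      exact hx i
    · refine (maximalIdeal_le hσ hσΓ H hH hΓ).trans ?_
      rw [idealI]
      refine sup_le ?_ ?_
      · rw [Ideal.map_le_iff_le_comap, ← hspanA, Ideal.span_le]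
        rintro _ (⟨k, rfl⟩ | ⟨j, rfl⟩)
        · exact Ideal.subset_span ⟨Sum.inl k, rfl⟩
        · show algebraMap A (Bq p f) (nu σ (f j.1)) ∈ Ideal.span (Set.range x)
          rw [← U_pow H hH hσΓ]
          exact Ideal.pow_mem_of_mem _ (Ideal.subset_span (Set.mem_range_self (f := x) (Sum.inr j))) p
            hp.out.pos
      · rw [Ideal.span_le]
        rintro _ ⟨j, rfl⟩
        exact Ideal.subset_span ⟨Sum.inr j, rfl⟩
  have hspanS : Submodule.span (Bq p f)
      (Set.range fun i => (⟨x i, hx i⟩ : maximalIdeal (Bq p f))) = ⊤ := by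
    apply Submodule.map_injective_of_injective (maximalIdeal (Bq p f)).subtype_injective
    rw [Submodule.map_span, Submodule.map_subtype_top, ← Set.range_comp]
    exact hspanI
  have hspanC : Submodule.span (ResidueField (Bq p f))
      (Set.range fun i => (maximalIdeal (Bq p f)).toCotangent ⟨x i, hx i⟩) = ⊤ := by
    have := CotangentSpace.span_image_eq_top_iff.mpr hspanS
    rwa [← Set.range_comp] at this
  have hcard : Module.finrank (ResidueField (Bq p f)) (CotangentSpace (Bq p f)) =
      e + Nat.card {j : Fin r // j ∉ Set.range g} := by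
    rw [Module.finrank_eq_card_basis (Module.Basis.mk hli hspanC.ge), Fintype.card_sum,
      Fintype.card_fin, Nat.card_eq_fintype_card]
  rw [hcard, ← hfin]
  ring

end Count

end Groth.Agent.Lib.Helper88.PQuot
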