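import Mathlib
import Groth.Agent.Lib.Helper88.PQuotCount
import Groth.Agent.S2468

/-!
# `A[T]/(T_i^p - f_i)`: the differential criterion (helper88)

Linear independence of the `1 ⊗ d f_i` in `K ⊗_A Ω_{A/ℤ}` in terms of a coefficient field.
-/

set_option autoImplicit false
set_option linter.unusedSectionVars false
universe u
open IsLocalRing TensorProduct

namespace Groth.Agent.Lib.Helper88.PQuot

open Groth.Agent.Lib.Helper81.PBasis Groth.Agent.Lib.Helper81.PBasisEGA

section TensorLift

variable {A : Type u} [CommRing A] [IsLocalRing A]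

/-- a derivation into a module over the residue field gives a linear map on `K ⊗ Ω` -/
noncomputable def tensorLift {M : Type*} [AddCommGroup M] [Module A M] [Module (ResidueField A) M]
    [IsScalarTower A (ResidueField A) M] (D' : Derivation ℤ A M) :
    ResidueField A ⊗[A] Ω[A⁄ℤ] →ₗ[ResidueField A] M :=
  LinearMap.liftBaseChange (ResidueField A) D'.liftKaehlerDifferential

theorem tensorLift_tmul {M : Type*} [AddCommGroup M] [Module A M] [Module (ResidueField A) M]
    [IsScalarTower A (ResidueField A) M] (D' : Derivation ℤ A M) (a : A) :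
    tensorLift D' ((1 : ResidueField A) ⊗ₜ[A] KaehlerDifferential.D ℤ A a) = D' a := by
  rw [tensorLift, LinearMap.liftBaseChange_tmul, one_smul,
    Derivation.liftKaehlerDifferential_comp_D]

theorem tmul_smul_eq (a : A) (w : Ω[A⁄ℤ]) :
    (1 : ResidueField A) ⊗ₜ[A] (a • w) = residue A a • ((1 : ResidueField A) ⊗ₜ[A] w) := by
  rw [TensorProduct.tmul_smul]
  exact (algebraMap_smul (ResidueField A) a _).symm

theorem tmul_D_mul (a b : A) :
    (1 : ResidueField A) ⊗ₜ[A] KaehlerDifferential.D ℤ A (a * b) =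
      residue A a • ((1 : ResidueField A) ⊗ₜ[A] KaehlerDifferential.D ℤ A b) +
        residue A b • ((1 : ResidueField A) ⊗ₜ[A] KaehlerDifferential.D ℤ A a) := by
  rw [Derivation.leibniz, TensorProduct.tmul_add, tmul_smul_eq, tmul_smul_eq]

/-- a derivation of the residue field, viewed on `A` -/
noncomputable def residueDeriv {P : Type*} [CommRing P] [Algebra P (ResidueField A)]
    {M : Type*} [AddCommGroup M] [Module (ResidueField A) M] [Module P M]
    [IsScalarTower P (ResidueField A) M] [Module A M] [IsScalarTower A (ResidueField A) M]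
    (d : Derivation P (ResidueField A) M) : Derivation ℤ A M :=
  Derivation.mk'
    ((d.toLinearMap.toAddMonoidHom.comp (residue A).toAddMonoidHom).toIntLinearMap)
    (fun a b => by
      show d (residue A (a * b)) = a • d (residue A b) + b • d (residue A a)
      rw [map_mul, d.leibniz, ← algebraMap_smul (ResidueField A) a,
        ← algebraMap_smul (ResidueField A) b]
      rfl)

@[simp] theorem residueDeriv_apply {P : Type*} [CommRing P] [Algebra P (ResidueField A)]
    {M : Type*} [AddCommGroup M] [Module (ResidueField A) M] [Module P M]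
    [IsScalarTower P (ResidueField A) M] [Module A M] [IsScalarTower A (ResidueField A) M]
    (d : Derivation P (ResidueField A) M) (a : A) : residueDeriv d a = d (residue A a) := rfl

end TensorLift

section Main

variable {A : Type u} [CommRing A] [IsLocalRing A] {p : ℕ} [hp : Fact p.Prime] [CharP A p]
  [CharP (ResidueField A) p] {r : ℕ} {f : Fin r → A}
  {σ : ResidueField A →+* A} {Γ : Set (ResidueField A)} {g : Γ → Fin r}
  (hσ : ∀ c, residue A (σ c) = c) (hσΓ : ∀ y : Γ, σ y = f (g y))
  (hm : maximalIdeal A ^ 2 = ⊥)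

include hp hσΓ in
/-- `1 ⊗ d σ(c)` lies in the span of the `1 ⊗ d f_{g y}` for `c ∈ K^p[Γ]` -/
theorem tmul_D_sigma_mem (c : ResidueField A)
    (hc : c ∈ Algebra.adjoin (EGA41.pPowerSubalgebra p (⊥ : Subfield (ResidueField A))
      (ResidueField A)) Γ) :
    (1 : ResidueField A) ⊗ₜ[A] KaehlerDifferential.D ℤ A (σ c) ∈
      Submodule.span (ResidueField A) (Set.range fun y : Γ =>
        (1 : ResidueField A) ⊗ₜ[A] KaehlerDifferential.D ℤ A (f (g y))) := by
  have hP1 := charP_bot p (ResidueField A)
  have hP2 := perfectRing_bot p (ResidueField A)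
  induction hc using Algebra.adjoin_induction with
  | mem c hc =>
    apply Submodule.subset_span
    refine ⟨⟨c, hc⟩, ?_⟩
    show (1 : ResidueField A) ⊗ₜ[A] KaehlerDifferential.D ℤ A (f (g ⟨c, hc⟩)) = _
    rw [← hσΓ]
  | algebraMap s =>
    obtain ⟨d, hd⟩ := exists_pow_eq_of_mem_pPowerSubalgebra
      (A := (⊥ : Subfield (ResidueField A))) (s : ResidueField A) s.2
    have h1 : algebraMap (EGA41.pPowerSubalgebra p (⊥ : Subfield (ResidueField A))
        (ResidueField A)) (ResidueField A) s = d ^ p := hd.symm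
    rw [h1, map_pow, Derivation.leibniz_pow]
    have h2 : ∀ w : Ω[A⁄ℤ], p • w = 0 := fun w => by
      rw [← Nat.cast_smul_eq_nsmul A, CharP.cast_eq_zero A p, zero_smul]
    rw [h2, TensorProduct.tmul_zero]
    exact zero_mem _
  | add u v _ _ hu hv =>
    rw [map_add, map_add, TensorProduct.tmul_add]
    exact add_mem hu hv
  | mul u v _ _ hu hv =>
    rw [map_mul, tmul_D_mul]
    exact add_mem (Submodule.smul_mem _ _ hv) (Submodule.smul_mem _ _ hu)

include hσΓ hm in
/-- **The differential criterion.** -/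
theorem li_differentials_iff
    (hΓ : EGA41.IsPIndependent p (⊥ : Subfield (ResidueField A))
      (Subtype.val : Γ → ResidueField A))
    (hadj : ∀ j, residue A (f j) ∈ Algebra.adjoin
      (EGA41.pPowerSubalgebra p (⊥ : Subfield (ResidueField A)) (ResidueField A)) Γ) :
    LinearIndependent (ResidueField A)
      (fun i => (1 : ResidueField A) ⊗ₜ[A] KaehlerDifferential.D ℤ A (f i)) ↔
    LinearIndependent (ResidueField A)
      (fun j : {j : Fin r // j ∉ Set.range g} =>
        (maximalIdeal A).toCotangent ⟨nu σ (f j.1), nu_mem hσ (f j.1)⟩) := by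
  classical
  have hgres : ∀ y : Γ, residue A (f (g y)) = y := fun y => by rw [← hσΓ, hσ]
  have hginj : Function.Injective g := by
    intro y y' h
    apply Subtype.ext
    rw [← hgres y, ← hgres y', h]
  let eqv : Γ ⊕ {j : Fin r // j ∉ Set.range g} ≃ Fin r :=
    Equiv.ofBijective (Sum.elim g Subtype.val) ⟨by
      apply Function.Injective.sumElim hginj Subtype.val_injective
      intro y j h
      exact j.2 ⟨y, h⟩, by
      intro j
      by_cases h : j ∈ Set.range g
      · obtain ⟨y, rfl⟩ := h
        exact ⟨Sum.inl y, rfl⟩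
      · exact ⟨Sum.inr ⟨j, h⟩, rfl⟩⟩
  -- the two linear maps
  have hM : ∀ x ∈ maximalIdeal A, ∀ n : CotangentSpace A, x • n = 0 := by
    intro x hx n
    rw [← algebraMap_smul (ResidueField A) x n]
    have : algebraMap A (ResidueField A) x = 0 := (residue_eq_zero_iff x).2 hx
    rw [this, zero_smul]
  let D₂ : Derivation ℤ A (CotangentSpace A) := derivOf hσ hm hM (maximalIdeal A).toCotangent
  let Ψ₂ := tensorLift D₂
  have hΨ₂ : ∀ a : A, Ψ₂ ((1 : ResidueField A) ⊗ₜ[A] KaehlerDifferential.D ℤ A a) =
      (maximalIdeal A).toCotangent ⟨nu σ a, nu_mem hσ a⟩ := fun a => tensorLift_tmul D₂ a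
  let D₁ := residueDeriv (A := A)
    (KaehlerDifferential.D (⊥ : Subfield (ResidueField A)) (ResidueField A))
  let Ψ₁ := tensorLift D₁
  have hΨ₁ : ∀ a : A, Ψ₁ ((1 : ResidueField A) ⊗ₜ[A] KaehlerDifferential.D ℤ A a) =
      KaehlerDifferential.D (⊥ : Subfield (ResidueField A)) (ResidueField A) (residue A a) :=
    fun a => tensorLift_tmul D₁ a
  -- the `Γ`-part is always independent
  have hLIΓ : LinearIndependent (ResidueField A) (fun y : Γ =>
      (1 : ResidueField A) ⊗ₜ[A] KaehlerDifferential.D ℤ A (f (g y))) := by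
    apply LinearIndependent.of_comp Ψ₁
    have h1 := (Groth.Agent.S2468.result p (k := (⊥ : Subfield (ResidueField A)))
      (Subtype.val : Γ → ResidueField A)).1.1 hΓ
    convert h1 using 1
    funext y
    rw [Function.comp_apply, hΨ₁, hgres]
  have hΨ₂Γ : Submodule.span (ResidueField A) (Set.range fun y : Γ =>
      (1 : ResidueField A) ⊗ₜ[A] KaehlerDifferential.D ℤ A (f (g y))) ≤ LinearMap.ker Ψ₂ := by
    rw [Submodule.span_le]
    rintro _ ⟨y, rfl⟩
    rw [SetLike.mem_coe, LinearMap.mem_ker, hΨ₂]
    have : (⟨nu σ (f (g y)), nu_mem hσ (f (g y))⟩ : maximalIdeal A) = 0 :=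
      Subtype.ext (show nu σ (f (g y)) = 0 by rw [← hσΓ]; exact nu_sigma hσ _)
    rw [this, map_zero]
  rw [← linearIndependent_equiv eqv, linearIndependent_sum]
  have hinl : ((fun i => (1 : ResidueField A) ⊗ₜ[A] KaehlerDifferential.D ℤ A (f i)) ∘ eqv) ∘
      Sum.inl = fun y : Γ => (1 : ResidueField A) ⊗ₜ[A] KaehlerDifferential.D ℤ A (f (g y)) := rfl
  have hinr : ((fun i => (1 : ResidueField A) ⊗ₜ[A] KaehlerDifferential.D ℤ A (f i)) ∘ eqv) ∘
      Sum.inr = fun j : {j : Fin r // j ∉ Set.range g} =>
        (1 : ResidueField A) ⊗ₜ[A] KaehlerDifferential.D ℤ A (f j.1) := rfl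
  rw [hinl, hinr]
  constructor
  · rintro ⟨-, h2, h3⟩
    apply li_cotangent_of (fun j : {j : Fin r // j ∉ Set.range g} => nu σ (f j.1))
      (fun j => nu_mem hσ (f j.1))
    intro a ha j
    rw [hm, Ideal.mem_bot] at ha
    -- differentiate the relation
    have h4 : ∑ j : {j : Fin r // j ∉ Set.range g}, residue A (a j) •
        ((1 : ResidueField A) ⊗ₜ[A] KaehlerDifferential.D ℤ A (nu σ (f j.1))) = 0 := by
      have h5 := congrArg (fun z => (1 : ResidueField A) ⊗ₜ[A] KaehlerDifferential.D ℤ A z) ha
      simp only [map_sum, map_zero, TensorProduct.tmul_sum, TensorProduct.tmul_zero,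
        tmul_D_mul] at h5
      rw [← h5]
      refine Finset.sum_congr rfl fun j _ => ?_
      rw [(residue_eq_zero_iff _).2 (nu_mem hσ (f j.1)), zero_smul, add_zero]
    have h6 : ∀ j : Fin r, (1 : ResidueField A) ⊗ₜ[A] KaehlerDifferential.D ℤ A (nu σ (f j)) =
        (1 : ResidueField A) ⊗ₜ[A] KaehlerDifferential.D ℤ A (f j) -
          (1 : ResidueField A) ⊗ₜ[A] KaehlerDifferential.D ℤ A (σ (residue A (f j))) := by
      intro j
      rw [nu, map_sub, TensorProduct.tmul_sub]
    simp only [h6, smul_sub, Finset.sum_sub_distrib] at h4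
    rw [sub_eq_zero] at h4
    have hx1 : ∑ j : {j : Fin r // j ∉ Set.range g}, residue A (a j) •
        ((1 : ResidueField A) ⊗ₜ[A] KaehlerDifferential.D ℤ A (f j.1)) ∈
        Submodule.span (ResidueField A) (Set.range fun y : Γ =>
          (1 : ResidueField A) ⊗ₜ[A] KaehlerDifferential.D ℤ A (f (g y))) := by
      rw [h4]
      exact Submodule.sum_mem _ fun j _ => Submodule.smul_mem _ _
        (tmul_D_sigma_mem hσΓ _ (hadj j.1))
    have hx2 : ∑ j : {j : Fin r // j ∉ Set.range g}, residue A (a j) •
        ((1 : ResidueField A) ⊗ₜ[A] KaehlerDifferential.D ℤ A (f j.1)) ∈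
        Submodule.span (ResidueField A) (Set.range fun j : {j : Fin r // j ∉ Set.range g} =>
          (1 : ResidueField A) ⊗ₜ[A] KaehlerDifferential.D ℤ A (f j.1)) :=
      Submodule.sum_mem _ fun j _ => Submodule.smul_mem _ _ (Submodule.subset_span ⟨j, rfl⟩)
    have hx0 := Submodule.disjoint_def.1 h3 _ hx1 hx2
    have := Fintype.linearIndependent_iff.1 h2 (fun j => residue A (a j)) hx0 j
    exact (residue_eq_zero_iff _).1 this
  · intro hLI
    refine ⟨hLIΓ, ?_, ?_⟩
    · apply LinearIndependent.of_comp Ψ₂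
      convert hLI using 1
      funext j
      rw [Function.comp_apply, hΨ₂]
    · rw [Submodule.disjoint_def]
      intro x hx1 hx2
      have h1 : Ψ₂ x = 0 := hΨ₂Γ hx1
      obtain ⟨c, rfl⟩ := (Submodule.mem_span_range_iff_exists_fun _).1 hx2
      rw [map_sum] at h1
      simp only [map_smul, hΨ₂] at h1
      have hc := Fintype.linearIndependent_iff.1 hLI c h1
      exact Finset.sum_eq_zero fun j _ => by rw [hc j, zero_smul]

end Main

end Groth.Agent.Lib.Helper88.PQuot
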