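import Mathlib
import Groth.Agent.Lib.Helper88.PQuotRegKaehler
import Groth.Agent.S4595
import Groth.Agent.S4588
import Groth.Agent.S0564
import Groth.Agent.Lib.Helper55.KrullDimIntegral

/-!
# `A[T]/(T_i^p + p(...) - f_i)` over a regular local ring with `p ∈ m²` (helper88)
-/

set_option autoImplicit false
set_option linter.unusedSectionVars false
universe u
open IsLocalRing TensorProduct

namespace Groth.Agent.Lib.Helper88.PQuotReg

open Groth.Agent.Lib.Helper88.PQuot

section ModSq

variable (A : Type u) [CommRing A] [IsLocalRing A]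

theorem sq_ne_top : maximalIdeal A ^ 2 ≠ ⊤ := fun h =>
  (maximalIdeal.isMaximal A).ne_top (top_le_iff.1 (h ▸ Ideal.pow_le_self two_ne_zero))

theorem nontrivial_modSq : Nontrivial (A ⧸ maximalIdeal A ^ 2) :=
  Ideal.Quotient.nontrivial_iff.mpr (sq_ne_top A)

theorem isLocalRing_modSq : IsLocalRing (A ⧸ maximalIdeal A ^ 2) :=
  have := nontrivial_modSq A
  IsLocalRing.of_surjective' (Ideal.Quotient.mk _) Ideal.Quotient.mk_surjective

theorem maximalIdeal_modSq_sq [IsLocalRing (A ⧸ maximalIdeal A ^ 2)] :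
    maximalIdeal (A ⧸ maximalIdeal A ^ 2) ^ 2 = ⊥ := by
  rw [← maximalIdeal_map_of_surjective (Ideal.Quotient.mk (maximalIdeal A ^ 2))
    Ideal.Quotient.mk_surjective, ← Ideal.map_pow, Ideal.map_quotient_self]

theorem isArtinianRing_modSq [IsNoetherianRing A] [IsLocalRing (A ⧸ maximalIdeal A ^ 2)] :
    IsArtinianRing (A ⧸ maximalIdeal A ^ 2) :=
  (isArtinianRing_iff_isNilpotent_maximalIdeal _).2 ⟨2, maximalIdeal_modSq_sq A⟩

theorem charP_modSq (p : ℕ) [hp : Fact p.Prime] (hpA : (p : A) ∈ maximalIdeal A ^ 2) :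
    CharP (A ⧸ maximalIdeal A ^ 2) p := by
  have := nontrivial_modSq A
  have h0 : ((p : ℕ) : A ⧸ maximalIdeal A ^ 2) = 0 := by
    rw [← map_natCast (Ideal.Quotient.mk (maximalIdeal A ^ 2)), Ideal.Quotient.eq_zero_iff_mem]
    exact hpA
  exact ringChar.of_eq (CharP.ringChar_of_prime_eq_zero hp.out h0)

end ModSq

section Main

variable {A : Type u} [CommRing A] (p : ℕ) {r : ℕ} (c : Fin r → Fin p → A) (f : Fin r → A)

/-- the polynomials `F_i` -/
noncomputable def Fpoly (i : Fin r) : MvPolynomial (Fin r) A :=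
  MvPolynomial.X i ^ p + (p : MvPolynomial (Fin r) A) * (Finset.univ.sum fun j : Fin p =>
    if (j : ℕ) = 0 then 0 else MvPolynomial.C (c i j) * MvPolynomial.X i ^ (p - (j : ℕ))) -
      MvPolynomial.C (f i)

/-- the quotient ring -/
abbrev BF : Type u := MvPolynomial (Fin r) A ⧸ Ideal.span (Set.range (Fpoly p c f))

/-- the one-variable version of `F_i` -/
noncomputable def Ppoly (i : Fin r) : Polynomial A :=
  Polynomial.X ^ p + (Polynomial.C (p : A) * (Finset.univ.sum fun j : Fin p =>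
    if (j : ℕ) = 0 then 0 else Polynomial.C (c i j) * Polynomial.X ^ (p - (j : ℕ))) -
      Polynomial.C (f i))

theorem Ppoly_rem_degree_lt [Nontrivial A] (hp : 0 < p) (i : Fin r) :
    (Polynomial.C (p : A) * (Finset.univ.sum fun j : Fin p =>
      if (j : ℕ) = 0 then 0 else Polynomial.C (c i j) * Polynomial.X ^ (p - (j : ℕ))) -
        Polynomial.C (f i)).degree < p := by
  rw [← Polynomial.mem_degreeLT]
  refine sub_mem ?_ ?_
  · rw [Polynomial.C_mul']
    refine Submodule.smul_mem _ _ (Submodule.sum_mem _ fun j _ => ?_)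
    split_ifs with hj
    · exact zero_mem _
    · rw [Polynomial.mem_degreeLT]
      refine (Polynomial.degree_C_mul_X_pow_le _ _).trans_lt ?_
      have : p - (j : ℕ) < p := Nat.sub_lt hp (Nat.pos_of_ne_zero hj)
      exact_mod_cast this
  · rw [Polynomial.mem_degreeLT]
    exact Polynomial.degree_C_le.trans_lt (by exact_mod_cast hp)

theorem Ppoly_monic [Nontrivial A] (hp : 0 < p) (i : Fin r) : (Ppoly p c f i).Monic :=
  Polynomial.monic_X_pow_add (Ppoly_rem_degree_lt p c f hp i)

theorem Ppoly_natDegree [Nontrivial A] (hp : 0 < p) (i : Fin r) :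
    (Ppoly p c f i).natDegree = p := by
  have h := Ppoly_rem_degree_lt p c f hp i
  rw [Ppoly, Polynomial.natDegree_add_eq_left_of_degree_lt (by rwa [Polynomial.degree_X_pow]),
    Polynomial.natDegree_X_pow]

theorem eval₂_Ppoly {E : Type*} [CommRing E] (φ : A →+* E) (t : Fin r → E) (i : Fin r) :
    Polynomial.eval₂ φ (t i) (Ppoly p c f i) = MvPolynomial.eval₂Hom φ t (Fpoly p c f i) := by
  simp only [Ppoly, Fpoly, Polynomial.eval₂_add, Polynomial.eval₂_sub, Polynomial.eval₂_mul,
    Polynomial.eval₂_pow, Polynomial.eval₂_X, Polynomial.eval₂_C, Polynomial.eval₂_finsetSum,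
    Polynomial.eval₂_natCast,
    apply_ite (Polynomial.eval₂ φ (t i)), Polynomial.eval₂_zero, map_add, map_sub, map_mul,
    map_pow, map_natCast, map_sum, apply_ite (MvPolynomial.eval₂Hom φ t), map_zero,
    MvPolynomial.eval₂Hom_C, MvPolynomial.eval₂Hom_X']
  ring

end Main

section Structure

variable {A : Type u} [CommRing A] [IsLocalRing A] (p : ℕ) [hp : Fact p.Prime] {r : ℕ}
  (c : Fin r → Fin p → A) (f : Fin r → A)

theorem mk_Fpoly (i : Fin r) :
    (Ideal.Quotient.mk (Ideal.span (Set.range (Fpoly p c f))) (Fpoly p c f i) : BF p c f) = 0 :=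
  Ideal.Quotient.eq_zero_iff_mem.2 (Ideal.subset_span ⟨i, rfl⟩)

theorem eval₂Hom_mk :
    MvPolynomial.eval₂Hom (algebraMap A (BF p c f))
      (fun i => (Ideal.Quotient.mk (Ideal.span (Set.range (Fpoly p c f))) (MvPolynomial.X i) :
        BF p c f)) = Ideal.Quotient.mk (Ideal.span (Set.range (Fpoly p c f))) := by
  apply MvPolynomial.ringHom_ext
  · intro a
    rw [MvPolynomial.eval₂Hom_C]
    rfl
  · intro i
    rw [MvPolynomial.eval₂Hom_X']

include hp in
theorem isIntegral_BF : Algebra.IsIntegral A (BF p c f) := by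
  have hX : ∀ i, IsIntegral A
      (Ideal.Quotient.mk (Ideal.span (Set.range (Fpoly p c f))) (MvPolynomial.X i) : BF p c f) := by
    intro i
    refine ⟨Ppoly p c f i, Ppoly_monic p c f hp.out.pos i, ?_⟩
    rw [eval₂_Ppoly p c f (algebraMap A (BF p c f))
      (fun i => (Ideal.Quotient.mk (Ideal.span (Set.range (Fpoly p c f))) (MvPolynomial.X i) :
        BF p c f)) i, eval₂Hom_mk, mk_Fpoly]
  refine ⟨fun x => ?_⟩
  obtain ⟨P, rfl⟩ := Ideal.Quotient.mk_surjective x
  induction P using MvPolynomial.induction_on with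
  | C a => exact isIntegral_algebraMap (R := A) (x := a)
  | add q₁ q₂ h₁ h₂ => rw [map_add]; exact h₁.add h₂
  | mul_X q i h => rw [map_mul]; exact h.mul (hX i)

include hp in
theorem algebraMap_injective_BF : Function.Injective (algebraMap A (BF p c f)) := by
  obtain ⟨E, hE, φ, t, hφ, ht⟩ := Groth.Agent.S4588.exists_ext r A (Ppoly p c f)
    (fun i => Ppoly_monic p c f hp.out.pos i)
    (fun i => by rw [Ppoly_natDegree p c f hp.out.pos i]; exact hp.out.pos)
  have hle : Ideal.span (Set.range (Fpoly p c f)) ≤ RingHom.ker (MvPolynomial.eval₂Hom φ t) := by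
    rw [Ideal.span_le]
    rintro _ ⟨i, rfl⟩
    rw [SetLike.mem_coe, RingHom.mem_ker, ← eval₂_Ppoly, ht]
  rw [injective_iff_map_eq_zero]
  intro a ha
  have h1 : MvPolynomial.C a ∈ Ideal.span (Set.range (Fpoly p c f)) :=
    Ideal.Quotient.eq_zero_iff_mem.mp ha
  have h2 : MvPolynomial.eval₂Hom φ t (MvPolynomial.C a) = 0 := hle h1
  rw [MvPolynomial.eval₂Hom_C] at h2
  exact hφ (by rw [h2, map_zero])

include hp in
theorem map_maximalIdeal_le_jacobson :
    Ideal.map (algebraMap A (BF p c f)) (maximalIdeal A) ≤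
      Ideal.jacobson (⊥ : Ideal (BF p c f)) := by
  have := isIntegral_BF p c f
  rw [Ideal.jacobson]
  refine le_sInf ?_
  rintro M ⟨-, hM⟩
  have h1 : (M.comap (algebraMap A (BF p c f))).IsMaximal :=
    Ideal.isMaximal_comap_of_isIntegral_of_isMaximal M
  rw [Ideal.map_le_iff_le_comap, IsLocalRing.eq_maximalIdeal h1]

theorem natCast_modSq_eq_zero (hpA : (p : A) ∈ maximalIdeal A ^ 2) :
    ((p : ℕ) : MvPolynomial (Fin r) (A ⧸ maximalIdeal A ^ 2)) = 0 := by
  rw [← map_natCast (MvPolynomial.C : (A ⧸ maximalIdeal A ^ 2) →+* _),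
    ← map_natCast (Ideal.Quotient.mk (maximalIdeal A ^ 2)),
    Ideal.Quotient.eq_zero_iff_mem.2 hpA, map_zero]

/-- reduction modulo `m²` -/
noncomputable def psi (hpA : (p : A) ∈ maximalIdeal A ^ 2) :
    BF p c f →+* Bq p (fun i => Ideal.Quotient.mk (maximalIdeal A ^ 2) (f i)) :=
  Ideal.Quotient.lift _
    ((Ideal.Quotient.mk (relI p (fun i => Ideal.Quotient.mk (maximalIdeal A ^ 2) (f i)))).comp
      (MvPolynomial.map (Ideal.Quotient.mk (maximalIdeal A ^ 2)))) (by
    have hle : Ideal.span (Set.range (Fpoly p c f)) ≤ RingHom.ker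
        ((Ideal.Quotient.mk (relI p (fun i => Ideal.Quotient.mk (maximalIdeal A ^ 2) (f i)))).comp
          (MvPolynomial.map (Ideal.Quotient.mk (maximalIdeal A ^ 2)))) := by
      rw [Ideal.span_le]
      rintro _ ⟨i, rfl⟩
      rw [SetLike.mem_coe, RingHom.mem_ker, RingHom.comp_apply, Ideal.Quotient.eq_zero_iff_mem]
      have : MvPolynomial.map (Ideal.Quotient.mk (maximalIdeal A ^ 2)) (Fpoly p c f i) =
          MvPolynomial.X i ^ p -
            MvPolynomial.C (Ideal.Quotient.mk (maximalIdeal A ^ 2) (f i)) := by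
        simp only [Fpoly, map_sub, map_add, map_mul, map_pow, map_natCast, MvPolynomial.map_X,
          MvPolynomial.map_C]
        rw [natCast_modSq_eq_zero p hpA, zero_mul, add_zero]
      rw [this]
      exact Ideal.subset_span ⟨i, rfl⟩
    exact fun a ha => hle ha)

theorem psi_mk (hpA : (p : A) ∈ maximalIdeal A ^ 2) (P : MvPolynomial (Fin r) A) :
    psi p c f hpA (Ideal.Quotient.mk _ P) =
      Ideal.Quotient.mk (relI p (fun i => Ideal.Quotient.mk (maximalIdeal A ^ 2) (f i)))
        (MvPolynomial.map (Ideal.Quotient.mk (maximalIdeal A ^ 2)) P) := rfl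

theorem psi_surjective (hpA : (p : A) ∈ maximalIdeal A ^ 2) :
    Function.Surjective (psi p c f hpA) := by
  intro y
  obtain ⟨Q, rfl⟩ := Ideal.Quotient.mk_surjective y
  obtain ⟨P, rfl⟩ := MvPolynomial.map_surjective (Ideal.Quotient.mk (maximalIdeal A ^ 2))
    Ideal.Quotient.mk_surjective Q
  exact ⟨Ideal.Quotient.mk _ P, rfl⟩

theorem ker_psi_le (hpA : (p : A) ∈ maximalIdeal A ^ 2) :
    RingHom.ker (psi p c f hpA) ≤
      Ideal.map (algebraMap A (BF p c f)) (maximalIdeal A ^ 2) := by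
  intro x hx
  obtain ⟨P, rfl⟩ := Ideal.Quotient.mk_surjective x
  rw [RingHom.mem_ker, psi_mk, Ideal.Quotient.eq_zero_iff_mem] at hx
  have hmapI : relI p (fun i => Ideal.Quotient.mk (maximalIdeal A ^ 2) (f i)) =
      Ideal.map (MvPolynomial.map (Ideal.Quotient.mk (maximalIdeal A ^ 2))) (relI p f) := by
    rw [relI, relI, Ideal.map_span]
    congr 1
    ext q
    constructor
    · rintro ⟨i, rfl⟩
      refine ⟨_, ⟨i, rfl⟩, ?_⟩
      rw [map_sub, map_pow, MvPolynomial.map_X, MvPolynomial.map_C]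
    · rintro ⟨_, ⟨i, rfl⟩, rfl⟩
      refine ⟨i, ?_⟩
      rw [map_sub, map_pow, MvPolynomial.map_X, MvPolynomial.map_C]
  rw [hmapI, Ideal.mem_map_iff_of_surjective _
    (MvPolynomial.map_surjective _ Ideal.Quotient.mk_surjective)] at hx
  obtain ⟨Q, hQ, hQP⟩ := hx
  have hdiff : P - Q ∈ Ideal.map (MvPolynomial.C : A →+* MvPolynomial (Fin r) A)
      (maximalIdeal A ^ 2) := by
    have h1 : P - Q ∈ RingHom.ker (MvPolynomial.map (σ := Fin r)
        (Ideal.Quotient.mk (maximalIdeal A ^ 2))) := by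
      rw [RingHom.mem_ker, map_sub, hQP, sub_self]
    rwa [MvPolynomial.ker_map, Ideal.mk_ker] at h1
  have hrel : relI p f ≤ Ideal.span (Set.range (Fpoly p c f)) ⊔
      Ideal.map (MvPolynomial.C : A →+* MvPolynomial (Fin r) A) (maximalIdeal A ^ 2) := by
    rw [relI, Ideal.span_le]
    rintro _ ⟨i, rfl⟩
    have h2 : (MvPolynomial.X i ^ p - MvPolynomial.C (f i) : MvPolynomial (Fin r) A) =
        Fpoly p c f i - MvPolynomial.C (p : A) * (Finset.univ.sum fun j : Fin p =>
          if (j : ℕ) = 0 then 0 else MvPolynomial.C (c i j) * MvPolynomial.X i ^ (p - (j : ℕ))) := by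
      rw [Fpoly, map_natCast]
      ring
    show (MvPolynomial.X i ^ p - MvPolynomial.C (f i) : MvPolynomial (Fin r) A) ∈ _
    rw [h2]
    refine sub_mem (Ideal.mem_sup_left (Ideal.subset_span ⟨i, rfl⟩)) (Ideal.mem_sup_right ?_)
    exact Ideal.mul_mem_right _ _ (Ideal.mem_map_of_mem _ hpA)
  have hP : P ∈ Ideal.span (Set.range (Fpoly p c f)) ⊔
      Ideal.map (MvPolynomial.C : A →+* MvPolynomial (Fin r) A) (maximalIdeal A ^ 2) := by
    have := add_mem (Ideal.mem_sup_right hdiff) (hrel hQ)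
    rwa [sub_add_cancel] at this
  obtain ⟨u, hu, v, hv, rfl⟩ := Submodule.mem_sup.1 hP
  rw [map_add, Ideal.Quotient.eq_zero_iff_mem.2 hu, zero_add]
  have h3 := Ideal.mem_map_of_mem (Ideal.Quotient.mk (Ideal.span (Set.range (Fpoly p c f)))) hv
  rw [Ideal.map_map] at h3
  exact h3

end Structure

section Final

variable {A : Type u} [CommRing A] [IsRegularLocalRing A] (p : ℕ) [hp : Fact p.Prime]
  [CharP (ResidueField A) p] {r : ℕ} (c : Fin r → Fin p → A) (f : Fin r → A)

include hp in
/-- **Regularity of `A[T]/(T_i^p + p(...) - f_i)`.** -/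
theorem main_reg (hpA : (p : A) ∈ maximalIdeal A ^ 2) :
    IsLocalRing (BF p c f) ∧ (IsRegularRing (BF p c f) ↔
      LinearIndependent (ResidueField A)
        (fun i => (1 : ResidueField A) ⊗ₜ[A] KaehlerDifferential.D ℤ A (f i))) := by
  -- the ring `A/m²`
  have hlocA' : IsLocalRing (A ⧸ maximalIdeal A ^ 2) := isLocalRing_modSq A
  have hartA' : IsArtinianRing (A ⧸ maximalIdeal A ^ 2) := isArtinianRing_modSq A
  have hcharA' : CharP (A ⧸ maximalIdeal A ^ 2) p := charP_modSq A p hpA
  have hmA' := maximalIdeal_modSq_sq A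
  have hlocB' : IsLocalRing (Bq p (fun i => Ideal.Quotient.mk (maximalIdeal A ^ 2) (f i))) :=
    PQuot.isLocalRing p _ hmA'
  -- `B` is local
  have hint := isIntegral_BF p c f
  have hjac := map_maximalIdeal_le_jacobson p c f
  have hker := ker_psi_le p c f hpA
  have hsurj := psi_surjective p c f hpA
  have hlh : IsLocalHom (psi p c f hpA) := by
    refine ⟨fun x hx => ?_⟩
    obtain ⟨y', hy'⟩ := hx.exists_right_inv
    obtain ⟨y, rfl⟩ := hsurj y'
    have h1 : x * y - 1 ∈ RingHom.ker (psi p c f hpA) := by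
      rw [RingHom.mem_ker, map_sub, map_mul, hy', map_one, sub_self]
    have h2 : x * y - 1 ∈ Ideal.jacobson (⊥ : Ideal (BF p c f)) :=
      hjac (Ideal.map_mono (Ideal.pow_le_self two_ne_zero) (hker h1))
    have h3 := Ideal.mem_jacobson_bot.1 h2 1
    rw [mul_one, sub_add_cancel] at h3
    exact isUnit_of_mul_isUnit_left h3
  have hlocB : IsLocalRing (BF p c f) := RingHom.domain_isLocalRing (psi p c f hpA)
  refine ⟨hlocB, ?_⟩
  -- dimension
  have hinj := algebraMap_injective_BF p c f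
  have hdim : ringKrullDim (BF p c f) = ringKrullDim A :=
    Groth.Agent.Lib.Helper55.ringKrullDim_eq_of_isIntegral_of_injective A _ hinj
  have hregA : (Module.finrank (ResidueField A) (CotangentSpace A) : WithBot ℕ∞) =
      ringKrullDim A := (IsRegularLocalRing.iff_finrank_cotangentSpace A).mp inferInstance
  have hRR : IsRegularRing (BF p c f) ↔ IsRegularLocalRing (BF p c f) := by
    constructor
    · intro h; exact IsRegularLocalRing.of_isRegularRing_of_isLocalRing _
    · intro h; exact isRegularRing_iff.mpr fun q _ => Groth.Agent.S0564.result _ q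
  -- cotangent spaces
  have hcotA : Module.finrank (ResidueField A) (CotangentSpace A) =
      Module.finrank (ResidueField (A ⧸ maximalIdeal A ^ 2))
        (CotangentSpace (A ⧸ maximalIdeal A ^ 2)) :=
    finrank_cotangentSpace_eq_of_surjective (Ideal.Quotient.mk (maximalIdeal A ^ 2))
      Ideal.Quotient.mk_surjective (by rw [Ideal.mk_ker])
  have hmB : Ideal.map (algebraMap A (BF p c f)) (maximalIdeal A) ≤ maximalIdeal (BF p c f) := by
    rw [← IsLocalRing.jacobson_eq_maximalIdeal (⊥ : Ideal (BF p c f)) bot_ne_top]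
    exact hjac
  have hkerB : RingHom.ker (psi p c f hpA) ≤ maximalIdeal (BF p c f) ^ 2 := by
    refine hker.trans ?_
    rw [Ideal.map_pow]
    exact Ideal.pow_right_mono hmB 2
  have hcotB := finrank_cotangentSpace_eq_of_surjective (psi p c f hpA) hsurj hkerB
  have hS := Groth.Agent.S4595.main hmA' p (fun i => Ideal.Quotient.mk (maximalIdeal A ^ 2) (f i))
  have hLI := li_iff_quotient (maximalIdeal A ^ 2) le_rfl f
  rw [hRR, IsRegularLocalRing.iff_finrank_cotangentSpace, hdim, ← hregA]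
  refine Iff.trans ?_ (hS.trans hLI.symm)
  rw [hcotB, hcotA]
  constructor
  · intro h
    exact_mod_cast h.symm
  · intro h
    exact_mod_cast h.symm

end Final

end Groth.Agent.Lib.Helper88.PQuotReg
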