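import Mathlib
import Groth.Agent.Lib.Helper88.FSField
import Groth.Agent.Lib.Helper88.PQuotRegMain
import Groth.Agent.Lib.Helper88.PQuotField
import Groth.Agent.Lib.Helper81.FieldSmooth
import Groth.Agent.Lib.Helper81.KaehlerCompare
import Groth.Agent.Lib.Helper81.PBasisTransfer
import Groth.Agent.S2468

/-!
# Regularity of the radicial base changes ⇒ injectivity on differentials (helper88)

Let `k` be a field of characteristic `p` and `A` a Noetherian local `k`-algebra such that `k' ⊗_k A`
is regular for all finite extensions `k'` of `k` with `k'^p ⊆ k`.  Then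
`Ω_{k/ℤ} ⊗_k K → Ω_{A/ℤ} ⊗_A K` is injective (`K` the residue field of `A`).
-/

set_option autoImplicit false
universe u
set_option linter.unusedSectionVars false
open TensorProduct IsLocalRing

namespace Groth.Agent.Lib.Helper88.FSKaehler

open Groth.Agent.Lib.Helper88.PQuot Groth.Agent.Lib.Helper88.PQuotReg
  Groth.Agent.Lib.Helper88.FSField Groth.Agent.Lib.Helper81.PBasis

variable {k A : Type u} [Field k] (p : ℕ) [hp : Fact p.Prime] [CharP k p]
  [CommRing A] [Algebra k A]

/-- the hypothesis: all radicial base changes of height one are regular -/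
def RadReg (k A : Type u) [Field k] (p : ℕ) [CommRing A] [Algebra k A] : Prop :=
  ∀ (k' : Type u) [Field k'] [Algebra k k'], Module.Finite k k' →
    (∀ x : k', x ^ p ∈ (algebraMap k k').range) → IsRegularRing (k' ⊗[k] A)

theorem span_Fpoly_zero {r : ℕ} (f : Fin r → A) :
    Ideal.span (Set.range (Fpoly p (0 : Fin r → Fin p → A) f)) = relI p f := by
  congr 2
  funext i
  simp [Fpoly]

include hp in
/-- finitely many members of a `p`-independent family have independent differentials in `A` -/
theorem li_of_radReg [IsRegularLocalRing A] (H : RadReg k A p)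
    (Γ : Set k) (hΓ : EGA41.IsPIndependent p (⊥ : Subfield k) (Subtype.val : Γ → k))
    {r : ℕ} (g : Fin r → Γ) (hg : Function.Injective g) :
    LinearIndependent (ResidueField A) (fun i : Fin r =>
      (1 : ResidueField A) ⊗ₜ[A] KaehlerDifferential.D ℤ A (algebraMap k A (g i : k))) := by
  classical
  let γ : Fin r → k := fun i => (g i : k)
  have hcharA : CharP A p := charP_of_injective_algebraMap (algebraMap k A).injective p
  have hcharK : CharP (ResidueField A) p := PQuot.charP_residueField p
  have hcharL : CharP (AlgebraicClosure k) p :=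
    charP_of_injective_algebraMap (algebraMap k (AlgebraicClosure k)).injective p
  choose t' ht' using fun y : Γ =>
    IsAlgClosed.exists_pow_nat_eq (algebraMap k (AlgebraicClosure k) (y : k)) hp.out.pos
  have hfield : IsField (Bq p γ) :=
    isField_Bq γ (fun t ht => li_redMon_sub Γ hΓ g hg t ht t' ht')
  let _ : Field (Bq p γ) := hfield.toField
  have hreg1 : IsRegularRing (Bq p γ ⊗[k] A) := H (Bq p γ) (finite_Bq γ) (pow_mem_range γ)
  have hreg2 : IsRegularRing (Bq p (γA A γ)) := IsRegularRing.of_ringEquiv (tensorEquiv p γ)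
  have hreg3 : IsRegularRing (BF p (0 : Fin r → Fin p → A) (γA A γ)) :=
    IsRegularRing.of_ringEquiv (Ideal.quotEquivOfEq (span_Fpoly_zero p (γA A γ)).symm)
  have hpA : (p : A) ∈ maximalIdeal A ^ 2 := by
    rw [CharP.cast_eq_zero]; exact zero_mem _
  exact (main_reg p (0 : Fin r → Fin p → A) (γA A γ) hpA).2.mp hreg3

/-- the absolute differentials of a prime field of characteristic `p` vanish -/
theorem subsingleton_kaehler_bot (k : Type u) [Field k] (p : ℕ) [Fact p.Prime] [CharP k p] :
    Subsingleton (Ω[(⊥ : Subfield k)⁄ℤ]) := by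
  have hchar : CharP (⊥ : Subfield k) p := PQuot.charP_bot p k
  have hperf : PerfectRing (⊥ : Subfield k) p := PQuot.perfectRing_bot p k
  have hp0 : ((p : ℕ) : (⊥ : Subfield k)) = 0 := CharP.cast_eq_zero _ p
  have hD : ∀ x : (⊥ : Subfield k), KaehlerDifferential.D ℤ (⊥ : Subfield k) x = 0 := by
    intro x
    obtain ⟨y, rfl⟩ := surjective_frobenius (⊥ : Subfield k) p x
    rw [frobenius_def, Derivation.leibniz_pow, ← Nat.cast_smul_eq_nsmul (⊥ : Subfield k), hp0,
      zero_smul]
  suffices (⊤ : Submodule (⊥ : Subfield k) Ω[(⊥ : Subfield k)⁄ℤ]) ≤ ⊥ from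
    (subsingleton_iff_forall_eq 0).mpr fun y ↦ this trivial
  rw [← KaehlerDifferential.span_range_derivation, Submodule.span_le]
  rintro _ ⟨x, rfl⟩
  exact hD x

include hp in
/-- **Injectivity on differentials.** -/
theorem injective_of_radReg [IsLocalRing A] [IsNoetherianRing A] (H : RadReg k A p) :
    Function.Injective
      ((KaehlerDifferential.mapBaseChange ℤ k A).lTensor (ResidueField A)) := by
  classical
  -- `A` is regular
  have hregA : IsRegularRing A := by
    have h1 : IsRegularRing (k ⊗[k] A) := H k (Module.Finite.self k) (fun x => ⟨x ^ p, rfl⟩)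
    exact IsRegularRing.of_ringEquiv (Algebra.TensorProduct.lid k A).toRingEquiv
  have hregL : IsRegularLocalRing A := IsRegularLocalRing.of_isRegularRing_of_isLocalRing A
  -- a `p`-basis of `k` over its prime field
  obtain ⟨Γ, hΓ⟩ := Groth.Agent.Lib.Helper81.FieldSmooth.exists_pBasis p
    (k := (⊥ : Subfield k)) (K := k)
  obtain ⟨b₀, hb₀⟩ := (Groth.Agent.S2468.result p (k := (⊥ : Subfield k)) (K := k)
    (Subtype.val : Γ → k)).2.2.mp hΓ
  -- compare with absolute differentials
  have hsub : Subsingleton (Ω[(⊥ : Subfield k)⁄ℤ]) := subsingleton_kaehler_bot k p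
  let e : Ω[k⁄ℤ] ≃ₗ[k] Ω[k⁄(⊥ : Subfield k)] :=
    LinearEquiv.ofBijective (KaehlerDifferential.map ℤ (⊥ : Subfield k) k k)
      ⟨Groth.Agent.Lib.Helper81.KaehlerCompare.map_injective_of_subsingleton ℤ (⊥ : Subfield k) k,
        KaehlerDifferential.map_surjective ℤ (⊥ : Subfield k) k⟩
  let b : Module.Basis Γ k Ω[k⁄ℤ] := b₀.map e.symm
  have hb : ∀ y : Γ, b y = KaehlerDifferential.D ℤ k (y : k) := by
    intro y
    rw [Module.Basis.map_apply, hb₀, LinearEquiv.symm_apply_eq]
    change _ = KaehlerDifferential.map ℤ (⊥ : Subfield k) k k (KaehlerDifferential.D ℤ k (y : k))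
    rw [KaehlerDifferential.map_D]
    rfl
  let B₂ : Module.Basis Γ (ResidueField A) (ResidueField A ⊗[A] (A ⊗[k] Ω[k⁄ℤ])) :=
    (b.baseChange A).baseChange (ResidueField A)
  have hinj : Function.Injective
      ((KaehlerDifferential.mapBaseChange ℤ k A).baseChange (ResidueField A)) := by
    apply injective_of_basis_linearIndependent B₂
    have hfun : (fun y => (KaehlerDifferential.mapBaseChange ℤ k A).baseChange (ResidueField A)
        (B₂ y)) = fun y : Γ => (1 : ResidueField A) ⊗ₜ[A]
          KaehlerDifferential.D ℤ A (algebraMap k A (y : k)) := by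
      funext y
      rw [Module.Basis.baseChange_apply, Module.Basis.baseChange_apply, LinearMap.baseChange_tmul,
        KaehlerDifferential.mapBaseChange_tmul, one_smul, hb, KaehlerDifferential.map_D]
    rw [hfun, linearIndependent_iff_finset_linearIndependent]
    intro s
    have h1 := li_of_radReg p H Γ hΓ.1 (fun i : Fin s.card => ((s.equivFin.symm i : s) : Γ))
      (fun i j hij => s.equivFin.symm.injective (Subtype.ext hij))
    exact (linearIndependent_equiv' s.equivFin.symm (by funext i; rfl)).mp h1
  intro x y hxy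
  apply hinj
  rw [LinearMap.baseChange_eq_ltensor]
  exact hxy

end Groth.Agent.Lib.Helper88.FSKaehler
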