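import Mathlib
import Groth.Agent.Lib.Helper90.PSUniv

/-!
# Completeness for a larger ideal (helper88)

`isAdicComplete_of_quotient`: `B` Noetherian, `I ≤ 𝔫 ≤ rad B`, `B` is `I`-adically complete and
`B ⧸ I` is `𝔫`-adically precomplete (as a `B`-module).  Then `B` is `𝔫`-adically complete.

`isAdicComplete_maximalIdeal_of_surjective`: the local version used for lifting complete local
rings: `B` Noetherian local, `π : B → B₀` surjective onto a complete local ring, `B` complete for
`ker π`; then `B` is complete for its maximal ideal.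
-/

set_option autoImplicit false
set_option linter.unusedSectionVars false

universe u

namespace Groth.Agent.Lib.Helper88.ComplQuot

open IsLocalRing

theorem isAdicComplete_of_quotient {B : Type u} [CommRing B] [IsNoetherianRing B]
    (I 𝔫 : Ideal B) (hI : I ≤ 𝔫) (h𝔫 : 𝔫 ≤ Ideal.jacobson ⊥) [IsAdicComplete I B]
    [IsPrecomplete 𝔫 (B ⧸ I)] : IsAdicComplete 𝔫 B := by
  have hH : IsHausdorff 𝔫 B := IsHausdorff.of_le_jacobson 𝔫 B h𝔫
  let Bh := AdicCompletion 𝔫 B
  let φ : B →+* Bh := algebraMap B Bh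
  have hφ : ∀ b, φ b = AdicCompletion.of 𝔫 B b := fun b => rfl
  have hsmul : ∀ n : ℕ, ∀ x : Bh, x ∈ (I.map φ) ^ n → x ∈ (𝔫 ^ n • ⊤ : Submodule B Bh) := by
    intro n x hx
    rw [Ideal.smul_top_eq_map]
    change x ∈ (𝔫 ^ n).map (algebraMap B Bh)
    rw [← Ideal.map_pow] at hx
    exact Ideal.map_mono (Ideal.pow_right_mono hI n) hx
  have hHaus : IsHausdorff (I.map φ) Bh := by
    refine ⟨fun x hx => ?_⟩
    apply IsHausdorff.haus' (I := 𝔫) x
    intro n
    have h1 := hx n
    rw [SModEq.zero] at h1 ⊢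
    rw [smul_eq_mul, Ideal.mul_top] at h1
    exact hsmul n x h1
  have h2 : ∀ c : Bh, ∃ b : B, c - φ b ∈ I.map φ := by
    intro c
    let g : B →ₗ[B] (B ⧸ I) := Submodule.mkQ I
    let f : I →ₗ[B] B := Submodule.subtype I
    have hex : Function.Exact f g := LinearMap.exact_subtype_mkQ I
    have hexact := AdicCompletion.map_exact (I := 𝔫) (f := f) (g := g)
      (Submodule.injective_subtype I) hex (Submodule.mkQ_surjective I)
    obtain ⟨mbar, hm⟩ := AdicCompletion.of_surjective 𝔫 (B ⧸ I) (AdicCompletion.map 𝔫 g c)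
    obtain ⟨b, rfl⟩ := Submodule.mkQ_surjective I mbar
    refine ⟨b, ?_⟩
    have hker : AdicCompletion.map 𝔫 g (c - φ b) = 0 := by
      rw [map_sub, hφ, AdicCompletion.map_of, ← hm]
      exact sub_self _
    have hall : ∀ t : TensorProduct B (AdicCompletion 𝔫 B) I,
        AdicCompletion.map 𝔫 f (AdicCompletion.ofTensorProduct 𝔫 I t) ∈ I.map φ := by
      intro t
      induction t using TensorProduct.induction_on with
      | zero => simp
      | tmul r x =>
        rw [AdicCompletion.ofTensorProduct_tmul, map_smul, AdicCompletion.map_of]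
        change r • φ (x : B) ∈ I.map φ
        rw [smul_eq_mul]
        exact Ideal.mul_mem_left _ _ (Ideal.mem_map_of_mem φ x.2)
      | add a b ha hb =>
        rw [map_add, map_add]
        exact Ideal.add_mem _ ha hb
    obtain ⟨z, hz⟩ := (hexact (c - φ b)).mp hker
    rw [← hz]
    obtain ⟨t, rfl⟩ := AdicCompletion.ofTensorProduct_surjective_of_finite 𝔫 I z
    exact hall t
  have hsurj : Function.Surjective φ :=
    Groth.Agent.Lib.Helper90.PSUniv.surjective_of_complete φ I (I.map φ) h2 le_rfl le_rfl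
  have hprec : IsPrecomplete 𝔫 B := AdicCompletion.of_surjective_iff.mp hsurj
  exact { toIsHausdorff := hH, toIsPrecomplete := hprec }

theorem map_maximalIdeal_of_surjective {B B₀ : Type u} [CommRing B] [IsLocalRing B]
    [CommRing B₀] [IsLocalRing B₀] (π : B →+* B₀) (hπ : Function.Surjective π) :
    (maximalIdeal B).map π = maximalIdeal B₀ := by
  have hker : RingHom.ker π ≤ maximalIdeal B :=
    IsLocalRing.le_maximalIdeal (RingHom.ker_ne_top π)
  rcases Ideal.map_eq_top_or_isMaximal_of_surjective π hπ (maximalIdeal.isMaximal B) with h | h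
  · exfalso
    have h1 : (1 : B₀) ∈ (maximalIdeal B).map π := by rw [h]; exact Submodule.mem_top
    obtain ⟨a, ha, ha1⟩ := (Ideal.mem_map_iff_of_surjective π hπ).mp h1
    have h2 : 1 - a ∈ RingHom.ker π := by
      rw [RingHom.mem_ker, map_sub, map_one, ha1, sub_self]
    have h3 : (1 : B) ∈ maximalIdeal B := by
      have h4 := Ideal.add_mem _ (hker h2) ha
      rwa [sub_add_cancel] at h4
    exact (maximalIdeal.isMaximal B).ne_top ((Ideal.eq_top_iff_one _).mpr h3)
  · exact IsLocalRing.eq_maximalIdeal h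

theorem isAdicComplete_maximalIdeal_of_surjective {B B₀ : Type u} [CommRing B]
    [IsNoetherianRing B] [IsLocalRing B] [CommRing B₀] [IsLocalRing B₀]
    [IsPrecomplete (maximalIdeal B₀) B₀]
    (π : B →+* B₀) (hπ : Function.Surjective π) [IsAdicComplete (RingHom.ker π) B] :
    IsAdicComplete (maximalIdeal B) B := by
  set I := RingHom.ker π with hIdef
  have hI : I ≤ maximalIdeal B := IsLocalRing.le_maximalIdeal (RingHom.ker_ne_top π)
  have hjac : maximalIdeal B ≤ Ideal.jacobson ⊥ := by
    rw [IsLocalRing.jacobson_eq_maximalIdeal ⊥ bot_ne_top]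
  let e : (B ⧸ I) ≃+* B₀ := RingHom.quotientKerEquivOfSurjective hπ
  have he : ∀ b : B, e (Ideal.Quotient.mk I b) = π b := fun b => rfl
  have hmap : ∀ n : ℕ, (maximalIdeal B ^ n).map π = maximalIdeal B₀ ^ n := by
    intro n
    rw [Ideal.map_pow, map_maximalIdeal_of_surjective π hπ]
  have h1 : ∀ (n : ℕ) (y : B ⧸ I), y ∈ (maximalIdeal B ^ n • ⊤ : Submodule B (B ⧸ I)) →
      e y ∈ maximalIdeal B₀ ^ n := by
    intro n y hy
    refine Submodule.smul_induction_on hy ?_ ?_
    · intro a ha z _
      obtain ⟨z', rfl⟩ := Ideal.Quotient.mk_surjective z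
      have : a • (Ideal.Quotient.mk I z') = Ideal.Quotient.mk I (a * z') := by
        rw [Algebra.smul_def, Ideal.Quotient.algebraMap_eq, map_mul]
      rw [this, he, map_mul]
      refine Ideal.mul_mem_right _ _ ?_
      rw [← hmap]
      exact Ideal.mem_map_of_mem π ha
    · intro x y hx hy
      rw [map_add]
      exact Ideal.add_mem _ hx hy
  have h2 : ∀ (n : ℕ) (y : B ⧸ I), e y ∈ maximalIdeal B₀ ^ n →
      y ∈ (maximalIdeal B ^ n • ⊤ : Submodule B (B ⧸ I)) := by
    intro n y hy
    rw [← hmap] at hy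
    obtain ⟨a, ha, hay⟩ := (Ideal.mem_map_iff_of_surjective π hπ).mp hy
    have hy' : y = a • (1 : B ⧸ I) := by
      apply e.injective
      rw [← hay, Algebra.smul_def, mul_one, Ideal.Quotient.algebraMap_eq, he]
    rw [hy']
    exact Submodule.smul_mem_smul ha Submodule.mem_top
  have hprec : IsPrecomplete (maximalIdeal B) (B ⧸ I) := by
    refine ⟨fun f hf => ?_⟩
    obtain ⟨L₀, hL₀⟩ := IsPrecomplete.prec' (I := maximalIdeal B₀) (fun n => e (f n)) (by
      intro m n hmn
      rw [SModEq.sub_mem, smul_eq_mul, Ideal.mul_top, ← map_sub]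
      exact h1 m _ (SModEq.sub_mem.mp (hf hmn)))
    refine ⟨e.symm L₀, fun n => ?_⟩
    rw [SModEq.sub_mem]
    apply h2
    have := SModEq.sub_mem.mp (hL₀ n)
    rw [smul_eq_mul, Ideal.mul_top] at this
    rw [map_sub, RingEquiv.apply_symm_apply]
    exact this
  exact isAdicComplete_of_quotient I (maximalIdeal B) hI hjac

end Groth.Agent.Lib.Helper88.ComplQuot
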