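import Groth.Prelude.Def_ClSub2
import Mathlib.AlgebraicGeometry.Morphisms.Proper
import Mathlib.AlgebraicGeometry.Morphisms.Immersion
import Mathlib.AlgebraicGeometry.IdealSheaf.Functorial
import Mathlib.Tactic

/-!
# Closed subsets proper over a base: independence of the scheme structure

Helper library for the `ClSub.IsProperOver` family.
-/

set_option autoImplicit false
universe u

namespace Groth.Agent.Lib.Helper88

open CategoryTheory AlgebraicGeometry Limits

/-- Separatedness descends along a surjective closed immersion at the source. -/
theorem isSeparated_of_comp_surjective_closedImmersion {Z T S : Scheme.{u}} (j : Z ⟶ T)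
    (g : T ⟶ S) [IsClosedImmersion j] [Surjective j] [IsSeparated (j ≫ g)] : IsSeparated g := by
  constructor
  apply IsClosedImmersion.of_isPreimmersion
  -- the map `Z ×_S Z ⟶ T ×_S T`
  have hm : IsClosedImmersion (pullback.map (j ≫ g) (j ≫ g) g g j j (𝟙 S)
      ((Category.comp_id _).trans rfl) ((Category.comp_id _).trans rfl)) :=
    MorphismProperty.pullbackMap (P := @IsClosedImmersion) inferInstance inferInstance rfl rfl
  set m := pullback.map (j ≫ g) (j ≫ g) g g j j (𝟙 S)
      ((Category.comp_id _).trans rfl) ((Category.comp_id _).trans rfl) with hm'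
  have hnat : pullback.diagonal (j ≫ g) ≫ m = j ≫ pullback.diagonal g := by
    apply pullback.hom_ext
    · simp only [hm', Category.assoc, pullback.map, pullback.lift_fst, pullback.diagonal_fst,
        Category.comp_id]
      rw [← Category.assoc, pullback.diagonal_fst, Category.id_comp]
    · simp only [hm', Category.assoc, pullback.map, pullback.lift_snd, pullback.diagonal_snd,
        Category.comp_id]
      rw [← Category.assoc, pullback.diagonal_snd, Category.id_comp]
  have hrange : Set.range (pullback.diagonal g) = m '' Set.range (pullback.diagonal (j ≫ g)) := by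
    have h1 : Set.range (pullback.diagonal g) = Set.range (j ≫ pullback.diagonal g) := by
      rw [Scheme.Hom.comp_base, TopCat.coe_comp, Set.range_comp,
        Set.range_eq_univ.mpr (Surjective.surj (f := j)), Set.image_univ]
    rw [h1, ← hnat, Scheme.Hom.comp_base, TopCat.coe_comp, Set.range_comp]
  rw [hrange]
  exact m.isClosedEmbedding.isClosedMap _ (pullback.diagonal (j ≫ g)).isClosedEmbedding.isClosed_range

/-- Properness descends along a surjective closed immersion at the source, for a target morphism
locally of finite type. -/
theorem isProper_of_comp_surjective_closedImmersion {Z T S : Scheme.{u}} (j : Z ⟶ T)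
    (g : T ⟶ S) [IsClosedImmersion j] [Surjective j] [LocallyOfFiniteType g]
    [IsProper (j ≫ g)] : IsProper g := by
  have h1 : IsSeparated g := isSeparated_of_comp_surjective_closedImmersion j g
  have h2 : UniversallyClosed g := UniversallyClosed.of_comp_surjective j g
  exact { }

/-- For a closed immersion `i : T ⟶ X` with range `Z`, the reduced induced subscheme on `Z` maps to
`T` by a surjective closed immersion over `X`. -/
theorem exists_lift_vanishingIdeal {T X : Scheme.{u}} (i : T ⟶ X) [IsClosedImmersion i]
    (Z : Set X) (hZ : IsClosed Z) (hr : Set.range i = Z) :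
    ∃ j : (Scheme.IdealSheafData.vanishingIdeal ⟨Z, hZ⟩).subscheme ⟶ T,
      j ≫ i = (Scheme.IdealSheafData.vanishingIdeal ⟨Z, hZ⟩).subschemeι ∧
        IsClosedImmersion j ∧ Surjective j := by
  set I := Scheme.IdealSheafData.vanishingIdeal ⟨Z, hZ⟩ with hI
  have hsupp : (I.support : Set X) = Z := Scheme.IdealSheafData.coe_support_vanishingIdeal _
  have H : i.ker ≤ I.subschemeι.ker := by
    rw [Scheme.IdealSheafData.ker_subschemeι, hI,
      ← Scheme.IdealSheafData.le_support_iff_le_vanishingIdeal]
    intro x hx
    have : (i.ker.support : Set X) = closure (Set.range i) := by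
      rw [Scheme.Hom.support_ker]
    change x ∈ (i.ker.support : Set X)
    rw [this, hr, hZ.closure_eq]
    exact hx
  refine ⟨IsClosedImmersion.lift i I.subschemeι H, IsClosedImmersion.lift_fac i I.subschemeι H,
    ?_, ?_⟩
  · have : IsClosedImmersion (IsClosedImmersion.lift i I.subschemeι H ≫ i) := by
      rw [IsClosedImmersion.lift_fac]; infer_instance
    exact IsClosedImmersion.of_comp (IsClosedImmersion.lift i I.subschemeι H) i
  · constructor
    intro t
    have ht : i t ∈ Set.range I.subschemeι := by
      rw [I.range_subschemeι, hsupp, ← hr]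
      exact ⟨t, rfl⟩
    obtain ⟨z, hz⟩ := ht
    refine ⟨z, ?_⟩
    apply i.isClosedEmbedding.injective
    rw [← hz, ← Scheme.Hom.comp_apply, IsClosedImmersion.lift_fac]

/-- Whether a closed subset is proper over the base can be tested on any closed subscheme structure,
when the ambient morphism is locally of finite type. -/
theorem isProperOver_iff_of_isClosedImmersion {T X S : Scheme.{u}} (f : X ⟶ S)
    [LocallyOfFiniteType f] (i : T ⟶ X) [IsClosedImmersion i] (Z : Set X)
    (hr : Set.range i = Z) : ClSub.IsProperOver f Z ↔ IsProper (i ≫ f) := by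
  have hZ : IsClosed Z := hr ▸ i.isClosedEmbedding.isClosed_range
  obtain ⟨j, hj, hjc, hjs⟩ := exists_lift_vanishingIdeal i Z hZ hr
  constructor
  · rintro ⟨_, hp⟩
    have : IsProper (j ≫ (i ≫ f)) := by
      rw [← Category.assoc, hj]; exact hp
    exact isProper_of_comp_surjective_closedImmersion j (i ≫ f)
  · intro hp
    refine ⟨hZ, ?_⟩
    rw [← hj, Category.assoc]
    infer_instance

/-- A closed subscheme proper over the base has underlying set proper over the base. -/
theorem isProperOver_of_isClosedImmersion {T X S : Scheme.{u}} (f : X ⟶ S)
    [LocallyOfFiniteType f] (i : T ⟶ X) [IsClosedImmersion i] [IsProper (i ≫ f)] :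
    ClSub.IsProperOver f (Set.range i) :=
  (isProperOver_iff_of_isClosedImmersion f i _ rfl).mpr inferInstance

end Groth.Agent.Lib.Helper88
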