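import Mathlib
import Groth.Prelude.Def_EGA41

/-!
# The imperfection module and the residue field of a local algebra (helper88)

Setting: `k` a field, `A` a local `k`-algebra, `K` a field which is an `A`-algebra with
`A → K` surjective (so `K` is the residue field of `A`).

* `Phi k A K : K ⊗[k] Ω[k⁄ℤ] →ₗ[K] K ⊗[A] Ω[A⁄ℤ]`, the canonical map.
* `mapBaseChange_Phi`: `Ω`-functoriality: `(K ⊗[A] Ω[A⁄ℤ] → Ω[K⁄ℤ]) ∘ Phi = (K ⊗[k] Ω[k⁄ℤ] → Ω[K⁄ℤ])`.
* `injective_lTensor_iff`: the map of `S2471` is injective iff `Phi` is.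
* `finite_imperfection`: if `A` is Noetherian and `Phi` is injective then `Υ_{K/k}` is finite.
-/

set_option autoImplicit false
set_option linter.unusedSectionVars false

universe u

namespace Groth.Agent.Lib.Helper88.ImperfKey

open IsLocalRing TensorProduct

variable (k A K : Type u) [Field k] [CommRing A] [Field K]
  [Algebra k A] [Algebra A K] [Algebra k K] [IsScalarTower k A K]

/-- the `k`-linear map `Ω[k⁄ℤ] → K ⊗[A] Ω[A⁄ℤ]`, `ω ↦ 1 ⊗ ω|_A`. -/
noncomputable def phi0 : Ω[k⁄ℤ] →ₗ[k] K ⊗[A] Ω[A⁄ℤ] :=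
  ((TensorProduct.mk A K Ω[A⁄ℤ] 1).restrictScalars k).comp (KaehlerDifferential.map ℤ ℤ k A)

/-- the canonical `K`-linear map `K ⊗[k] Ω[k⁄ℤ] → K ⊗[A] Ω[A⁄ℤ]`. -/
noncomputable def Phi : K ⊗[k] Ω[k⁄ℤ] →ₗ[K] K ⊗[A] Ω[A⁄ℤ] :=
  LinearMap.liftBaseChange K (phi0 k A K)

theorem Phi_tmul (c : K) (ω : Ω[k⁄ℤ]) :
    Phi k A K (c ⊗ₜ ω) = c ⊗ₜ[A] (KaehlerDifferential.map ℤ ℤ k A ω) := by
  unfold Phi
  rw [LinearMap.liftBaseChange_tmul]
  change c • ((1 : K) ⊗ₜ[A] (KaehlerDifferential.map ℤ ℤ k A ω)) = _
  rw [TensorProduct.smul_tmul', smul_eq_mul, mul_one]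

theorem map_map (ω : Ω[k⁄ℤ]) :
    KaehlerDifferential.map ℤ ℤ A K (KaehlerDifferential.map ℤ ℤ k A ω) =
      KaehlerDifferential.map ℤ ℤ k K ω := by
  have h : ((KaehlerDifferential.map ℤ ℤ A K).restrictScalars k).comp
      (KaehlerDifferential.map ℤ ℤ k A) = KaehlerDifferential.map ℤ ℤ k K := by
    apply Derivation.liftKaehlerDifferential_unique
    ext x
    simp [← IsScalarTower.algebraMap_apply]
  exact LinearMap.congr_fun h ω

theorem mapBaseChange_Phi (z : K ⊗[k] Ω[k⁄ℤ]) :
    KaehlerDifferential.mapBaseChange ℤ A K (Phi k A K z) =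
      KaehlerDifferential.mapBaseChange ℤ k K z := by
  induction z using TensorProduct.induction_on with
  | zero => simp
  | add x y hx hy => simp only [map_add, hx, hy]
  | tmul c ω =>
    rw [Phi_tmul, KaehlerDifferential.mapBaseChange_tmul, KaehlerDifferential.mapBaseChange_tmul,
      map_map]

theorem Phi_cancelBaseChange (w : K ⊗[A] (A ⊗[k] Ω[k⁄ℤ])) :
    Phi k A K (TensorProduct.AlgebraTensorModule.cancelBaseChange k A A K Ω[k⁄ℤ] w) =
      (KaehlerDifferential.mapBaseChange ℤ k A).lTensor K w := by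
  induction w using TensorProduct.induction_on with
  | zero => simp
  | add x y hx hy => simp only [map_add, hx, hy]
  | tmul c y =>
    induction y using TensorProduct.induction_on with
    | zero => simp
    | add x y hx hy => simp only [TensorProduct.tmul_add, map_add, hx, hy]
    | tmul a ω =>
      rw [LinearMap.lTensor_tmul, KaehlerDifferential.mapBaseChange_tmul,
        TensorProduct.AlgebraTensorModule.cancelBaseChange_tmul, Phi_tmul,
        TensorProduct.tmul_smul, TensorProduct.smul_tmul']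

/-- `K ⊗[k] Ω[k⁄ℤ] → K ⊗[A] Ω[A⁄ℤ] → K ⊗[A] Ω[A⁄k]` is a complex. -/
theorem lTensor_map_Phi (z : K ⊗[k] Ω[k⁄ℤ]) :
    (KaehlerDifferential.map ℤ k A A).lTensor K (Phi k A K z) = 0 := by
  induction z using TensorProduct.induction_on with
  | zero => simp
  | add x y hx hy => rw [map_add, map_add, hx, hy, add_zero]
  | tmul c ω =>
    rw [Phi_tmul, LinearMap.lTensor_tmul]
    have h : KaehlerDifferential.map ℤ k A A (KaehlerDifferential.map ℤ ℤ k A ω) = 0 := by
      have h2 : ((KaehlerDifferential.map ℤ k A A).restrictScalars k).comp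
          (KaehlerDifferential.map ℤ ℤ k A) = 0 := by
        apply Derivation.liftKaehlerDifferential_unique
        ext x
        simp
      exact LinearMap.congr_fun h2 ω
    rw [h, TensorProduct.tmul_zero]

/-- ... and it is exact in the middle. -/
theorem exists_Phi_eq_of_lTensor_map_eq_zero (v : K ⊗[A] Ω[A⁄ℤ])
    (hv : (KaehlerDifferential.map ℤ k A A).lTensor K v = 0) :
    ∃ z : K ⊗[k] Ω[k⁄ℤ], Phi k A K z = v := by
  have hex : Function.Exact (KaehlerDifferential.mapBaseChange ℤ k A)
      (KaehlerDifferential.map ℤ k A A) := KaehlerDifferential.exact_mapBaseChange_map ℤ k A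
  have hsurj : Function.Surjective (KaehlerDifferential.map ℤ k A A) :=
    KaehlerDifferential.map_surjective ℤ k A
  have hex2 := lTensor_exact K hex hsurj
  obtain ⟨w, hw⟩ := (hex2 v).mp hv
  exact ⟨_, (Phi_cancelBaseChange k A K w).trans hw⟩

theorem finite_imperfection [IsNoetherianRing A] (hsurj : Function.Surjective (algebraMap A K))
    (hinj : Function.Injective (Phi k A K)) : Module.Finite K (EGA41.imperfection ℤ k K) := by
  have hcot : Module.Finite A (RingHom.ker (algebraMap A K)).Cotangent :=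
    Module.Finite.of_surjective (Ideal.toCotangent _) (Ideal.toCotangent_surjective _)
  have hZfg : (LinearMap.ker (KaehlerDifferential.mapBaseChange ℤ A K)).FG := by
    apply Submodule.FG.of_restrictScalars A
    rw [← KaehlerDifferential.range_kerCotangentToTensor ℤ A K hsurj, LinearMap.range_eq_map]
    exact (Module.Finite.fg_top).map _
  have hle : (EGA41.imperfection ℤ k K).map (Phi k A K) ≤
      LinearMap.ker (KaehlerDifferential.mapBaseChange ℤ A K) := by
    rintro _ ⟨z, hz, rfl⟩
    rw [LinearMap.mem_ker, mapBaseChange_Phi]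
    exact hz
  have h1 : ((EGA41.imperfection ℤ k K).map (Phi k A K)).FG := Submodule.FG.of_le hZfg hle
  exact Module.Finite.iff_fg.mpr (Submodule.fg_of_fg_map_injective _ hinj h1)

section Local

variable [IsLocalRing A]

theorem ker_algebraMap (hsurj : Function.Surjective (algebraMap A K)) :
    RingHom.ker (algebraMap A K) = maximalIdeal A := by
  have : (RingHom.ker (algebraMap A K)).IsMaximal := RingHom.ker_isMaximal_of_surjective _ hsurj
  exact IsLocalRing.eq_maximalIdeal this

theorem nonempty_residueField_linearEquiv (hsurj : Function.Surjective (algebraMap A K)) :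
    Nonempty (ResidueField A ≃ₗ[A] K) := by
  have hs' : Function.Surjective (Algebra.ofId A K) := hsurj
  have h : maximalIdeal A = RingHom.ker (Algebra.ofId A K) := (ker_algebraMap A K hsurj).symm
  exact ⟨((Ideal.quotientEquivAlgOfEq A h).trans
    (Ideal.quotientKerAlgEquivOfSurjective hs')).toLinearEquiv⟩

theorem nonempty_residueField_algEquiv (hsurj : Function.Surjective (algebraMap A K)) :
    Nonempty (ResidueField A ≃ₐ[k] K) := by
  have hs' : Function.Surjective (IsScalarTower.toAlgHom k A K) := hsurj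
  have h : maximalIdeal A = RingHom.ker (IsScalarTower.toAlgHom k A K) :=
    (ker_algebraMap A K hsurj).symm
  exact ⟨(Ideal.quotientEquivAlgOfEq k h).trans (Ideal.quotientKerAlgEquivOfSurjective hs')⟩

theorem injective_lTensor_iff (hsurj : Function.Surjective (algebraMap A K)) :
    Function.Injective ((KaehlerDifferential.mapBaseChange ℤ k A).lTensor (ResidueField A)) ↔
      Function.Injective (Phi k A K) := by
  obtain ⟨e⟩ := nonempty_residueField_linearEquiv A K hsurj
  let e₂ : ResidueField A ⊗[A] Ω[A⁄ℤ] ≃ₗ[A] K ⊗[A] Ω[A⁄ℤ] := LinearEquiv.rTensor Ω[A⁄ℤ] e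
  let e₁ : ResidueField A ⊗[A] (A ⊗[k] Ω[k⁄ℤ]) ≃ₗ[A] K ⊗[k] Ω[k⁄ℤ] :=
    (LinearEquiv.rTensor (A ⊗[k] Ω[k⁄ℤ]) e) ≪≫ₗ
      (TensorProduct.AlgebraTensorModule.cancelBaseChange k A A K Ω[k⁄ℤ])
  have hsq : ∀ z, e₂ ((KaehlerDifferential.mapBaseChange ℤ k A).lTensor (ResidueField A) z) =
      Phi k A K (e₁ z) := by
    intro z
    induction z using TensorProduct.induction_on with
    | zero => simp
    | add x y hx hy => simp only [map_add, hx, hy]
    | tmul c y =>
      induction y using TensorProduct.induction_on with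
      | zero => simp
      | add x y hx hy => simp only [TensorProduct.tmul_add, map_add, hx, hy]
      | tmul a ω =>
        rw [LinearMap.lTensor_tmul, KaehlerDifferential.mapBaseChange_tmul]
        change (e c) ⊗ₜ[A] (a • KaehlerDifferential.map ℤ ℤ k A ω) =
          Phi k A K (TensorProduct.AlgebraTensorModule.cancelBaseChange k A A K Ω[k⁄ℤ]
            ((e c) ⊗ₜ[A] (a ⊗ₜ[k] ω)))
        rw [TensorProduct.AlgebraTensorModule.cancelBaseChange_tmul, Phi_tmul,
          TensorProduct.tmul_smul, TensorProduct.smul_tmul']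
  have hfun : (e₂ : _ → _) ∘ ((KaehlerDifferential.mapBaseChange ℤ k A).lTensor (ResidueField A)) =
      (Phi k A K) ∘ (e₁ : _ → _) := funext hsq
  rw [← EquivLike.comp_injective _ e₂, hfun, EquivLike.injective_comp e₁]

end Local

end Groth.Agent.Lib.Helper88.ImperfKey
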