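import Mathlib
import Groth.Agent.Lib.Helper18.AdicQuot
import Groth.Agent.S14002

/-!
# Flatness of the adic completion of a flat algebra (helper88)

This is a verbatim copy of `flat_adicCompletion_of_flat` (and its four small lemmas) from
`Groth.Agent.Lib.Helper9.Hens.Noetherian` (helper9), reproduced here only to avoid importing the
whole henselization library.
-/

set_option autoImplicit false

namespace Groth.Agent.Lib.Helper88.ComplFlat

open TensorProduct

universe u

section LemmaQ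

variable {R : Type u} [CommRing R] (𝔞 : Ideal R) {M Q : Type u} [AddCommGroup M] [Module R M]
  [AddCommGroup Q] [Module R Q]

theorem one_tmul_eq_zero_of_mem_smul_top (x : M) (hx : x ∈ 𝔞 • (⊤ : Submodule R M)) :
    (1 : R ⧸ 𝔞) ⊗ₜ[R] x = 0 := by
  refine Submodule.smul_induction_on hx ?_ ?_
  · intro a ha m _
    rw [← TensorProduct.smul_tmul, Algebra.smul_def, mul_one,
      Ideal.Quotient.algebraMap_eq, Ideal.Quotient.eq_zero_iff_mem.mpr ha, TensorProduct.zero_tmul]
  · intro x y hx hy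
    rw [TensorProduct.tmul_add, hx, hy, add_zero]

theorem mem_smul_top_of_one_tmul_eq_zero (x : M) (hx : (1 : R ⧸ 𝔞) ⊗ₜ[R] x = 0) :
    x ∈ 𝔞 • (⊤ : Submodule R M) := by
  have h1 := congrArg (TensorProduct.quotTensorEquivQuotSMul M 𝔞) hx
  rw [map_zero] at h1
  have h2 : (TensorProduct.quotTensorEquivQuotSMul M 𝔞) ((1 : R ⧸ 𝔞) ⊗ₜ[R] x) =
      Submodule.Quotient.mk x := by
    have : (1 : R ⧸ 𝔞) = Ideal.Quotient.mk 𝔞 1 := (map_one _).symm
    rw [this, TensorProduct.quotTensorEquivQuotSMul_mk_tmul, one_smul]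
  rw [h2, Submodule.Quotient.mk_eq_zero] at h1
  exact h1

theorem exists_one_tmul_eq (z : (R ⧸ 𝔞) ⊗[R] M) : ∃ x : M, z = (1 : R ⧸ 𝔞) ⊗ₜ[R] x := by
  induction z using TensorProduct.induction_on with
  | zero => exact ⟨0, by simp⟩
  | tmul r x =>
    obtain ⟨a, rfl⟩ := Ideal.Quotient.mk_surjective r
    refine ⟨a • x, ?_⟩
    rw [← TensorProduct.smul_tmul, Algebra.smul_def, mul_one,
      Ideal.Quotient.algebraMap_eq]
  | add a b ha hb =>
    obtain ⟨x, rfl⟩ := ha
    obtain ⟨y, rfl⟩ := hb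
    exact ⟨x + y, by rw [TensorProduct.tmul_add]⟩

/-- A surjection with kernel `𝔞 M` becomes bijective after `- ⊗ R/𝔞`. -/
theorem baseChange_bijective_of_ker_eq (f : M →ₗ[R] Q) (hf : Function.Surjective f)
    (hker : ∀ x, f x = 0 → x ∈ 𝔞 • (⊤ : Submodule R M)) :
    Function.Bijective (f.baseChange (R ⧸ 𝔞)) := by
  constructor
  · rw [injective_iff_map_eq_zero]
    intro z hz
    obtain ⟨x, rfl⟩ := exists_one_tmul_eq 𝔞 z
    rw [LinearMap.baseChange_tmul] at hz
    have h1 := mem_smul_top_of_one_tmul_eq_zero 𝔞 (f x) hz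
    have h2 : (𝔞 • (⊤ : Submodule R Q)) = Submodule.map f (𝔞 • (⊤ : Submodule R M)) := by
      rw [Submodule.map_smul'', Submodule.map_top, LinearMap.range_eq_top.mpr hf]
    rw [h2] at h1
    obtain ⟨y, hy, hxy⟩ := h1
    have h3 : x - y ∈ 𝔞 • (⊤ : Submodule R M) := hker _ (by rw [map_sub, hxy, sub_self])
    have h4 : x ∈ 𝔞 • (⊤ : Submodule R M) := by
      have : x = (x - y) + y := by abel
      rw [this]
      exact Submodule.add_mem _ h3 hy
    exact one_tmul_eq_zero_of_mem_smul_top 𝔞 x h4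
  · exact LinearMap.lTensor_surjective _ hf

end LemmaQ

section AdicFlat

variable (R : Type u) [CommRing R] [IsNoetherianRing R] (S : Type u) [CommRing S] [Algebra R S]
  [Module.Flat R S] (𝔪 : Ideal R)

/-- The completion of a flat algebra `S` over a Noetherian ring `R` along `𝔪 S` is flat over `R`,
provided this completion is Noetherian. -/
theorem flat_adicCompletion_of_flat
    [IsNoetherianRing (AdicCompletion (𝔪.map (algebraMap R S)) S)] :
    Module.Flat R (AdicCompletion (𝔪.map (algebraMap R S)) S) := by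
  set I : Ideal S := 𝔪.map (algebraMap R S) with hI
  have hIfg : I.FG := Ideal.FG.map (IsNoetherian.noetherian 𝔪) _
  have htower : IsScalarTower R S (AdicCompletion I S) := IsScalarTower.of_algebraMap_eq (fun r => rfl)
  have hmapC : I.map (algebraMap S (AdicCompletion I S)) =
      𝔪.map (algebraMap R (AdicCompletion I S)) := by
    rw [hI, Ideal.map_map, ← IsScalarTower.algebraMap_eq]
  have : IsAdicComplete (𝔪.map (algebraMap R (AdicCompletion I S))) (AdicCompletion I S) := by
    rw [← hmapC]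
    exact AdicCompletion.isAdicComplete_self I hIfg
  refine (Groth.Agent.S14002.result R (AdicCompletion I S) 𝔪).mpr ?_
  intro n _
  -- the two surjections onto `S ⧸ I ^ n`
  let fC : AdicCompletion I S →ₗ[R] S ⧸ I ^ n :=
    ((AdicCompletion.evalₐ I n).restrictScalars R).toLinearMap
  let fS : S →ₗ[R] S ⧸ I ^ n := ((Ideal.Quotient.mkₐ R (I ^ n))).toLinearMap
  have hfC : Function.Surjective fC := AdicCompletion.surjective_evalₐ I n
  have hfS : Function.Surjective fS := Ideal.Quotient.mk_surjective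
  have hkerC : ∀ x, fC x = 0 → x ∈ (𝔪 ^ n) • (⊤ : Submodule R (AdicCompletion I S)) := by
    intro x hx
    have h1 : x ∈ RingHom.ker (AdicCompletion.evalₐ I n).toRingHom := hx
    rw [Groth.Agent.Lib.Helper18.ker_evalₐ_eq_map_pow I hIfg n, hmapC, ← Ideal.map_pow] at h1
    rw [Ideal.smul_top_eq_map]
    exact h1
  have hkerS : ∀ x, fS x = 0 → x ∈ (𝔪 ^ n) • (⊤ : Submodule R S) := by
    intro x hx
    have h1 : x ∈ I ^ n := Ideal.Quotient.eq_zero_iff_mem.mp hx
    rw [hI, ← Ideal.map_pow] at h1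
    rw [Ideal.smul_top_eq_map]
    exact h1
  let eC := LinearEquiv.ofBijective (fC.baseChange (R ⧸ 𝔪 ^ n))
    (baseChange_bijective_of_ker_eq (𝔪 ^ n) fC hfC hkerC)
  let eS := LinearEquiv.ofBijective (fS.baseChange (R ⧸ 𝔪 ^ n))
    (baseChange_bijective_of_ker_eq (𝔪 ^ n) fS hfS hkerS)
  exact Module.Flat.of_linearEquiv (eC.trans eS.symm)

end AdicFlat

end Groth.Agent.Lib.Helper88.ComplFlat
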