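import Mathlib
import Groth.Agent.Lib.Helper88.ComplFlat
import Groth.Agent.S0396

/-!
# Freeness of the completion of a module with flat truncations (helper88)

`A` Noetherian local with maximal ideal `𝔪`, `M` an `A`-module (not necessarily finite) whose
`𝔪`-adic completion `M̂` is a finite `A`-module and such that `M/𝔪ⁿM` is flat over `A/𝔪ⁿ` for all
`n ≥ 1`.  Then `M̂` is free of rank `dim_κ (κ ⊗ M)`.
-/

set_option autoImplicit false
set_option linter.unusedSectionVars false

universe u

namespace Groth.Agent.Lib.Helper88.ComplFree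

open IsLocalRing TensorProduct Groth.Agent.Lib.Helper88.ComplFlat

variable {A : Type u} [CommRing A] [IsNoetherianRing A] (I : Ideal A)
  (M : Type u) [AddCommGroup M] [Module A M]

/-- `(A/Iⁿ) ⊗ M̂ ≃ (A/Iⁿ) ⊗ M`. -/
theorem nonempty_baseChange_equiv (n : ℕ) :
    Nonempty (((A ⧸ I ^ n) ⊗[A] AdicCompletion I M) ≃ₗ[A ⧸ I ^ n] ((A ⧸ I ^ n) ⊗[A] M)) := by
  have hIfg : I.FG := IsNoetherian.noetherian I
  let fC : AdicCompletion I M →ₗ[A] M ⧸ (I ^ n • ⊤ : Submodule A M) := AdicCompletion.eval I M n
  let fS : M →ₗ[A] M ⧸ (I ^ n • ⊤ : Submodule A M) := Submodule.mkQ _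
  have hfC : Function.Surjective fC := AdicCompletion.eval_surjective I M n
  have hfS : Function.Surjective fS := Submodule.mkQ_surjective _
  have hkerC : ∀ x, fC x = 0 → x ∈ (I ^ n) • (⊤ : Submodule A (AdicCompletion I M)) := by
    intro x hx
    rw [AdicCompletion.pow_smul_top_eq_ker_eval hIfg]
    exact hx
  have hkerS : ∀ x, fS x = 0 → x ∈ (I ^ n) • (⊤ : Submodule A M) := by
    intro x hx
    exact (Submodule.Quotient.mk_eq_zero _).mp hx
  let eC := LinearEquiv.ofBijective (fC.baseChange (A ⧸ I ^ n))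
    (baseChange_bijective_of_ker_eq (I ^ n) fC hfC hkerC)
  let eS := LinearEquiv.ofBijective (fS.baseChange (A ⧸ I ^ n))
    (baseChange_bijective_of_ker_eq (I ^ n) fS hfS hkerS)
  exact ⟨eC.trans eS.symm⟩

theorem nonempty_baseChange_equiv' (J : Ideal A) (n : ℕ) (hJ : J = I ^ n) :
    Nonempty (((A ⧸ J) ⊗[A] AdicCompletion I M) ≃ₗ[A ⧸ J] ((A ⧸ J) ⊗[A] M)) := by
  subst hJ
  exact nonempty_baseChange_equiv I M n

section Local

variable {A : Type u} [CommRing A] [IsNoetherianRing A] [IsLocalRing A]
  (M : Type u) [AddCommGroup M] [Module A M]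

theorem flat_of_localizedModule (N : Type u) [AddCommGroup N] [Module A N]
    (h : Module.Flat A (LocalizedModule (maximalIdeal A).primeCompl N)) : Module.Flat A N := by
  have hloc : IsLocalization (maximalIdeal A).primeCompl A :=
    IsLocalization.of_le_isUnit (fun s hs => by
      by_contra hns
      exact hs ((IsLocalRing.mem_maximalIdeal s).mpr hns))
  have : IsLocalizedModule (maximalIdeal A).primeCompl (LinearMap.id : N →ₗ[A] N) :=
    isLocalizedModule_id _ N A
  exact Module.Flat.of_linearEquiv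
    (IsLocalizedModule.iso (maximalIdeal A).primeCompl (LinearMap.id : N →ₗ[A] N)).symm

theorem free_adicCompletion [Module.Finite A (AdicCompletion (maximalIdeal A) M)]
    (h : ∀ n : ℕ, 0 < n →
      Module.Flat (A ⧸ maximalIdeal A ^ n) ((A ⧸ maximalIdeal A ^ n) ⊗[A] M)) :
    Module.Free A (AdicCompletion (maximalIdeal A) M) ∧
      Module.finrank A (AdicCompletion (maximalIdeal A) M) =
        Module.finrank (A ⧸ maximalIdeal A) ((A ⧸ maximalIdeal A) ⊗[A] M) := by
  have h' : ∀ n : ℕ, 0 < n → Module.Flat (A ⧸ maximalIdeal A ^ n)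
      ((A ⧸ maximalIdeal A ^ n) ⊗[A] AdicCompletion (maximalIdeal A) M) := by
    intro n hn
    obtain ⟨e⟩ := nonempty_baseChange_equiv (maximalIdeal A) M n
    have := h n hn
    exact Module.Flat.of_linearEquiv e
  have h1 : Module.Flat A (LocalizedModule (maximalIdeal A).primeCompl
      (AdicCompletion (maximalIdeal A) M)) :=
    Groth.Agent.S0396.result (R := A) (S := A) (maximalIdeal A) h' (maximalIdeal A)
      (by rw [Algebra.algebraMap_self, Ideal.map_id])
  have h2 : Module.Flat A (AdicCompletion (maximalIdeal A) M) := flat_of_localizedModule _ h1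
  have h3 : Module.Free A (AdicCompletion (maximalIdeal A) M) := Module.free_of_flat_of_isLocalRing
  refine ⟨h3, ?_⟩
  obtain ⟨e⟩ := nonempty_baseChange_equiv' (maximalIdeal A) M (maximalIdeal A) 1 (pow_one _).symm
  have hnt : Nontrivial (A ⧸ maximalIdeal A) :=
    Ideal.Quotient.nontrivial_iff.mpr (maximalIdeal.isMaximal A).ne_top
  rw [← e.finrank_eq, Module.finrank_baseChange]

theorem finite_fibre [Module.Finite A (AdicCompletion (maximalIdeal A) M)] :
    Module.Finite (A ⧸ maximalIdeal A) ((A ⧸ maximalIdeal A) ⊗[A] M) := by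
  obtain ⟨e⟩ := nonempty_baseChange_equiv' (maximalIdeal A) M (maximalIdeal A) 1 (pow_one _).symm
  exact Module.Finite.equiv e

end Local

end Groth.Agent.Lib.Helper88.ComplFree
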