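import Mathlib
import Groth.Agent.Lib.Helper81.CohenLift
import Groth.Agent.Lib.Helper81.CohenRing
import Groth.Agent.Lib.Helper90.PSIdeal

/-!
# Twisted coefficient embeddings into power series rings (helper88)

* `exists_lift_field`: ring maps from a field `k` into `C ⧸ I` lift to `C` when `C` is `I`-adically
  complete (and of characteristic `p` if `k` is).
* `exists_twist`: for fields `k ⊆ K` and a derivation `δ : k → Kⁿ` there is a ring map
  `j : k → K[[T₁..Tₙ]]` with constant term the inclusion and linear term `δ`.
-/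

set_option autoImplicit false
set_option linter.unusedSectionVars false

universe u v

namespace Groth.Agent.Lib.Helper88.TwistPS

open IsLocalRing

theorem exists_lift_field {k : Type u} [Field k] {C : Type v} [CommRing C] (I : Ideal C)
    [IsAdicComplete I C] (hchar : ∀ p : ℕ, p.Prime → CharP k p → ((p : ℕ) : C) = 0)
    (u : k →+* C ⧸ I) : ∃ v : k →+* C, (Ideal.Quotient.mk I).comp v = u := by
  classical
  obtain ⟨p, hcharp⟩ := CharP.exists k
  rcases CharP.char_is_prime_or_zero k p with hp | hp0
  · have hpf : Fact p.Prime := ⟨hp⟩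
    have hpC : ((p : ℕ) : C) = 0 := hchar p hp hcharp
    obtain ⟨W, _, _, _, _, hWc, hmW, ⟨e⟩⟩ :=
      Groth.Agent.Lib.Helper81.CohenRing.exists_cohenRing p k
    have hpI : ((p : ℕ) : C) ∈ I := by
      rw [hpC]
      exact Ideal.zero_mem _
    obtain ⟨v₀, hv₀⟩ := Groth.Agent.Lib.Helper81.CohenLift.exists_lift_complete (Λ := W) hp hmW I hpI
      (u.comp ((e : ResidueField W →+* k).comp (residue W)))
    let v₁ : ResidueField W →+* C := Ideal.Quotient.lift (maximalIdeal W) v₀ (by
      intro a ha
      rw [hmW] at ha
      obtain ⟨b, rfl⟩ := Ideal.mem_span_singleton'.mp ha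
      rw [map_mul, map_natCast, hpC, mul_zero])
    refine ⟨v₁.comp (e.symm : k →+* ResidueField W), ?_⟩
    ext x
    obtain ⟨w, hw⟩ := residue_surjective (e.symm x)
    have h1 : v₁ (e.symm x) = v₀ w := by
      rw [← hw]
      rfl
    change Ideal.Quotient.mk I (v₁ (e.symm x)) = u x
    rw [h1]
    have h2 := DFunLike.congr_fun hv₀ w
    change Ideal.Quotient.mk I (v₀ w) = u (e (residue W w)) at h2
    rw [h2, hw, RingEquiv.apply_symm_apply]
  · subst hp0
    have hcz : CharZero k := CharP.charP_to_charZero k
    have hQk : Algebra.FormallySmooth ℚ k := by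
      obtain ⟨s, hs⟩ := exists_isTranscendenceBasis ℚ k
      have : Algebra.IsAlgebraic (IntermediateField.adjoin ℚ (Set.range ((↑) : s → k))) k :=
        hs.isAlgebraic_field
      have : Algebra.IsSeparable (IntermediateField.adjoin ℚ (Set.range ((↑) : s → k))) k :=
        Algebra.IsAlgebraic.isSeparable_of_perfectField
      exact Algebra.FormallySmooth.of_algebraicIndependent_of_isSeparable hs.1
    have hZQ : Algebra.FormallySmooth ℤ ℚ :=
      Algebra.FormallySmooth.of_isLocalization (nonZeroDivisors ℤ)
    have hZk : Algebra.FormallySmooth ℤ k := by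
      refine @Algebra.FormallySmooth.comp ℤ _ ℚ _ _ k _ _ _ ?_ _ _
      exact IsScalarTower.of_algebraMap_eq' (RingHom.ext_int _ _)
    obtain ⟨g, hg⟩ := Algebra.FormallySmooth.exists_mkₐ_comp_eq_of_isAdicComplete
      (I := I) (u.toIntAlgHom)
    refine ⟨(g : k →+* C), ?_⟩
    ext x
    exact DFunLike.congr_fun hg x

section Twist

open MvPowerSeries

variable {k K : Type u} [Field k] [Field K] [Algebra k K] (n : ℕ)

/-- the degree `≤ 1` approximation of the twisted embedding. -/
noncomputable def base (δ : Derivation ℤ k (Fin n → K)) (x : k) : MvPowerSeries (Fin n) K :=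
  C (algebraMap k K x) + ∑ i, C (δ x i) * X i

theorem base_mul_sub_mem (δ : Derivation ℤ k (Fin n → K)) (x y : k) :
    base n δ x * base n δ y - base n δ (x * y) ∈
      Ideal.span (Set.range (X : Fin n → MvPowerSeries (Fin n) K)) ^ 2 := by
  have hX : ∀ i : Fin n, (X i : MvPowerSeries (Fin n) K) ∈
      Ideal.span (Set.range (X : Fin n → MvPowerSeries (Fin n) K)) :=
    fun i => Ideal.subset_span ⟨i, rfl⟩
  have hsum : ∀ z : k, ∑ i, C (δ z i) * (X i : MvPowerSeries (Fin n) K) ∈
      Ideal.span (Set.range (X : Fin n → MvPowerSeries (Fin n) K)) :=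
    fun z => Ideal.sum_mem _ fun i _ => Ideal.mul_mem_left _ _ (hX i)
  have hδ : ∀ i, δ (x * y) i = algebraMap k K x * δ y i + algebraMap k K y * δ x i := by
    intro i
    rw [Derivation.leibniz, Pi.add_apply, Pi.smul_apply, Pi.smul_apply, Algebra.smul_def,
      Algebra.smul_def]
  have key : base n δ x * base n δ y - base n δ (x * y) =
      (∑ i, C (δ x i) * (X i : MvPowerSeries (Fin n) K)) * (∑ i, C (δ y i) * X i) := by
    have h1 : ∑ i, C (δ (x * y) i) * (X i : MvPowerSeries (Fin n) K) =
        C (algebraMap k K x) * (∑ i, C (δ y i) * X i) +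
          C (algebraMap k K y) * (∑ i, C (δ x i) * X i) := by
      rw [Finset.mul_sum, Finset.mul_sum, ← Finset.sum_add_distrib]
      refine Finset.sum_congr rfl fun i _ => ?_
      rw [hδ i, map_add, map_mul, map_mul]
      ring
    unfold base
    rw [h1, map_mul, map_mul]
    ring
  rw [key, sq]
  exact Ideal.mul_mem_mul (hsum x) (hsum y)

theorem exists_twist (δ : Derivation ℤ k (Fin n → K)) :
    ∃ j : k →+* MvPowerSeries (Fin n) K,
      (∀ x, constantCoeff (j x) = algebraMap k K x) ∧
      ∀ x i, coeff (Finsupp.single i 1) (j x) = δ x i := by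
  classical
  let A := MvPowerSeries (Fin n) K
  set I₂ : Ideal A := Ideal.span (Set.range (X : Fin n → A)) ^ 2 with hI₂
  have hcomp : IsAdicComplete I₂ A :=
    Groth.Agent.Lib.Helper90.PSUniv.isAdicComplete_pow _ 2 (by norm_num)
  let j₂ : k →+* A ⧸ I₂ :=
    { toFun := fun x => Ideal.Quotient.mk I₂ (base n δ x)
      map_one' := by
        have : base n δ 1 = 1 := by
          unfold base
          rw [Derivation.map_one_eq_zero]
          simp
        rw [this, map_one]
      map_mul' := by
        intro x y
        rw [← map_mul, eq_comm, Ideal.Quotient.mk_eq_mk_iff_sub_mem]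
        exact base_mul_sub_mem n δ x y
      map_zero' := by
        have : base n δ 0 = 0 := by
          unfold base
          simp
        rw [this, map_zero]
      map_add' := by
        intro x y
        rw [← map_add]
        congr 1
        unfold base
        rw [map_add, map_add, map_add]
        simp only [Pi.add_apply, map_add, add_mul, Finset.sum_add_distrib]
        ring }
  have hchar : ∀ p : ℕ, p.Prime → CharP k p → ((p : ℕ) : A) = 0 := by
    intro p hp hk
    have hK : CharP K p := charP_of_injective_algebraMap (algebraMap k K).injective p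
    rw [← map_natCast (C : K →+* A), CharP.cast_eq_zero, map_zero]
  obtain ⟨j, hj⟩ := exists_lift_field I₂ hchar j₂
  have hmem : ∀ x, j x - base n δ x ∈ I₂ := by
    intro x
    rw [← Ideal.Quotient.mk_eq_mk_iff_sub_mem]
    exact DFunLike.congr_fun hj x
  have hcoeff : ∀ x (d : Fin n →₀ ℕ), d.degree < 2 → coeff d (j x) = coeff d (base n δ x) := by
    intro x d hd
    have := (Groth.Agent.Lib.Helper90.PSIdeal.mem_pow_iff 2 _).mp (hmem x) d hd
    rw [map_sub, sub_eq_zero] at this
    exact this
  refine ⟨j, fun x => ?_, fun x i => ?_⟩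
  · rw [← coeff_zero_eq_constantCoeff_apply, hcoeff x 0 (by simp)]
    unfold base
    rw [map_add, coeff_zero_C, map_sum]
    simp [coeff_zero_eq_constantCoeff_apply]
  · rw [hcoeff x (Finsupp.single i 1) (by simp)]
    unfold base
    rw [map_add, map_sum]
    simp only [coeff_C_mul, coeff_X]
    rw [coeff_C]
    simp [Finsupp.single_eq_single_iff]

end Twist

end Groth.Agent.Lib.Helper88.TwistPS
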