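import Mathlib
import Groth.Agent.Lib.Helper88.ImperfKey
import Groth.Agent.Lib.Helper88.TwistPS

/-!
# The fibre of `Ω[A⁄k]` at the closed point of a formally smooth local `k`-algebra (helper88)

`cotToTensor R A : 𝔪/𝔪² →ₗ[κ] κ ⊗[A] Ω[A⁄R]`, its exactness with `κ ⊗ Ω[A⁄R] → Ω[κ⁄R]`,
its injectivity for `R = ℤ` when `A` is complete and contains a field, and the rank count
`dim κ ⊗ Ω[A⁄k] = dim 𝔪/𝔪² + dim Ω[κ⁄k] − dim Υ_{κ/k}` when `Phi` is injective.
-/

set_option autoImplicit false
set_option linter.unusedSectionVars false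

universe u v

namespace Groth.Agent.Lib.Helper88.FibreKaehlerRank

open IsLocalRing TensorProduct Groth.Agent.Lib.Helper88.ImperfKey

section General

variable (R : Type v) (A : Type u) [CommRing R] [CommRing A] [Algebra R A] [IsLocalRing A]

theorem ker_algebraMap_residueField :
    RingHom.ker (algebraMap A (ResidueField A)) = maximalIdeal A :=
  IsLocalRing.ker_residue

/-- the `A`-linear cotangent map `𝔪/𝔪² → κ ⊗[A] Ω[A⁄R]`. -/
noncomputable def cotToTensorA : CotangentSpace A →ₗ[A] (ResidueField A) ⊗[A] Ω[A⁄R] :=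
  (KaehlerDifferential.kerCotangentToTensor R A (ResidueField A)).comp
    (Ideal.mapCotangent (maximalIdeal A) (RingHom.ker (algebraMap A (ResidueField A)))
      (AlgHom.id A A) (by
        intro x hx
        rw [ker_algebraMap_residueField]
        exact hx))

theorem cotToTensorA_toCotangent (x : maximalIdeal A) :
    cotToTensorA R A ((maximalIdeal A).toCotangent x) = 1 ⊗ₜ KaehlerDifferential.D R A x.1 := rfl

/-- the `κ`-linear cotangent map `𝔪/𝔪² → κ ⊗[A] Ω[A⁄R]`. -/
noncomputable def cotToTensor : CotangentSpace A →ₗ[ResidueField A] (ResidueField A) ⊗[A] Ω[A⁄R] :=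
  (cotToTensorA R A).extendScalarsOfSurjective residue_surjective

theorem cotToTensor_toCotangent (x : maximalIdeal A) :
    cotToTensor R A ((maximalIdeal A).toCotangent x) = 1 ⊗ₜ KaehlerDifferential.D R A x.1 := rfl

variable [Algebra R (ResidueField A)] [IsScalarTower R A (ResidueField A)]

theorem mem_range_cotToTensor_iff (v : (ResidueField A) ⊗[A] Ω[A⁄R]) :
    v ∈ LinearMap.range (cotToTensor R A) ↔
      KaehlerDifferential.mapBaseChange R A (ResidueField A) v = 0 := by
  have h := KaehlerDifferential.range_kerCotangentToTensor R A (ResidueField A) residue_surjective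
  have hv : v ∈ LinearMap.range (KaehlerDifferential.kerCotangentToTensor R A (ResidueField A)) ↔
      KaehlerDifferential.mapBaseChange R A (ResidueField A) v = 0 := by
    rw [h]
    rfl
  rw [← hv]
  constructor
  · rintro ⟨y, rfl⟩
    exact ⟨_, rfl⟩
  · rintro ⟨y, rfl⟩
    obtain ⟨⟨y, hy⟩, rfl⟩ := Ideal.toCotangent_surjective _ y
    have hy' : y ∈ maximalIdeal A := by
      rw [← ker_algebraMap_residueField]
      exact hy
    exact ⟨(maximalIdeal A).toCotangent ⟨y, hy'⟩, rfl⟩

end General

section Coeff

variable (A : Type u) [CommRing A] [IsLocalRing A]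

theorem sub_coeff_mem (σ : ResidueField A →+* A) (hσ : ∀ c, residue A (σ c) = c) (a : A) :
    a - σ (residue A a) ∈ maximalIdeal A := by
  rw [← residue_eq_zero_iff, map_sub, hσ, sub_self]

/-- the additive map `a ↦ class of (a - σ(ā))`. -/
noncomputable def coeffAdd (σ : ResidueField A →+* A) (hσ : ∀ c, residue A (σ c) = c) :
    A →+ CotangentSpace A where
  toFun a := (maximalIdeal A).toCotangent ⟨a - σ (residue A a), sub_coeff_mem A σ hσ a⟩
  map_zero' := by
    rw [← map_zero (maximalIdeal A).toCotangent]
    congr 1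
    apply Subtype.ext
    simp
  map_add' a b := by
    rw [← map_add (maximalIdeal A).toCotangent]
    congr 1
    apply Subtype.ext
    simp only [map_add, Submodule.coe_add]
    ring

theorem coeffAdd_apply (σ : ResidueField A →+* A) (hσ : ∀ c, residue A (σ c) = c) (a : A) :
    coeffAdd A σ hσ a =
      (maximalIdeal A).toCotangent ⟨a - σ (residue A a), sub_coeff_mem A σ hσ a⟩ := rfl

/-- the derivation `a ↦ class of (a - σ(ā))`. -/
noncomputable def coeffDer (σ : ResidueField A →+* A) (hσ : ∀ c, residue A (σ c) = c) :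
    Derivation ℤ A (CotangentSpace A) where
  toLinearMap := (coeffAdd A σ hσ).toIntLinearMap
  map_one_eq_zero' := by
    change coeffAdd A σ hσ 1 = 0
    rw [coeffAdd_apply, ← map_zero (maximalIdeal A).toCotangent]
    congr 1
    apply Subtype.ext
    simp
  leibniz' a b := by
    change coeffAdd A σ hσ (a * b) = a • coeffAdd A σ hσ b + b • coeffAdd A σ hσ a
    rw [coeffAdd_apply, coeffAdd_apply, coeffAdd_apply, ← map_smul, ← map_smul, ← map_add,
      Ideal.toCotangent_eq]
    have h : (a * b - σ (residue A (a * b))) -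
        (a * (b - σ (residue A b)) + b * (a - σ (residue A a))) =
        - ((a - σ (residue A a)) * (b - σ (residue A b))) := by
      rw [map_mul, map_mul]
      ring
    change (a * b - σ (residue A (a * b))) -
        (a * (b - σ (residue A b)) + b * (a - σ (residue A a))) ∈ maximalIdeal A ^ 2
    rw [h, pow_two]
    exact Ideal.neg_mem_iff _ |>.mpr
      (Ideal.mul_mem_mul (sub_coeff_mem A σ hσ a) (sub_coeff_mem A σ hσ b))

theorem coeffDer_apply (σ : ResidueField A →+* A) (hσ : ∀ c, residue A (σ c) = c) (a : A) :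
    coeffDer A σ hσ a =
      (maximalIdeal A).toCotangent ⟨a - σ (residue A a), sub_coeff_mem A σ hσ a⟩ := rfl

theorem coeffDer_of_mem (σ : ResidueField A →+* A) (hσ : ∀ c, residue A (σ c) = c)
    (x : maximalIdeal A) : coeffDer A σ hσ x.1 = (maximalIdeal A).toCotangent x := by
  rw [coeffDer_apply]
  congr 1
  apply Subtype.ext
  have : residue A x.1 = 0 := (residue_eq_zero_iff _).mpr x.2
  simp [this]

/-- if `A` has a coefficient field then `𝔪/𝔪² → κ ⊗ Ω[A⁄ℤ]` is injective. -/
theorem cotToTensor_int_injective_of_coeff (σ : ResidueField A →+* A)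
    (hσ : ∀ c, residue A (σ c) = c) : Function.Injective (cotToTensor ℤ A) := by
  let r : (ResidueField A) ⊗[A] Ω[A⁄ℤ] →ₗ[ResidueField A] CotangentSpace A :=
    LinearMap.liftBaseChange (ResidueField A) (coeffDer A σ hσ).liftKaehlerDifferential
  have hr : Function.LeftInverse r (cotToTensor ℤ A) := by
    intro y
    obtain ⟨x, rfl⟩ := Ideal.toCotangent_surjective _ y
    rw [cotToTensor_toCotangent, LinearMap.liftBaseChange_tmul, one_smul,
      Derivation.liftKaehlerDifferential_comp_D, coeffDer_of_mem]
  exact hr.injective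

/-- a complete local ring containing a field has `𝔪/𝔪² → κ ⊗ Ω[A⁄ℤ]` injective. -/
theorem cotToTensor_int_injective (k : Type u) [Field k] [Algebra k A]
    [IsAdicComplete (maximalIdeal A) A] : Function.Injective (cotToTensor ℤ A) := by
  have hchar : ∀ p : ℕ, p.Prime → CharP (ResidueField A) p → ((p : ℕ) : A) = 0 := by
    intro p hp hcp
    let f : k →+* ResidueField A := (residue A).comp (algebraMap k A)
    have hck : CharP k p := (RingHom.charP_iff f f.injective p).mpr hcp
    have h0 : ((p : ℕ) : k) = 0 := CharP.cast_eq_zero k p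
    rw [← map_natCast (algebraMap k A), h0, map_zero]
  obtain ⟨σ, hσ⟩ := Groth.Agent.Lib.Helper88.TwistPS.exists_lift_field (k := ResidueField A)
    (maximalIdeal A) hchar (RingHom.id (ResidueField A))
  refine cotToTensor_int_injective_of_coeff A σ ?_
  intro c
  exact RingHom.congr_fun hσ c

end Coeff

section Count

variable (k A : Type u) [Field k] [CommRing A] [IsLocalRing A] [Algebra k A]

/-- `κ ⊗ Ω[A⁄ℤ] → κ ⊗ Ω[A⁄k]`, `κ`-linear. -/
noncomputable def qMap :
    (ResidueField A) ⊗[A] Ω[A⁄ℤ] →ₗ[ResidueField A] (ResidueField A) ⊗[A] Ω[A⁄k] :=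
  (KaehlerDifferential.map ℤ k A A).baseChange (ResidueField A)

theorem qMap_apply (v : (ResidueField A) ⊗[A] Ω[A⁄ℤ]) :
    qMap k A v = (KaehlerDifferential.map ℤ k A A).lTensor (ResidueField A) v := by
  unfold qMap
  rw [LinearMap.baseChange_eq_ltensor]

theorem qMap_cotToTensor (y : CotangentSpace A) :
    qMap k A (cotToTensor ℤ A y) = cotToTensor k A y := by
  obtain ⟨x, rfl⟩ := Ideal.toCotangent_surjective _ y
  rw [cotToTensor_toCotangent, cotToTensor_toCotangent]
  unfold qMap
  rw [LinearMap.baseChange_tmul, KaehlerDifferential.map_D]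
  rfl

theorem mem_ker_cotToTensor_iff (y : CotangentSpace A) :
    cotToTensor k A y = 0 ↔ ∃ z, Phi k A (ResidueField A) z = cotToTensor ℤ A y := by
  rw [← qMap_cotToTensor, qMap_apply]
  constructor
  · intro h
    exact exists_Phi_eq_of_lTensor_map_eq_zero k A (ResidueField A) _ h
  · rintro ⟨z, hz⟩
    rw [← hz]
    exact lTensor_map_Phi k A (ResidueField A) z

theorem mapBaseChange_Phi' (z : (ResidueField A) ⊗[k] Ω[k⁄ℤ]) :
    KaehlerDifferential.mapBaseChange ℤ A (ResidueField A) (Phi k A (ResidueField A) z) =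
      KaehlerDifferential.mapBaseChange ℤ k (ResidueField A) z :=
  mapBaseChange_Phi k A (ResidueField A) z

theorem map_ker_cotToTensor :
    (LinearMap.ker (cotToTensor k A)).map (cotToTensor ℤ A) =
      (EGA41.imperfection ℤ k (ResidueField A)).map (Phi k A (ResidueField A)) := by
  apply le_antisymm
  · rintro _ ⟨y, hy, rfl⟩
    obtain ⟨z, hz⟩ := (mem_ker_cotToTensor_iff k A y).mp hy
    refine ⟨z, ?_, hz⟩
    change KaehlerDifferential.mapBaseChange ℤ k (ResidueField A) z = 0
    rw [← mapBaseChange_Phi' k A z, hz]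
    exact (mem_range_cotToTensor_iff ℤ A _).mp ⟨y, rfl⟩
  · rintro _ ⟨z, hz, rfl⟩
    have h1 : KaehlerDifferential.mapBaseChange ℤ A (ResidueField A)
        (Phi k A (ResidueField A) z) = 0 := by
      rw [mapBaseChange_Phi']
      exact hz
    obtain ⟨y, hy⟩ := (mem_range_cotToTensor_iff ℤ A _).mpr h1
    refine ⟨y, ?_, hy⟩
    exact (mem_ker_cotToTensor_iff k A y).mpr ⟨z, hy.symm⟩

theorem finrank_fibre (hΦ : Function.Injective (Phi k A (ResidueField A)))
    (hc : Function.Injective (cotToTensor ℤ A))
    [Module.Finite (ResidueField A) (CotangentSpace A)]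
    [Module.Finite (ResidueField A) ((ResidueField A) ⊗[A] Ω[A⁄k])] :
    Module.finrank (ResidueField A) ((ResidueField A) ⊗[A] Ω[A⁄k]) +
        Module.finrank (ResidueField A) (EGA41.imperfection ℤ k (ResidueField A)) =
      Module.finrank (ResidueField A) (CotangentSpace A) +
        Module.finrank (ResidueField A) (Ω[ResidueField A⁄k]) := by
  have h1 : Module.finrank (ResidueField A) (LinearMap.ker (cotToTensor k A)) =
      Module.finrank (ResidueField A) (EGA41.imperfection ℤ k (ResidueField A)) := by
    rw [(Submodule.equivMapOfInjective (cotToTensor ℤ A) hc _).finrank_eq,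
      map_ker_cotToTensor,
      ← (Submodule.equivMapOfInjective (Phi k A (ResidueField A)) hΦ _).finrank_eq]
  have h2 := LinearMap.finrank_range_add_finrank_ker (cotToTensor k A)
  have h3 := LinearMap.finrank_range_add_finrank_ker
    (KaehlerDifferential.mapBaseChange k A (ResidueField A))
  have h4 : LinearMap.range (KaehlerDifferential.mapBaseChange k A (ResidueField A)) = ⊤ :=
    LinearMap.range_eq_top.mpr
      (KaehlerDifferential.mapBaseChange_surjective k A (ResidueField A) residue_surjective)
  have h5 : LinearMap.ker (KaehlerDifferential.mapBaseChange k A (ResidueField A)) =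
      LinearMap.range (cotToTensor k A) := by
    ext v
    rw [LinearMap.mem_ker, mem_range_cotToTensor_iff]
  rw [h4, finrank_top, h5] at h3
  omega

end Count

end Groth.Agent.Lib.Helper88.FibreKaehlerRank
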