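import Mathlib
import Groth.Agent.Lib.Helper48.Tate
import Groth.Agent.Lib.Helper3.CompleteFinite
import Groth.Agent.Lib.Helper58.MvPSComplete
import Groth.Agent.Lib.Helper90.PSUniv

/-!
# Adically complete algebras with finite residue algebra are finite over a power series ring (helper88)

`Λ` complete Noetherian local, `E` a `Λ`-algebra complete for `J = (x₁, …, xₙ) + 𝔪_Λ E` with `E/J`
finite over `Λ`.  Then `E` is a finite `Λ[[X₁, …, Xₙ]]`-algebra; hence Noetherian, semi-local, and
its localisations at maximal ideals are complete.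
-/

set_option autoImplicit false
set_option linter.unusedSectionVars false

universe u

namespace Groth.Agent.Lib.Helper88.ComplSemilocal

open IsLocalRing MvPowerSeries

theorem semilocal_complete_of_finite_quotient (Λ E : Type u) [CommRing Λ] [IsLocalRing Λ]
    [IsNoetherianRing Λ] [IsAdicComplete (maximalIdeal Λ) Λ] [CommRing E] [Algebra Λ E]
    (J : Ideal E) [IsAdicComplete J E] {n : ℕ} (x : Fin n → E)
    (hJ : J = Ideal.span (Set.range x) ⊔ (maximalIdeal Λ).map (algebraMap Λ E))
    {m : ℕ} (c : Fin m → E) (hc : ∀ y : E, ∃ ν : Fin m → Λ, y - ∑ j, ν j • c j ∈ J) :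
    IsNoetherianRing E ∧ Finite (MaximalSpectrum E) ∧
      ∀ M : MaximalSpectrum E, IsAdicComplete (maximalIdeal (Localization.AtPrime M.asIdeal))
        (Localization.AtPrime M.asIdeal) := by
  classical
  have hx : ∀ i, x i ∈ J := by
    intro i
    rw [hJ]
    exact Ideal.mem_sup_left (Ideal.subset_span ⟨i, rfl⟩)
  obtain ⟨φ, hφ1, hφ2⟩ := Groth.Agent.Lib.Helper90.PSUniv.exists_eval (B := Λ) J x hx
  have hφX : ∀ i, φ (X i) = x i := by
    intro i
    have := hφ1 (MvPolynomial.X i)
    rwa [MvPolynomial.coe_X, MvPolynomial.aeval_X] at this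
  have hφC : ∀ b : Λ, φ (MvPowerSeries.C b) = algebraMap Λ E b := by
    intro b
    have : (MvPowerSeries.C b : MvPowerSeries (Fin n) Λ) = algebraMap Λ (MvPowerSeries (Fin n) Λ) b := rfl
    rw [this, AlgHom.commutes]
  let _ : Algebra (MvPowerSeries (Fin n) Λ) E := φ.toRingHom.toAlgebra
  have halg : ∀ f : MvPowerSeries (Fin n) Λ, algebraMap (MvPowerSeries (Fin n) Λ) E f = φ f :=
    fun f => rfl
  have hsmul : ∀ (f : MvPowerSeries (Fin n) Λ) (y : E), f • y = φ f * y := fun f y => rfl
  have hcompl : IsAdicComplete (maximalIdeal (MvPowerSeries (Fin n) Λ))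
      (MvPowerSeries (Fin n) Λ) := Groth.Agent.Lib.Helper58.MvPSComplete.isAdicComplete
  -- the maximal ideal of the power series ring generates `J`
  have hmapJ : (maximalIdeal (MvPowerSeries (Fin n) Λ)).map
      (algebraMap (MvPowerSeries (Fin n) Λ) E) = J := by
    apply le_antisymm
    · rw [Ideal.map_le_iff_le_comap]
      intro f hf
      rw [Ideal.mem_comap, halg]
      rw [Groth.Agent.Lib.Helper58.MvPSComplete.mem_maximalIdeal_iff] at hf
      have h1 : φ (f - MvPowerSeries.C (constantCoeff f)) ∈ J ^ 1 := by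
        apply hφ2 1
        intro d hd
        have hd0 : d = 0 := by
          rw [Nat.lt_one_iff] at hd
          exact (Finsupp.degree_eq_zero_iff d).mp hd
        subst hd0
        simp
      rw [pow_one, map_sub, hφC] at h1
      have h2 : algebraMap Λ E (constantCoeff f) ∈ J := by
        rw [hJ]
        exact Ideal.mem_sup_right (Ideal.mem_map_of_mem _ hf)
      have := J.add_mem h1 h2
      rwa [sub_add_cancel] at this
    · rw [hJ]
      refine sup_le ?_ ?_
      · rw [Ideal.span_le]
        rintro _ ⟨i, rfl⟩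
        rw [← hφX i, ← halg]
        apply Ideal.mem_map_of_mem
        rw [Groth.Agent.Lib.Helper58.MvPSComplete.mem_maximalIdeal_iff]
        simp
      · rw [Ideal.map_le_iff_le_comap]
        intro b hb
        rw [Ideal.mem_comap, ← hφC, ← halg]
        apply Ideal.mem_map_of_mem
        rw [Groth.Agent.Lib.Helper58.MvPSComplete.mem_maximalIdeal_iff]
        simpa using hb
  have hsmultop : ∀ (N : ℕ) (y : E),
      y ∈ (maximalIdeal (MvPowerSeries (Fin n) Λ) ^ N • ⊤ :
        Submodule (MvPowerSeries (Fin n) Λ) E) ↔ y ∈ J ^ N := by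
    intro N y
    rw [Ideal.smul_top_eq_map, Submodule.restrictScalars_mem, Ideal.map_pow, hmapJ]
  have hhaus : IsHausdorff (maximalIdeal (MvPowerSeries (Fin n) Λ)) E := by
    refine ⟨fun y hy => ?_⟩
    apply IsHausdorff.haus (inferInstance : IsHausdorff J E)
    intro N
    have := hy N
    rw [SModEq.zero] at this ⊢
    rw [smul_eq_mul, Ideal.mul_top]
    exact (hsmultop N y).mp this
  have hfin : Module.Finite (MvPowerSeries (Fin n) Λ) E := by
    apply Groth.Agent.Lib.Helper48.finite_of_isPrecomplete_of_isHausdorff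
      (maximalIdeal (MvPowerSeries (Fin n) Λ))
      (Submodule.span (MvPowerSeries (Fin n) Λ) (Set.range c))
      (Submodule.fg_span (Set.finite_range c))
    intro y
    obtain ⟨ν, hν⟩ := hc y
    refine ⟨∑ j, (MvPowerSeries.C (ν j) : MvPowerSeries (Fin n) Λ) • c j, ?_, ?_⟩
    · exact Submodule.sum_mem _ fun j _ =>
        Submodule.smul_mem _ _ (Submodule.subset_span ⟨j, rfl⟩)
    · have h1 : ∑ j, (MvPowerSeries.C (ν j) : MvPowerSeries (Fin n) Λ) • c j = ∑ j, ν j • c j := by
        apply Finset.sum_congr rfl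
        intro j _
        rw [hsmul, hφC, Algebra.smul_def]
      rw [h1]
      have := (hsmultop 1 _).mpr (by rw [pow_one]; exact hν)
      rwa [pow_one] at this
  obtain ⟨h1, -, h3⟩ := Groth.Agent.Lib.Helper3.finite_algebra_over_complete_local
    (MvPowerSeries (Fin n) Λ) E
  exact ⟨IsNoetherianRing.of_finite (MvPowerSeries (Fin n) Λ) E, h1, fun M => (h3 M).2⟩

end Groth.Agent.Lib.Helper88.ComplSemilocal
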