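import Mathlib
import Groth.Agent.Lib.Helper88.ComplSemilocal
import Groth.Agent.Lib.Helper88.ComplFlat
import Groth.Agent.Lib.Helper18.AdicQuot
import Groth.Agent.S4990

/-!
# The completed tensor product `A ⊗̂_k k'` (helper88)

`A` complete Noetherian local `k`-algebra with residue field finite over `k`, `k'/k` a field
extension, `C` the `𝔪_A`-adic completion of `A ⊗_k k'`.
-/

set_option autoImplicit false
set_option linter.unusedSectionVars false

universe u

namespace Groth.Agent.Lib.Helper88.ComplTensorField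

open IsLocalRing TensorProduct

variable (k A k' : Type u) [Field k] [CommRing A] [IsNoetherianRing A] [IsLocalRing A]
  [Algebra k A] [Field k'] [Algebra k k']

/-- every element of `A ⊗ k'` is congruent modulo `𝔪_A (A ⊗ k')` to a combination
`∑ a_j ⊗ ν_j` for a fixed finite family `a_j` lifting generators of the residue field. -/
theorem exists_family [Module.Finite k (ResidueField A)] :
    ∃ (m : ℕ) (a : Fin m → A), ∀ r : A ⊗[k] k', ∃ ν : Fin m → k',
      r - ∑ j, a j ⊗ₜ[k] ν j ∈ (maximalIdeal A).map (algebraMap A (A ⊗[k] k')) := by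
  classical
  obtain ⟨m, b, hb⟩ := Module.Finite.exists_fin (R := k) (M := ResidueField A)
  choose a ha using fun j => residue_surjective (b j)
  refine ⟨m, a, ?_⟩
  have hmem : ∀ (a'' : A) (l : k'), a'' ∈ maximalIdeal A →
      a'' ⊗ₜ[k] l ∈ (maximalIdeal A).map (algebraMap A (A ⊗[k] k')) := by
    intro a'' l ha''
    have h1 : a'' ⊗ₜ[k] l = algebraMap A (A ⊗[k] k') a'' * ((1 : A) ⊗ₜ[k] l) := by
      rw [Algebra.TensorProduct.algebraMap_apply, Algebra.TensorProduct.tmul_mul_tmul, one_mul,
        Algebra.algebraMap_self, RingHom.id_apply, mul_one]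
    rw [h1]
    exact Ideal.mul_mem_right _ _ (Ideal.mem_map_of_mem _ ha'')
  intro r
  induction r using TensorProduct.induction_on with
  | zero =>
    refine ⟨fun _ => 0, ?_⟩
    simp
  | tmul a₀ l =>
    have h1 : residue A a₀ ∈ Submodule.span k (Set.range b) := by rw [hb]; trivial
    obtain ⟨μ, hμ⟩ := (Submodule.mem_span_range_iff_exists_fun k).mp h1
    refine ⟨fun j => μ j • l, ?_⟩
    have h2 : ∑ j, a j ⊗ₜ[k] (μ j • l) = (∑ j, μ j • a j) ⊗ₜ[k] l := by
      rw [TensorProduct.sum_tmul]
      apply Finset.sum_congr rfl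
      intro j _
      rw [TensorProduct.smul_tmul]
    rw [h2, ← TensorProduct.sub_tmul]
    apply hmem
    rw [← residue_eq_zero_iff, map_sub, map_sum, sub_eq_zero, ← hμ]
    apply Finset.sum_congr rfl
    intro j _
    rw [Algebra.smul_def (μ j) (a j), map_mul, ha, Algebra.smul_def]
    rfl
  | add r₁ r₂ h₁ h₂ =>
    obtain ⟨ν₁, hν₁⟩ := h₁
    obtain ⟨ν₂, hν₂⟩ := h₂
    refine ⟨fun j => ν₁ j + ν₂ j, ?_⟩
    have : r₁ + r₂ - ∑ j, a j ⊗ₜ[k] (ν₁ j + ν₂ j) =
        (r₁ - ∑ j, a j ⊗ₜ[k] ν₁ j) + (r₂ - ∑ j, a j ⊗ₜ[k] ν₂ j) := by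
      simp only [TensorProduct.tmul_add, Finset.sum_add_distrib]
      ring
    rw [this]
    exact Ideal.add_mem _ hν₁ hν₂


local notation "R'" => A ⊗[k] k'
local notation "I₀" => Ideal.map (algebraMap A (A ⊗[k] k')) (maximalIdeal A)
local notation "C'" =>
  AdicCompletion (Ideal.map (algebraMap A (A ⊗[k] k')) (maximalIdeal A)) (A ⊗[k] k')

theorem main [IsAdicComplete (maximalIdeal A) A] [Module.Finite k (ResidueField A)] :
    IsNoetherianRing C' ∧ Finite (MaximalSpectrum C') ∧
      IsAdicComplete ((maximalIdeal A).map (algebraMap A C')) C' ∧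
      ∀ M : MaximalSpectrum C',
        IsAdicComplete (maximalIdeal (Localization.AtPrime M.asIdeal))
            (Localization.AtPrime M.asIdeal) ∧
          Module.FaithfullyFlat A (Localization.AtPrime M.asIdeal) ∧
          ringKrullDim (Localization.AtPrime M.asIdeal) = ringKrullDim A ∧
          (((Ideal.Quotient.mk M.asIdeal).comp (algebraMap R' C')).comp
              Algebra.TensorProduct.includeRight.toRingHom).Finite := by
  classical
  have hIfg : (I₀).FG := Ideal.FG.map (IsNoetherian.noetherian _) _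
  have htower : IsScalarTower A R' C' := IsScalarTower.of_algebraMap_eq (fun r => rfl)
  have hJ : (I₀).map (algebraMap R' C') = (maximalIdeal A).map (algebraMap A C') := by
    rw [Ideal.map_map, ← IsScalarTower.algebraMap_eq]
  have hcompl : IsAdicComplete ((maximalIdeal A).map (algebraMap A C')) C' := by
    rw [← hJ]
    exact AdicCompletion.isAdicComplete_self _ hIfg
  have hker : ∀ n : ℕ, RingHom.ker (AdicCompletion.evalₐ (I₀) n).toRingHom =
      ((maximalIdeal A).map (algebraMap A C')) ^ n := by
    intro n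
    rw [← hJ]
    exact Groth.Agent.Lib.Helper18.ker_evalₐ_eq_map_pow _ hIfg n
  have hev : ∀ (n : ℕ) (b : R'), AdicCompletion.evalₐ (I₀) n (algebraMap R' C' b) =
      Ideal.Quotient.mk ((I₀) ^ n) b := fun n b => (AdicCompletion.evalₐ (I₀) n).commutes b
  have hF3b : ∀ c : C', ∃ b : R',
      c - algebraMap R' C' b ∈ (maximalIdeal A).map (algebraMap A C') := by
    intro c
    obtain ⟨b, hb⟩ := Ideal.Quotient.mk_surjective (AdicCompletion.evalₐ (I₀) 1 c)
    refine ⟨b, ?_⟩
    have : c - algebraMap R' C' b ∈ ((maximalIdeal A).map (algebraMap A C')) ^ 1 := by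
      rw [← hker 1, RingHom.mem_ker]
      change AdicCompletion.evalₐ (I₀) 1 (c - algebraMap R' C' b) = 0
      rw [map_sub, hev, hb, sub_self]
    rwa [pow_one] at this
  -- the `k'`-algebra structure on `C'`
  let ι : R' →+* C' := algebraMap R' C'
  let incl : k' →+* C' := ι.comp Algebra.TensorProduct.includeRight.toRingHom
  let _ : Algebra k' C' := incl.toAlgebra
  have hsmul : ∀ (l : k') (y : C'), l • y = ι ((1 : A) ⊗ₜ[k] l) * y := fun l y => rfl
  have hιA : ∀ a : A, algebraMap A C' a = ι (a ⊗ₜ[k] (1 : k')) := fun a => rfl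
  -- generators of the maximal ideal
  obtain ⟨n, g, hg⟩ := Submodule.fg_iff_exists_fin_generating_family.mp
    (IsNoetherian.noetherian (maximalIdeal A))
  have hcomplk : IsAdicComplete (maximalIdeal k') k' := by
    rw [IsLocalRing.maximalIdeal_eq_bot]
    infer_instance
  have hJ' : (maximalIdeal A).map (algebraMap A C') =
      Ideal.span (Set.range fun i => algebraMap A C' (g i)) ⊔
        (maximalIdeal k').map (algebraMap k' C') := by
    rw [IsLocalRing.maximalIdeal_eq_bot, Ideal.map_bot, sup_bot_eq]
    have h := Ideal.map_span (algebraMap A C') (Set.range g)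
    rw [show Ideal.span (Set.range g) = maximalIdeal A from hg, ← Set.range_comp] at h
    exact h
  obtain ⟨m, a, ha⟩ := exists_family k A k'
  have hc : ∀ y : C', ∃ ν : Fin m → k',
      y - ∑ j, ν j • algebraMap A C' (a j) ∈ (maximalIdeal A).map (algebraMap A C') := by
    intro y
    obtain ⟨r, hr⟩ := hF3b y
    obtain ⟨ν, hν⟩ := ha r
    refine ⟨ν, ?_⟩
    have h1 : ∑ j, ν j • algebraMap A C' (a j) = ι (∑ j, a j ⊗ₜ[k] ν j) := by
      rw [map_sum]
      apply Finset.sum_congr rfl
      intro j _
      rw [hsmul, hιA, ← map_mul, Algebra.TensorProduct.tmul_mul_tmul, one_mul, mul_one]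
    have h2 : ι (r - ∑ j, a j ⊗ₜ[k] ν j) ∈ (maximalIdeal A).map (algebraMap A C') := by
      rw [← hJ]
      exact Ideal.mem_map_of_mem _ hν
    have h3 : y - ∑ j, ν j • algebraMap A C' (a j) =
        (y - ι r) + ι (r - ∑ j, a j ⊗ₜ[k] ν j) := by
      rw [h1, map_sub]
      ring
    rw [h3]
    exact Ideal.add_mem _ hr h2
  obtain ⟨hNoeth, hfinMax, hlocCompl⟩ :=
    Groth.Agent.Lib.Helper88.ComplSemilocal.semilocal_complete_of_finite_quotient k' C'
      ((maximalIdeal A).map (algebraMap A C')) (fun i => algebraMap A C' (g i)) hJ'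
      (fun j => algebraMap A C' (a j)) hc
  refine ⟨hNoeth, hfinMax, hcompl, ?_⟩
  intro M
  have hMmax : M.asIdeal.IsMaximal := M.isMaximal
  have hJM : (maximalIdeal A).map (algebraMap A C') ≤ M.asIdeal := by
    refine (IsAdicComplete.le_jacobson_bot _).trans ?_
    exact sInf_le ⟨bot_le, hMmax⟩
  have hflatR : Module.Flat A R' := inferInstance
  have hflatC : Module.Flat A C' :=
    Groth.Agent.Lib.Helper88.ComplFlat.flat_adicCompletion_of_flat A R' (maximalIdeal A)
  have hflatM : Module.Flat A (Localization.AtPrime M.asIdeal) :=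
    Module.Flat.trans A C' (Localization.AtPrime M.asIdeal)
  have hlocal : IsLocalHom (algebraMap A (Localization.AtPrime M.asIdeal)) := by
    constructor
    intro a₀ ha₀
    by_contra hna
    have h1 : a₀ ∈ maximalIdeal A := (mem_maximalIdeal a₀).mpr hna
    have h2 : algebraMap A C' a₀ ∈ M.asIdeal := hJM (Ideal.mem_map_of_mem _ h1)
    have h3 : algebraMap C' (Localization.AtPrime M.asIdeal) (algebraMap A C' a₀) ∈
        maximalIdeal (Localization.AtPrime M.asIdeal) :=
      (IsLocalization.AtPrime.to_map_mem_maximal_iff _ M.asIdeal _).mpr h2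
    rw [← IsScalarTower.algebraMap_apply] at h3
    exact (mem_maximalIdeal _).mp h3 ha₀
  have hNoethM : IsNoetherianRing (Localization.AtPrime M.asIdeal) :=
    IsLocalization.isNoetherianRing M.asIdeal.primeCompl _ hNoeth
  -- the fibre
  have hfinQ : Module.Finite k' (C' ⧸ (maximalIdeal A).map (algebraMap A C')) := by
    refine ⟨⟨Finset.univ.image fun j => Ideal.Quotient.mk _ (algebraMap A C' (a j)), ?_⟩⟩
    rw [eq_top_iff]
    rintro y -
    obtain ⟨y, rfl⟩ := Ideal.Quotient.mk_surjective y
    obtain ⟨ν, hν⟩ := hc y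
    have h1 : Ideal.Quotient.mk ((maximalIdeal A).map (algebraMap A C')) y =
        ∑ j, ν j • Ideal.Quotient.mk ((maximalIdeal A).map (algebraMap A C'))
          (algebraMap A C' (a j)) := by
      rw [← sub_eq_zero]
      have := Ideal.Quotient.eq_zero_iff_mem.mpr hν
      rw [map_sub, map_sum] at this
      rw [← this]
      rfl
    rw [h1]
    refine Submodule.sum_mem _ fun j _ => Submodule.smul_mem _ _ (Submodule.subset_span ?_)
    simp
  refine ⟨hlocCompl M, Module.FaithfullyFlat.of_flat_of_isLocalHom, ?_, ?_⟩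
  · have hdim := Groth.Agent.S4990.ringKrullDim_eq_add_of_flat
      (algebraMap A (Localization.AtPrime M.asIdeal)) (RingHom.flat_algebraMap_iff.mpr hflatM)
    have hmapeq : (maximalIdeal A).map (algebraMap A (Localization.AtPrime M.asIdeal)) =
        ((maximalIdeal A).map (algebraMap A C')).map
          (algebraMap C' (Localization.AtPrime M.asIdeal)) := by
      rw [Ideal.map_map, ← IsScalarTower.algebraMap_eq]
    have hArtQ : IsArtinianRing (C' ⧸ (maximalIdeal A).map (algebraMap A C')) :=
      IsArtinianRing.of_finite k' _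
    have hArtL : IsArtinianRing (Localization.AtPrime M.asIdeal ⧸
        ((maximalIdeal A).map (algebraMap A C')).map
          (algebraMap C' (Localization.AtPrime M.asIdeal))) :=
      IsArtinianRing.localization_artinian
        (Algebra.algebraMapSubmonoid (C' ⧸ (maximalIdeal A).map (algebraMap A C'))
          M.asIdeal.primeCompl) _
    have hne : ((maximalIdeal A).map (algebraMap A C')).map
          (algebraMap C' (Localization.AtPrime M.asIdeal)) ≠ ⊤ := by
      rw [← hmapeq]
      exact ((map_maximalIdeal_le (algebraMap A (Localization.AtPrime M.asIdeal))).trans_lt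
        (maximalIdeal.isMaximal _).lt_top).ne
    have hnt : Nontrivial (Localization.AtPrime M.asIdeal ⧸
        ((maximalIdeal A).map (algebraMap A C')).map
          (algebraMap C' (Localization.AtPrime M.asIdeal))) :=
      Ideal.Quotient.nontrivial_iff.mpr hne
    have hzero : ringKrullDim (Localization.AtPrime M.asIdeal ⧸
        ((maximalIdeal A).map (algebraMap A C')).map
          (algebraMap C' (Localization.AtPrime M.asIdeal))) = 0 :=
      ringKrullDimZero_iff_ringKrullDim_eq_zero.mp inferInstance
    rw [hdim, hmapeq, hzero, add_zero]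
  · have hQfin : (algebraMap k' (C' ⧸ (maximalIdeal A).map (algebraMap A C'))).Finite :=
      RingHom.finite_algebraMap.mpr hfinQ
    have hfac : (Ideal.Quotient.factor hJM).Finite :=
      RingHom.Finite.of_surjective _ (Ideal.Quotient.factor_surjective hJM)
    have hcomp := RingHom.Finite.comp hfac hQfin
    have heq : ((Ideal.Quotient.mk M.asIdeal).comp (algebraMap R' C')).comp
        Algebra.TensorProduct.includeRight.toRingHom =
        (Ideal.Quotient.factor hJM).comp
          (algebraMap k' (C' ⧸ (maximalIdeal A).map (algebraMap A C'))) := by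
      ext l
      rfl
    rw [heq]
    exact hcomp

end Groth.Agent.Lib.Helper88.ComplTensorField
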