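import Mathlib.LinearAlgebra.Matrix.Determinant.Basic
import Mathlib.Data.Finset.Sort
import Mathlib.Tactic

set_option autoImplicit false

namespace Groth.Agent.Lib.Helper88

open Matrix Finset Equiv

universe u

/-- First expansion: `det (A * B) = ∑_f det (A restricted to columns f) * ∏ B (f i) i`. -/
theorem det_mul_expand {R : Type u} [CommRing R] {e r : ℕ}
    (A : Matrix (Fin e) (Fin r) R) (B : Matrix (Fin r) (Fin e) R) :
    (A * B).det = ∑ f : Fin e → Fin r, (A.submatrix id f).det * ∏ i, B (f i) i := by
  simp only [det_apply', mul_apply, prod_univ_sum, mul_sum, Fintype.piFinset_univ, sum_mul,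
    submatrix_apply, id_eq]
  rw [Finset.sum_comm]
  apply Finset.sum_congr rfl
  intro f _
  apply Finset.sum_congr rfl
  intro σ _
  rw [Finset.prod_mul_distrib]
  ring

theorem det_submatrix_not_injective {R : Type u} [CommRing R] {e r : ℕ}
    (A : Matrix (Fin e) (Fin r) R) (f : Fin e → Fin r) (hf : ¬ Function.Injective f) :
    (A.submatrix id f).det = 0 := by
  rw [Function.Injective] at hf
  push Not at hf
  obtain ⟨i, j, hij, hne⟩ := hf
  apply det_zero_of_column_eq hne
  intro k
  simp [hij]

/-- The parametrisation of injective maps `Fin e → Fin r` by (image, permutation). -/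
noncomputable def injParam (e r : ℕ) :
    ({s : Finset (Fin r) // s.card = e} × Perm (Fin e)) → {f : Fin e → Fin r // Function.Injective f} :=
  fun p => ⟨fun i => p.1.1.orderEmbOfFin p.1.2 (p.2 i),
    (p.1.1.orderEmbOfFin p.1.2).injective.comp p.2.injective⟩

theorem injParam_bijective (e r : ℕ) : Function.Bijective (injParam e r) := by
  constructor
  · rintro ⟨⟨S, hS⟩, τ⟩ ⟨⟨S', hS'⟩, τ'⟩ h
    have hfun : (fun i => S.orderEmbOfFin hS (τ i)) = fun i => S'.orderEmbOfFin hS' (τ' i) :=
      congrArg Subtype.val h
    have hSS : S = S' := by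
      apply Finset.coe_injective
      rw [← range_orderEmbOfFin S hS, ← range_orderEmbOfFin S' hS']
      have h1 : Set.range (fun i => S.orderEmbOfFin hS (τ i)) = Set.range (S.orderEmbOfFin hS) :=
        τ.surjective.range_comp _
      have h2 : Set.range (fun i => S'.orderEmbOfFin hS' (τ' i)) =
          Set.range (S'.orderEmbOfFin hS') := τ'.surjective.range_comp _
      rw [← h1, ← h2, hfun]
    subst hSS
    have hτ : τ = τ' := by
      ext i
      have := congrFun hfun i
      exact congrArg Fin.val ((S.orderEmbOfFin hS).injective this)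
    subst hτ
    rfl
  · rintro ⟨f, hf⟩
    classical
    set S : Finset (Fin r) := Finset.univ.image f with hSdef
    have hS : S.card = e := by
      rw [hSdef, Finset.card_image_of_injective _ hf, Finset.card_univ, Fintype.card_fin]
    have hmem : ∀ i, f i ∈ S := fun i => Finset.mem_image_of_mem f (Finset.mem_univ i)
    set t : Fin e → Fin e := fun i => (S.orderIsoOfFin hS).symm ⟨f i, hmem i⟩ with ht
    have htspec : ∀ i, S.orderEmbOfFin hS (t i) = f i := by
      intro i
      rw [← coe_orderIsoOfFin_apply, ht]
      simp
    have htinj : Function.Injective t := by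
      intro i j hij
      apply hf
      rw [← htspec i, ← htspec j, hij]
    have htbij : Function.Bijective t := Finite.injective_iff_bijective.mp htinj
    refine ⟨⟨⟨S, hS⟩, Equiv.ofBijective t htbij⟩, ?_⟩
    apply Subtype.ext
    funext i
    exact htspec i

/-- **Cauchy–Binet** for the product of an `e × r` and an `r × e` matrix. -/
theorem cauchy_binet {R : Type u} [CommRing R] {e r : ℕ}
    (A : Matrix (Fin e) (Fin r) R) (B : Matrix (Fin r) (Fin e) R) :
    (A * B).det = ∑ S : {s : Finset (Fin r) // s.card = e},
      (A.submatrix id (S.1.orderEmbOfFin S.2)).det * (B.submatrix (S.1.orderEmbOfFin S.2) id).det := by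
  classical
  rw [det_mul_expand]
  set F : (Fin e → Fin r) → R := fun f => (A.submatrix id f).det * ∏ i, B (f i) i with hF
  have h1 : ∑ f : Fin e → Fin r, F f = ∑ f : {f : Fin e → Fin r // Function.Injective f}, F f.1 := by
    rw [← Finset.sum_subtype (Finset.univ.filter Function.Injective) (by simp) F]
    symm
    apply Finset.sum_subset (Finset.filter_subset _ _)
    intro f _ hf
    have : ¬ Function.Injective f := by simpa using hf
    rw [hF]
    simp only
    rw [det_submatrix_not_injective A f this, zero_mul]
  rw [h1, ← Function.Bijective.sum_comp (injParam_bijective e r) (fun f => F f.1),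
    Fintype.sum_prod_type]
  apply Finset.sum_congr rfl
  intro S _
  rw [det_apply' (B.submatrix (S.1.orderEmbOfFin S.2) id), Finset.mul_sum]
  apply Finset.sum_congr rfl
  intro τ _
  simp only [hF, injParam]
  have hsub : A.submatrix id (fun i => S.1.orderEmbOfFin S.2 (τ i)) =
      (A.submatrix id (S.1.orderEmbOfFin S.2)).submatrix id τ := by
    ext i j; simp
  rw [hsub, det_permute']
  simp only [submatrix_apply, id_eq]
  ring

end Groth.Agent.Lib.Helper88
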