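import Mathlib

/-!
# Power series over a ring modulo a constant (helper88)

For `a : W`, the ideal `(C a)` of `MvPowerSeries σ W` consists of the series all of whose
coefficients are divisible by `a`.  Consequences: the kernel of the coefficientwise reduction,
`(C p)`-adic completeness from `(p)`-adic completeness of `W`, regularity of `C p`.
-/

set_option autoImplicit false
set_option linter.unusedSectionVars false

namespace Groth.Agent.Lib.Helper88.MvPSModP

open MvPowerSeries

variable {σ : Type*} {W : Type*} [CommRing W]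

theorem mem_span_C_iff (a : W) (f : MvPowerSeries σ W) :
    f ∈ Ideal.span {(C a : MvPowerSeries σ W)} ↔ ∀ m, coeff m f ∈ Ideal.span {a} := by
  constructor
  · intro hf m
    obtain ⟨g, rfl⟩ := Ideal.mem_span_singleton'.mp hf
    rw [coeff_mul_C]
    exact Ideal.mem_span_singleton'.mpr ⟨_, rfl⟩
  · intro hf
    choose g hg using fun m => Ideal.mem_span_singleton'.mp (hf m)
    refine Ideal.mem_span_singleton'.mpr ⟨(g : MvPowerSeries σ W), ?_⟩
    ext m
    rw [coeff_mul_C]
    exact hg m

theorem mem_span_C_pow_iff (a : W) (n : ℕ) (f : MvPowerSeries σ W) :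
    f ∈ Ideal.span {(C a : MvPowerSeries σ W)} ^ n ↔ ∀ m, coeff m f ∈ Ideal.span {a} ^ n := by
  rw [Ideal.span_singleton_pow, Ideal.span_singleton_pow, ← map_pow]
  exact mem_span_C_iff (a ^ n) f

theorem ker_map_eq {V : Type*} [CommRing V] (q : W →+* V) (p : W)
    (hker : RingHom.ker q = Ideal.span {p}) :
    RingHom.ker (map (σ := σ) q) = Ideal.span {(C p : MvPowerSeries σ W)} := by
  ext f
  rw [mem_span_C_iff, RingHom.mem_ker]
  constructor
  · intro hf m
    rw [← hker, RingHom.mem_ker, ← coeff_map, hf, map_zero]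
  · intro hf
    ext m
    rw [coeff_map, map_zero]
    have := hf m
    rw [← hker] at this
    exact this

theorem map_surjective {V : Type*} [CommRing V] (q : W →+* V) (hq : Function.Surjective q) :
    Function.Surjective (map (σ := σ) q) := by
  intro h
  choose g hg using fun m => hq (coeff m h)
  refine ⟨(g : MvPowerSeries σ W), ?_⟩
  ext m
  rw [coeff_map]
  exact hg m

theorem isAdicComplete_span_C (p : W) [IsAdicComplete (Ideal.span {p}) W] :
    IsAdicComplete (Ideal.span {(C p : MvPowerSeries σ W)}) (MvPowerSeries σ W) := by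
  have key : ∀ (n : ℕ) (x : MvPowerSeries σ W),
      x ∈ (Ideal.span {(C p : MvPowerSeries σ W)} ^ n • ⊤ :
          Submodule (MvPowerSeries σ W) (MvPowerSeries σ W)) ↔
        ∀ m, coeff m x ∈ (Ideal.span {p} ^ n • ⊤ : Submodule W W) := by
    intro n x
    rw [smul_eq_mul, Ideal.mul_top, mem_span_C_pow_iff]
    simp only [smul_eq_mul, Ideal.mul_top]
  refine { toIsHausdorff := ⟨fun x hx => ?_⟩, toIsPrecomplete := ⟨fun f hf => ?_⟩ }
  · ext m
    rw [map_zero]
    apply IsHausdorff.haus' (I := Ideal.span {p}) (coeff m x)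
    intro n
    rw [SModEq.zero]
    have := hx n
    rw [SModEq.zero, key] at this
    exact this m
  · have hc : ∀ m : σ →₀ ℕ, ∃ L : W, ∀ n, coeff m (f n) ≡ L
        [SMOD (Ideal.span {p} ^ n • ⊤ : Submodule W W)] := by
      intro m
      apply IsPrecomplete.prec' (I := Ideal.span {p}) (fun n => coeff m (f n))
      intro i j hij
      rw [SModEq.sub_mem, ← map_sub]
      exact (key i _).mp (SModEq.sub_mem.mp (hf hij)) m
    choose L hL using hc
    refine ⟨(L : MvPowerSeries σ W), fun n => ?_⟩
    rw [SModEq.sub_mem, key]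
    intro m
    rw [map_sub]
    exact SModEq.sub_mem.mp (hL m n)

theorem C_mul_eq_zero {p : W} (hp : ∀ w : W, p * w = 0 → w = 0) (g : MvPowerSeries σ W)
    (hg : (C p : MvPowerSeries σ W) * g = 0) : g = 0 := by
  ext m
  rw [map_zero]
  apply hp
  rw [← coeff_C_mul, hg, map_zero]

end Groth.Agent.Lib.Helper88.MvPSModP
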