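import Mathlib
import Groth.Agent.Lib.Helper81.CohenLift
import Groth.Agent.Lib.Helper81.CohenRing
import Groth.Agent.Lib.Helper88.MvPSModP
import Groth.Agent.S9443

/-!
# Coefficient data for lifting a complete regular local fibre (helper88)

For a complete Noetherian local ring `A₁` with residue field `k₁` and a complete regular local
`k₁`-algebra `B₀`, we produce a ring `Λ` (the residue field in residue characteristic zero, a
Cohen ring otherwise) with `φ : Λ → A₁` onto the residue field, and a flat `Λ`-algebra `D`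
(`B₀` itself, resp. a power series ring over a Cohen ring) with a surjection `D → B₀` whose kernel
is generated by the image of `φ⁻¹(𝔪)`.
-/

set_option autoImplicit false
set_option linter.unusedSectionVars false

universe u

namespace Groth.Agent.Lib.Helper88.CoeffData

open IsLocalRing

/-- The statement of the coefficient data. -/
def HasData (A₁ B₀ : Type u) [CommRing A₁] [IsLocalRing A₁] [CommRing B₀]
    [Algebra (ResidueField A₁) B₀] : Prop :=
  ∃ (Λ D : Type u) (_ : CommRing Λ) (_ : CommRing D) (φ : Λ →+* A₁) (ψ : Λ →+* D)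
    (πD : D →+* B₀),
    ψ.Flat ∧ Function.Surjective πD ∧ (∀ a : A₁, ∃ l : Λ, a - φ l ∈ maximalIdeal A₁) ∧
    (∀ l, πD (ψ l) = algebraMap (ResidueField A₁) B₀ (residue A₁ (φ l))) ∧
    RingHom.ker πD = ((maximalIdeal A₁).comap φ).map ψ

section CharZero

variable {A₁ B₀ : Type u} [CommRing A₁] [IsLocalRing A₁] [IsAdicComplete (maximalIdeal A₁) A₁]
  [CommRing B₀] [Nontrivial B₀] [Algebra (ResidueField A₁) B₀]

theorem hasData_of_charZero [CharZero (ResidueField A₁)] : HasData A₁ B₀ := by
  classical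
  let k := ResidueField A₁
  have hQk : Algebra.FormallySmooth ℚ k := by
    obtain ⟨s, hs⟩ := exists_isTranscendenceBasis ℚ k
    have : Algebra.IsAlgebraic (IntermediateField.adjoin ℚ (Set.range ((↑) : s → k))) k :=
      hs.isAlgebraic_field
    have : Algebra.IsSeparable (IntermediateField.adjoin ℚ (Set.range ((↑) : s → k))) k :=
      Algebra.IsAlgebraic.isSeparable_of_perfectField
    exact Algebra.FormallySmooth.of_algebraicIndependent_of_isSeparable hs.1
  have hZQ : Algebra.FormallySmooth ℤ ℚ :=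
    Algebra.FormallySmooth.of_isLocalization (nonZeroDivisors ℤ)
  have hZk : Algebra.FormallySmooth ℤ k := by
    refine @Algebra.FormallySmooth.comp ℤ _ ℚ _ _ k _ _ _ ?_ _ _
    exact IsScalarTower.of_algebraMap_eq' (RingHom.ext_int _ _)
  let g : k →ₐ[ℤ] A₁ ⧸ maximalIdeal A₁ := (RingHom.id k).toIntAlgHom
  obtain ⟨σ, hσ⟩ := Algebra.FormallySmooth.exists_mkₐ_comp_eq_of_isAdicComplete
    (I := maximalIdeal A₁) g
  have hσ' : ∀ x : k, residue A₁ (σ x) = x := fun x => DFunLike.congr_fun hσ x
  refine ⟨k, B₀, inferInstance, inferInstance, (σ : k →+* A₁), algebraMap k B₀,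
    RingHom.id B₀, ?_, Function.surjective_id, ?_, ?_, ?_⟩
  · rw [RingHom.flat_algebraMap_iff]
    infer_instance
  · intro a
    refine ⟨residue A₁ a, ?_⟩
    rw [← Ideal.Quotient.eq_zero_iff_mem, map_sub, sub_eq_zero]
    exact (hσ' (residue A₁ a)).symm
  · intro l
    change algebraMap k B₀ l = algebraMap k B₀ (residue A₁ (σ l))
    rw [hσ']
  · have h1 : (maximalIdeal A₁).comap (σ : k →+* A₁) = ⊥ := by
      have hprime : ((maximalIdeal A₁).comap (σ : k →+* A₁)).IsPrime := Ideal.comap_isPrime _ _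
      exact (Ideal.eq_bot_or_top _).resolve_right hprime.ne_top
    rw [h1, Ideal.map_bot]
    exact (RingHom.injective_iff_ker_eq_bot _).mp Function.injective_id

end CharZero

section CharP

variable {A₁ B₀ : Type u} [CommRing A₁] [IsLocalRing A₁] [IsAdicComplete (maximalIdeal A₁) A₁]
  [CommRing B₀] [IsRegularLocalRing B₀] [IsAdicComplete (maximalIdeal B₀) B₀]
  [Algebra (ResidueField A₁) B₀]

open Groth.Agent.Lib.Helper81.CohenLift Groth.Agent.Lib.Helper81.CohenRing
  Groth.Agent.Lib.Helper88.MvPSModP in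
theorem hasData_of_charP (p : ℕ) [hp : Fact p.Prime] [CharP (ResidueField A₁) p] :
    HasData A₁ B₀ := by
  classical
  let k := ResidueField A₁
  let K₀ := ResidueField B₀
  have hpB : ((p : ℕ) : B₀) = 0 := by
    rw [← map_natCast (algebraMap k B₀), CharP.cast_eq_zero, map_zero]
  have hK₀ : CharP K₀ p := charP_of_injective_algebraMap (algebraMap k K₀).injective p
  -- Cohen ring of `k` and the coefficient map
  obtain ⟨Λ, _, _, _, _, hΛc, hmΛ, ⟨e⟩⟩ := exists_cohenRing p k
  have hpA : ((p : ℕ) : A₁) ∈ maximalIdeal A₁ := by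
    rw [← Ideal.Quotient.eq_zero_iff_mem, map_natCast]
    exact CharP.cast_eq_zero k p
  obtain ⟨φ, hφ⟩ := exists_lift_complete (Λ := Λ) hp.out hmΛ (maximalIdeal A₁) hpA
    ((e : ResidueField Λ →+* k).comp (residue Λ))
  have hφ' : ∀ l, residue A₁ (φ l) = e (residue Λ l) := fun l => DFunLike.congr_fun hφ l
  -- Cohen ring of `K₀` and the coefficient field of `B₀`
  obtain ⟨W, _, _, _, _, hWc, hmW, ⟨e'⟩⟩ := exists_cohenRing p K₀
  have hpB' : ((p : ℕ) : B₀) ∈ maximalIdeal B₀ := by
    rw [hpB]
    exact Ideal.zero_mem _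
  obtain ⟨χ, hχ⟩ := exists_lift_complete (Λ := W) hp.out hmW (maximalIdeal B₀) hpB'
    ((e' : ResidueField W →+* K₀).comp (residue W))
  have hχ' : ∀ w, residue B₀ (χ w) = e' (residue W w) := fun w => DFunLike.congr_fun hχ w
  let K := ResidueField W
  let χb : K →+* B₀ := Ideal.Quotient.lift (maximalIdeal W) χ (by
    intro a ha
    rw [hmW] at ha
    obtain ⟨b, rfl⟩ := Ideal.mem_span_singleton'.mp ha
    rw [map_mul, map_natCast, hpB, mul_zero])
  have hχb : ∀ w, χb (residue W w) = χ w := fun w => rfl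
  let _ : Algebra K B₀ := χb.toAlgebra
  have hbij : Function.Bijective (algebraMap K (ResidueField B₀)) := by
    have h1 : ∀ x : K, algebraMap K (ResidueField B₀) x = e' x := by
      intro x
      obtain ⟨w, rfl⟩ := residue_surjective x
      change residue B₀ (χb (residue W w)) = _
      rw [hχb, hχ']
    have h2 : (algebraMap K (ResidueField B₀) : K → ResidueField B₀) = e' := funext h1
    rw [h2]
    exact e'.bijective
  obtain ⟨d, ⟨ε⟩⟩ := Groth.Agent.S9443.Aux.main B₀ K hbij
  -- the power series ring over `W`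
  let D := MvPowerSeries (Fin d) W
  let q : D →+* MvPowerSeries (Fin d) K := MvPowerSeries.map (residue W)
  let πD : D →+* B₀ := (ε.symm : MvPowerSeries (Fin d) K →+* B₀).comp q
  have hC : ((p : ℕ) : D) = MvPowerSeries.C ((p : ℕ) : W) :=
    (map_natCast (MvPowerSeries.C : W →+* D) p).symm
  have hcompW : IsAdicComplete (Ideal.span {((p : ℕ) : W)}) W := hmW ▸ hWc
  have hcompD : IsAdicComplete (Ideal.span {((p : ℕ) : D)}) D := by
    rw [hC]
    exact isAdicComplete_span_C _
  have hkerq : RingHom.ker q = Ideal.span {((p : ℕ) : D)} := by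
    rw [hC]
    exact ker_map_eq (residue W) _ (by rw [ker_residue, hmW])
  have hkerπ : RingHom.ker πD = Ideal.span {((p : ℕ) : D)} := by
    rw [← hkerq]
    ext x
    rw [RingHom.mem_ker, RingHom.mem_ker]
    change ε.symm (q x) = 0 ↔ q x = 0
    exact map_eq_zero_iff _ ε.symm.injective
  have hsurjπ : Function.Surjective πD :=
    ε.symm.surjective.comp (map_surjective (residue W) residue_surjective)
  let eb : (D ⧸ Ideal.span {((p : ℕ) : D)}) ≃+* B₀ :=
    (Ideal.quotEquivOfEq hkerπ.symm).trans (RingHom.quotientKerEquivOfSurjective hsurjπ)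
  have heb : ∀ x : D, eb (Ideal.Quotient.mk _ x) = πD x := fun x => rfl
  let u : Λ →+* B₀ := (algebraMap k B₀).comp ((e : ResidueField Λ →+* k).comp (residue Λ))
  obtain ⟨ψ, hψ⟩ := exists_lift_complete (Λ := Λ) hp.out hmΛ (Ideal.span {((p : ℕ) : D)})
    (Ideal.mem_span_singleton_self _) ((eb.symm : B₀ →+* D ⧸ _).comp u)
  have hψ' : ∀ l, πD (ψ l) = u l := by
    intro l
    have h1 : Ideal.Quotient.mk _ (ψ l) = eb.symm (u l) := DFunLike.congr_fun hψ l
    rw [← heb, h1, RingEquiv.apply_symm_apply]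
  -- flatness
  have hirr : Irreducible ((p : ℕ) : Λ) :=
    (IsDiscreteValuationRing.irreducible_iff_uniformizer _).mpr hmΛ
  have hpW0 : ((p : ℕ) : W) ≠ 0 :=
    ((IsDiscreteValuationRing.irreducible_iff_uniformizer _).mpr hmW).ne_zero
  have hpD0 : ((p : ℕ) : D) ≠ 0 := by
    rw [hC]
    intro h0
    apply hpW0
    have := congrArg (MvPowerSeries.coeff (0 : Fin d →₀ ℕ)) h0
    rwa [MvPowerSeries.coeff_zero_C, map_zero] at this
  have hψne : ∀ r : Λ, r ≠ 0 → ψ r ≠ 0 := by
    intro r hr
    obtain ⟨n, v, rfl⟩ := IsDiscreteValuationRing.eq_unit_mul_pow_irreducible hr hirr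
    rw [map_mul, map_pow, map_natCast]
    exact mul_ne_zero ((v.isUnit.map ψ).ne_zero) (pow_ne_zero _ hpD0)
  have hflat : ψ.Flat := by
    let _ : Algebra Λ D := ψ.toAlgebra
    have htf : Module.IsTorsionFree Λ D := by
      refine ⟨fun r hr => ?_⟩
      intro x y hxy
      have h1 : ψ r * x = ψ r * y := hxy
      exact mul_left_cancel₀ (hψne r hr.ne_zero) h1
    change Module.Flat Λ D
    infer_instance
  refine ⟨Λ, D, inferInstance, inferInstance, φ, ψ, πD, hflat, hsurjπ, ?_, ?_, ?_⟩
  · intro a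
    obtain ⟨l, hl⟩ := residue_surjective (e.symm (residue A₁ a))
    refine ⟨l, ?_⟩
    rw [← Ideal.Quotient.eq_zero_iff_mem, map_sub, sub_eq_zero]
    change residue A₁ a = residue A₁ (φ l)
    rw [hφ', hl, RingEquiv.apply_symm_apply]
  · intro l
    rw [hψ', hφ']
    rfl
  · have hcomap : (maximalIdeal A₁).comap φ = maximalIdeal Λ := by
      ext l
      rw [Ideal.mem_comap, ← Ideal.Quotient.eq_zero_iff_mem]
      change residue A₁ (φ l) = 0 ↔ _
      rw [hφ', map_eq_zero_iff e e.injective, residue_eq_zero_iff]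
    rw [hkerπ, hcomap, hmΛ, Ideal.map_span, Set.image_singleton, map_natCast]

end CharP

/-- **Coefficient data exist.** -/
theorem hasData {A₁ B₀ : Type u} [CommRing A₁] [IsLocalRing A₁]
    [IsAdicComplete (maximalIdeal A₁) A₁]
    [CommRing B₀] [IsRegularLocalRing B₀] [IsAdicComplete (maximalIdeal B₀) B₀]
    [Algebra (ResidueField A₁) B₀] : HasData A₁ B₀ := by
  obtain ⟨p, hchar⟩ := CharP.exists (ResidueField A₁)
  rcases CharP.char_is_prime_or_zero (ResidueField A₁) p with hp | hp0
  · have : Fact p.Prime := ⟨hp⟩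
    exact hasData_of_charP p
  · subst hp0
    have : CharZero (ResidueField A₁) := CharP.charP_to_charZero _
    exact hasData_of_charZero

end Groth.Agent.Lib.Helper88.CoeffData
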