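import Mathlib

/-!
# Differentials with prescribed poles on the projective line, in polynomial form

Helper library for the `W4c4effdivwronsk2` family.  For distinct points `r j` and multiplicities
`a j` we put `E = ∏ (X - r j)^(a j)`, `R = ∏ (X - r j)`, `D = E * R`,
`S = ∑ a j * ∏_{t ≠ j} (X - r t)` (so `R * E' = S * E`), and `Φ P = R * P' - S * P`, the
polynomial form of `P ↦ D * (P / E)'`.
-/

set_option autoImplicit false

namespace Groth.Agent.Lib.Helper88

open Polynomial

section Defs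

variable {k : Type*} [Field k] {ι : Type*} [DecidableEq ι] (r : ι → k) (a : ι → ℕ)

/-- `R = ∏ (X - r j)`. -/
noncomputable def pdR (s : Finset ι) : k[X] := ∏ j ∈ s, (X - C (r j))

/-- `E = ∏ (X - r j)^(a j)`. -/
noncomputable def pdE (s : Finset ι) : k[X] := ∏ j ∈ s, (X - C (r j)) ^ a j

/-- `D = ∏ (X - r j)^(a j + 1)`. -/
noncomputable def pdD (s : Finset ι) : k[X] := ∏ j ∈ s, (X - C (r j)) ^ (a j + 1)

/-- `S = ∑ a j * ∏_{t ≠ j} (X - r t)`. -/
noncomputable def pdS (s : Finset ι) : k[X] :=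
  ∑ j ∈ s, C (a j : k) * ∏ t ∈ s.erase j, (X - C (r t))

/-- `Φ P = R * P' - S * P`. -/
noncomputable def pdPhi (s : Finset ι) : k[X] →ₗ[k] k[X] :=
  LinearMap.mulLeft k (pdR r s) ∘ₗ derivative - LinearMap.mulLeft k (pdS r a s)

theorem pdPhi_apply (s : Finset ι) (P : k[X]) :
    pdPhi r a s P = pdR r s * derivative P - pdS r a s * P := rfl

omit [DecidableEq ι] in
theorem pdD_eq (s : Finset ι) : pdD r a s = pdE r a s * pdR r s := by
  unfold pdD pdE pdR
  rw [← Finset.prod_mul_distrib]
  exact Finset.prod_congr rfl fun j _ => pow_succ _ _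

theorem pdR_mul_derivative_pdE (s : Finset ι) :
    pdR r s * derivative (pdE r a s) = pdS r a s * pdE r a s := by
  unfold pdE pdS
  rw [derivative_prod_finset, Finset.mul_sum, Finset.sum_mul]
  refine Finset.sum_congr rfl fun j hj => ?_
  have h1 : pdR r s = (X - C (r j)) * ∏ t ∈ s.erase j, (X - C (r t)) := by
    exact (Finset.mul_prod_erase s (fun t => X - C (r t)) hj).symm
  have h2 : ∏ t ∈ s, (X - C (r t)) ^ a t =
      (X - C (r j)) ^ a j * ∏ t ∈ s.erase j, (X - C (r t)) ^ a t :=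
    (Finset.mul_prod_erase s (fun t => (X - C (r t)) ^ a t) hj).symm
  rw [h1, h2, derivative_X_sub_C_pow]
  rcases Nat.eq_zero_or_pos (a j) with h0 | hpos
  · simp [h0]
  · have h3 : (X - C (r j)) ^ a j = (X - C (r j)) ^ (a j - 1) * (X - C (r j)) := by
      rw [← pow_succ, Nat.sub_add_cancel hpos]
    rw [h3]
    simp only [map_natCast]
    ring

theorem pdPhi_mul (s : Finset ι) (f g : k[X]) :
    pdPhi r a s (f * g) = pdR r s * derivative f * g + f * pdPhi r a s g := by
  simp only [pdPhi_apply, derivative_mul]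
  ring

theorem pdPhi_pdE_mul (s : Finset ι) (u : k[X]) :
    pdPhi r a s (pdE r a s * u) = pdD r a s * derivative u := by
  rw [pdPhi_mul, pdPhi_apply, pdD_eq]
  have := pdR_mul_derivative_pdE r a s
  linear_combination u * this

theorem pdPhi_pdE (s : Finset ι) : pdPhi r a s (pdE r a s) = 0 := by
  have := pdPhi_pdE_mul r a s 1
  simpa using this

theorem pdPhi_C_mul_pdE (s : Finset ι) (c : k) : pdPhi r a s (C c * pdE r a s) = 0 := by
  rw [mul_comm, pdPhi_pdE_mul]; simp

theorem pdR_erase {s : Finset ι} {i : ι} (hi : i ∈ s) :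
    pdR r s = (X - C (r i)) * pdR r (s.erase i) :=
  (Finset.mul_prod_erase s (fun t => X - C (r t)) hi).symm

theorem pdE_erase {s : Finset ι} {i : ι} (hi : i ∈ s) :
    pdE r a s = (X - C (r i)) ^ a i * pdE r a (s.erase i) :=
  (Finset.mul_prod_erase s (fun t => (X - C (r t)) ^ a t) hi).symm

theorem pdD_erase {s : Finset ι} {i : ι} (hi : i ∈ s) :
    pdD r a s = (X - C (r i)) ^ (a i + 1) * pdD r a (s.erase i) :=
  (Finset.mul_prod_erase s (fun t => (X - C (r t)) ^ (a t + 1)) hi).symm

theorem pdS_erase {s : Finset ι} {i : ι} (hi : i ∈ s) :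
    pdS r a s = C (a i : k) * pdR r (s.erase i) + (X - C (r i)) * pdS r a (s.erase i) := by
  unfold pdS pdR
  rw [← Finset.add_sum_erase s (fun j => C (a j : k) * ∏ t ∈ s.erase j, (X - C (r t))) hi,
    Finset.mul_sum]
  congr 1
  refine Finset.sum_congr rfl fun j hj => ?_
  have hji : j ≠ i := Finset.ne_of_mem_erase hj
  have hi' : i ∈ s.erase j := Finset.mem_erase.mpr ⟨hji.symm, hi⟩
  rw [← Finset.mul_prod_erase (s.erase j) (fun t => X - C (r t)) hi', Finset.erase_right_comm]
  ring

theorem pdPhi_erase {s : Finset ι} {i : ι} (hi : i ∈ s) (P : k[X]) :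
    pdPhi r a s P = (X - C (r i)) * pdPhi r a (s.erase i) P -
      C (a i : k) * pdR r (s.erase i) * P := by
  rw [pdPhi_apply, pdPhi_apply, pdR_erase r hi, pdS_erase r a hi]
  ring

theorem pdPhi_pdE_erase_mul {s : Finset ι} {i : ι} (hi : i ∈ s) (u : k[X]) :
    pdPhi r a s (pdE r a (s.erase i) * u) =
      pdD r a (s.erase i) * ((X - C (r i)) * derivative u - C (a i : k) * u) := by
  rw [pdPhi_erase r a hi, pdPhi_pdE_mul, pdD_eq]
  ring

end Defs

section Unmarked

variable {k : Type*} [Field k] [CharZero k] {ι : Type*} [DecidableEq ι] (r : ι → k) (a : ι → ℕ)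

omit [CharZero k] [DecidableEq ι] in
theorem pdR_eval_ne_zero (s : Finset ι) (q : k) (hq : ∀ j ∈ s, q ≠ r j) :
    (pdR r s).eval q ≠ 0 := by
  unfold pdR
  rw [eval_prod]
  exact Finset.prod_ne_zero_iff.mpr fun j hj => by simp [sub_ne_zero.mpr (hq j hj)]

omit [CharZero k] [DecidableEq ι] in
theorem pdE_eval_ne_zero (s : Finset ι) (q : k) (hq : ∀ j ∈ s, q ≠ r j) :
    (pdE r a s).eval q ≠ 0 := by
  unfold pdE
  rw [eval_prod]
  exact Finset.prod_ne_zero_iff.mpr fun j hj => by simp [sub_ne_zero.mpr (hq j hj)]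

omit [CharZero k] in
/-- If `(X - q)^(n+1)` divides `Q` then `(X - q)^n` divides `Φ Q`. -/
theorem dvd_pdPhi_of_dvd (s : Finset ι) (q : k) (n : ℕ) (Q : k[X])
    (h : (X - C q) ^ (n + 1) ∣ Q) : (X - C q) ^ n ∣ pdPhi r a s Q := by
  obtain ⟨u, rfl⟩ := h
  rw [pdPhi_mul, derivative_X_sub_C_pow]
  refine dvd_add ?_ ?_
  · refine Dvd.dvd.mul_right ?_ _
    refine Dvd.dvd.mul_left ?_ _
    simp only [Nat.add_sub_cancel]
    exact Dvd.dvd.mul_left (dvd_refl _) _
  · exact Dvd.dvd.mul_right (pow_dvd_pow _ (Nat.le_succ n)) _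

/-- At an unmarked point `q`: if `(X - q)^n` divides `Φ Q` and `Q(q) = 0` then `(X - q)^(n+1)`
divides `Q`. -/
theorem dvd_of_dvd_pdPhi (s : Finset ι) (q : k) (hq : ∀ j ∈ s, q ≠ r j) (n : ℕ) (Q : k[X])
    (h : (X - C q) ^ n ∣ pdPhi r a s Q) (h0 : Q.eval q = 0) : (X - C q) ^ (n + 1) ∣ Q := by
  induction n with
  | zero =>
    rw [zero_add, pow_one, dvd_iff_isRoot]
    exact h0
  | succ n ih =>
    obtain ⟨u, hu⟩ := ih (dvd_trans (pow_dvd_pow _ (Nat.le_succ n)) h)
    rw [hu, pdPhi_mul, derivative_X_sub_C_pow] at h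
    simp only [Nat.add_sub_cancel] at h
    have h1 : (X - C q) ^ (n + 1) ∣ (X - C q) ^ (n + 1) * pdPhi r a s u :=
      Dvd.intro _ rfl
    have h2 : (X - C q) ^ (n + 1) ∣
        pdR r s * (C ((n + 1 : ℕ) : k) * (X - C q) ^ n) * u := by
      have := (dvd_add_left h1).mp h
      simpa using this
    have h3 : pdR r s * (C ((n + 1 : ℕ) : k) * (X - C q) ^ n) * u =
        (X - C q) ^ n * (C ((n + 1 : ℕ) : k) * pdR r s * u) := by ring
    rw [h3, pow_succ, mul_dvd_mul_iff_left (pow_ne_zero _ (X_sub_C_ne_zero q)),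
      dvd_iff_isRoot, IsRoot.def, eval_mul, eval_mul, eval_C] at h2
    have h4 : u.eval q = 0 := by
      rcases mul_eq_zero.mp h2 with h5 | h5
      · rcases mul_eq_zero.mp h5 with h6 | h6
        · exact absurd h6 (Nat.cast_ne_zero.mpr (Nat.succ_ne_zero n))
        · exact absurd h6 (pdR_eval_ne_zero r s q hq)
      · exact h5
    obtain ⟨v, hv⟩ := dvd_iff_isRoot.mpr h4
    refine ⟨v, ?_⟩
    rw [hu, hv]
    ring

/-- The kernel of `Φ` is spanned by `E`. -/
theorem pdPhi_eq_zero (s : Finset ι) (P : k[X]) (h : pdPhi r a s P = 0) :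
    ∃ c : k, P = C c * pdE r a s := by
  have hinf : Infinite k := Infinite.of_injective _ (Nat.cast_injective (R := k))
  classical
  obtain ⟨q, hq⟩ := Infinite.exists_notMem_finset (s.image r)
  have hq' : ∀ j ∈ s, q ≠ r j := fun j hj hqj => hq (hqj ▸ Finset.mem_image_of_mem r hj)
  set c := P.eval q / (pdE r a s).eval q with hc
  refine ⟨c, ?_⟩
  have hQ0 : (P - C c * pdE r a s).eval q = 0 := by
    rw [eval_sub, eval_mul, eval_C, hc, div_mul_cancel₀ _ (pdE_eval_ne_zero r a s q hq'), sub_self]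
  have hQ : pdPhi r a s (P - C c * pdE r a s) = 0 := by
    rw [map_sub, h, pdPhi_C_mul_pdE, sub_zero]
  have hdvd := dvd_of_dvd_pdPhi r a s q hq' (P - C c * pdE r a s).natDegree
    (P - C c * pdE r a s) (by rw [hQ]; exact dvd_zero _) hQ0
  by_contra hne
  have hne' : P - C c * pdE r a s ≠ 0 := fun h0 => hne (sub_eq_zero.mp h0)
  have := natDegree_le_of_dvd hdvd hne'
  rw [natDegree_pow, natDegree_X_sub_C, mul_one] at this
  omega

/-- At an unmarked point, an element `Φ P` divisible by `(X - q)^n` is `Φ Q` for some `Q`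
divisible by `(X - q)^(n+1)` in the same degree range. -/
theorem exists_dvd_of_dvd_pdPhi (s : Finset ι) (q : k) (hq : ∀ j ∈ s, q ≠ r j) (n T : ℕ)
    (P : k[X]) (hP : P ∈ degreeLT k T) (hE : pdE r a s ∈ degreeLT k T)
    (h : (X - C q) ^ n ∣ pdPhi r a s P) :
    ∃ Q ∈ degreeLT k T, (X - C q) ^ (n + 1) ∣ Q ∧ pdPhi r a s Q = pdPhi r a s P := by
  set c := P.eval q / (pdE r a s).eval q with hc
  have hQ0 : (P - C c * pdE r a s).eval q = 0 := by
    rw [eval_sub, eval_mul, eval_C, hc, div_mul_cancel₀ _ (pdE_eval_ne_zero r a s q hq), sub_self]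
  have hQ : pdPhi r a s (P - C c * pdE r a s) = pdPhi r a s P := by
    rw [map_sub, pdPhi_C_mul_pdE, sub_zero]
  refine ⟨P - C c * pdE r a s, ?_, ?_, hQ⟩
  · refine Submodule.sub_mem _ hP ?_
    rw [← smul_eq_C_mul]
    exact Submodule.smul_mem _ _ hE
  · exact dvd_of_dvd_pdPhi r a s q hq n _ (by rw [hQ]; exact h) hQ0

end Unmarked

section Degrees

variable {k : Type*} [Field k]

theorem mem_degreeLT_iff_natDegree {f : k[X]} {n : ℕ} :
    f ∈ degreeLT k n ↔ f = 0 ∨ f.natDegree < n := by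
  rw [mem_degreeLT]
  by_cases hf : f = 0
  · simp [hf]
  · rw [natDegree_lt_iff_degree_lt hf]
    simp [hf]

theorem mul_mem_degreeLT {p q : k[X]} {m n : ℕ} (hp : p.natDegree ≤ m) (hq : q ∈ degreeLT k n) :
    p * q ∈ degreeLT k (m + n) := by
  rw [mem_degreeLT_iff_natDegree] at hq ⊢
  rcases hq with hq | hq
  · left; rw [hq, mul_zero]
  · right
    calc (p * q).natDegree ≤ p.natDegree + q.natDegree := natDegree_mul_le
      _ < m + n := by omega

theorem mem_degreeLT_of_mul_mem {p q : k[X]} {m n : ℕ} (hp : p.Monic) (hpm : p.natDegree = m)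
    (h : p * q ∈ degreeLT k (m + n)) : q ∈ degreeLT k n := by
  rw [mem_degreeLT_iff_natDegree] at h ⊢
  by_cases hq : q = 0
  · left; exact hq
  · right
    rcases h with h | h
    · exact absurd ((mul_eq_zero.mp h).resolve_left hp.ne_zero) hq
    · rw [natDegree_mul hp.ne_zero hq, hpm] at h
      omega

theorem derivative_mem_degreeLT {n : ℕ} {q : k[X]} (hq : q ∈ degreeLT k (n + 1)) :
    derivative q ∈ degreeLT k n := by
  rw [mem_degreeLT, degree_lt_iff_coeff_zero] at hq ⊢
  intro j hj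
  rw [coeff_derivative, hq (j + 1) (by omega), zero_mul]

theorem twisted_derivative_mem_degreeLT (ρ : k) (α : ℕ) (v : k[X]) (hv : v ∈ degreeLT k α) :
    (X - C ρ) * derivative v - C (α : k) * v ∈ degreeLT k α := by
  rw [mem_degreeLT, degree_lt_iff_coeff_zero] at hv ⊢
  intro j hj
  rcases Nat.eq_zero_or_pos j with h0 | hpos
  · have hα : α = 0 := by omega
    have hv0 : v = 0 := by
      ext i
      simpa using hv i (by omega)
    simp [hv0]
  · obtain ⟨j', rfl⟩ := Nat.exists_eq_succ_of_ne_zero hpos.ne'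
    rw [coeff_sub, coeff_X_sub_C_mul, coeff_C_mul, coeff_derivative, coeff_derivative,
      hv (j' + 1) hj, hv (j' + 1 + 1) (by omega)]
    simp

end Degrees

section Antiderivatives

variable {k : Type*} [Field k] [CharZero k]

/-- Polynomials of degree `< n` have antiderivatives of degree `< n + 1`. -/
theorem exists_antiderivative (n : ℕ) (u : k[X]) (hu : u ∈ degreeLT k n) :
    ∃ w ∈ degreeLT k (n + 1), derivative w = u := by
  refine ⟨∑ i ∈ Finset.range n, C (u.coeff i / ((i : k) + 1)) * X ^ (i + 1), ?_, ?_⟩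
  · refine Submodule.sum_mem _ fun i hi => ?_
    rw [mem_degreeLT]
    refine lt_of_le_of_lt (degree_C_mul_X_pow_le _ _) ?_
    exact_mod_cast Nat.succ_lt_succ (Finset.mem_range.mp hi)
  · rw [map_sum]
    ext j
    simp only [finsetSum_coeff, derivative_C_mul_X_pow, Nat.add_sub_cancel, coeff_C_mul_X_pow]
    rw [Finset.sum_ite_eq]
    split_ifs with hj
    · have : ((j : k) + 1) ≠ 0 := by exact_mod_cast Nat.succ_ne_zero j
      push_cast
      field_simp
    · rw [mem_degreeLT, degree_lt_iff_coeff_zero] at hu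
      exact (hu j (by simpa using hj)).symm

/-- The operator `v ↦ (X - ρ) v' - α v` is onto the polynomials of degree `< α`. -/
theorem exists_twisted_antiderivative (ρ : k) (α : ℕ) (u : k[X]) (hu : u ∈ degreeLT k α) :
    ∃ v ∈ degreeLT k α, (X - C ρ) * derivative v - C (α : k) * v = u := by
  let T : k[X] →ₗ[k] k[X] := pdPhi (fun _ : Unit => ρ) (fun _ => α) {()}
  have hTapp : ∀ v, T v = (X - C ρ) * derivative v - C (α : k) * v := by
    intro v
    simp [T, pdPhi_apply, pdR, pdS]
  have hT : ∀ v ∈ degreeLT k α, T v ∈ degreeLT k α := by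
    intro v hv
    rw [hTapp]
    exact twisted_derivative_mem_degreeLT ρ α v hv
  let T' : degreeLT k α →ₗ[k] degreeLT k α := T.restrict hT
  have hinj : Function.Injective T' := by
    rw [← LinearMap.ker_eq_bot, LinearMap.ker_eq_bot']
    intro v hv
    have hv' : T v.1 = 0 := by
      have := congrArg Subtype.val hv
      simpa [T'] using this
    obtain ⟨c, hc⟩ := pdPhi_eq_zero (fun _ : Unit => ρ) (fun _ => α) {()} v.1 hv'
    have hE : pdE (fun _ : Unit => ρ) (fun _ => α) {()} = (X - C ρ) ^ α := by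
      simp [pdE]
    rw [hE] at hc
    by_cases hc0 : c = 0
    · apply Subtype.ext
      rw [hc, hc0]; simp
    · exfalso
      have h1 := v.2
      rw [mem_degreeLT_iff_natDegree, hc] at h1
      rcases h1 with h1 | h1
      · rcases mul_eq_zero.mp h1 with h2 | h2
        · exact hc0 (by simpa using h2)
        · exact pow_ne_zero _ (X_sub_C_ne_zero ρ) h2
      · rw [natDegree_C_mul hc0, natDegree_pow, natDegree_X_sub_C, mul_one] at h1
        exact lt_irrefl _ h1
  have hsurj : Function.Surjective T' := LinearMap.injective_iff_surjective.mp hinj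
  obtain ⟨v, hv⟩ := hsurj ⟨u, hu⟩
  refine ⟨v.1, v.2, ?_⟩
  rw [← hTapp]
  have := congrArg Subtype.val hv
  simpa [T'] using this

end Antiderivatives

section Span

variable {k : Type*} [Field k] [CharZero k] {ι : Type*} [DecidableEq ι] (r : ι → k) (a : ι → ℕ)

omit [CharZero k] [DecidableEq ι] in
theorem pdE_monic (s : Finset ι) : (pdE r a s).Monic :=
  monic_prod_of_monic _ _ fun _ _ => (monic_X_sub_C _).pow _

omit [CharZero k] [DecidableEq ι] in
theorem natDegree_pdE (s : Finset ι) : (pdE r a s).natDegree = ∑ j ∈ s, a j := by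
  unfold pdE
  rw [natDegree_prod_of_monic _ _ (fun j _ => (monic_X_sub_C _).pow _)]
  refine Finset.sum_congr rfl fun j _ => ?_
  rw [(monic_X_sub_C (r j)).natDegree_pow, natDegree_X_sub_C, mul_one]

omit [CharZero k] [DecidableEq ι] in
theorem pdE_mem_degreeLT (s : Finset ι) {T : ℕ} (hT : ∑ j ∈ s, a j < T) :
    pdE r a s ∈ degreeLT k T := by
  rw [mem_degreeLT_iff_natDegree, natDegree_pdE]
  exact Or.inr hT

variable [Fintype ι]

/-- The sum of the spaces of polar parts is the image under `Φ` of the polynomials of bounded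
degree. -/
theorem pd_span_eq (hr : Function.Injective r) (b' : ℕ) :
    (degreeLT k b').map (LinearMap.mulLeft k (pdD r a Finset.univ)) ⊔
      ⨆ i, (degreeLT k (a i)).map (LinearMap.mulLeft k (pdD r a (Finset.univ.erase i))) =
    (degreeLT k ((∑ j, a j) + b' + 1)).map (pdPhi r a Finset.univ) := by
  have hsum : ∀ i, (∑ j ∈ Finset.univ.erase i, a j) + a i = ∑ j, a j := fun i => by
    rw [add_comm]; exact Finset.add_sum_erase _ _ (Finset.mem_univ i)
  apply le_antisymm
  · refine sup_le ?_ (iSup_le fun i => ?_)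
    · rintro _ ⟨u, hu, rfl⟩
      obtain ⟨w, hw, rfl⟩ := exists_antiderivative b' u hu
      refine ⟨pdE r a Finset.univ * w, ?_, ?_⟩
      · have := mul_mem_degreeLT (m := ∑ j, a j) (natDegree_pdE r a Finset.univ).le hw
        simpa [add_assoc] using this
      · rw [pdPhi_pdE_mul]; rfl
    · rintro _ ⟨u, hu, rfl⟩
      obtain ⟨v, hv, rfl⟩ := exists_twisted_antiderivative (r i) (a i) u hu
      refine ⟨pdE r a (Finset.univ.erase i) * v, ?_, ?_⟩
      · have := mul_mem_degreeLT (m := ∑ j ∈ Finset.univ.erase i, a j)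
          (natDegree_pdE r a (Finset.univ.erase i)).le hv
        rw [hsum i] at this
        exact degreeLT_mono (by omega) this
      · rw [pdPhi_pdE_erase_mul r a (Finset.mem_univ i)]; rfl
  · rintro _ ⟨P, hP, rfl⟩
    obtain ⟨q, v, hv, hPeq⟩ := eq_quo_mul_prod_add_sum_rem_mul_prod (s := Finset.univ) P
      (g := fun j => (X - C (r j)) ^ (a j)) (fun j _ => (monic_X_sub_C _).pow _)
      (fun i _ _ _ hij => (pairwise_coprime_X_sub_C hr hij).pow)
    have hvi : ∀ i, v i ∈ degreeLT k (a i) := by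
      intro i
      have := hv i (Finset.mem_univ i)
      rw [mem_degreeLT]
      refine lt_of_lt_of_le this ?_
      rw [degree_pow, degree_X_sub_C]
      simp
    have hPeq' : P = pdE r a Finset.univ * q +
        ∑ i, pdE r a (Finset.univ.erase i) * v i := by
      rw [hPeq, mul_comm q]
      congr 1
      exact Finset.sum_congr rfl fun i _ => mul_comm _ _
    have hterm : ∀ i, pdE r a (Finset.univ.erase i) * v i ∈
        degreeLT k ((∑ j, a j) + (b' + 1)) := by
      intro i
      have := mul_mem_degreeLT (m := ∑ j ∈ Finset.univ.erase i, a j)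
        (natDegree_pdE r a (Finset.univ.erase i)).le (hvi i)
      rw [hsum i] at this
      exact degreeLT_mono (by omega) this
    have hq : q ∈ degreeLT k (b' + 1) := by
      refine mem_degreeLT_of_mul_mem (pdE_monic r a Finset.univ) (natDegree_pdE r a Finset.univ) ?_
      have h1 : pdE r a Finset.univ * q = P - ∑ i, pdE r a (Finset.univ.erase i) * v i := by
        rw [hPeq']; ring
      rw [h1]
      refine Submodule.sub_mem _ ?_ (Submodule.sum_mem _ fun i _ => hterm i)
      simpa [add_assoc] using hP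
    rw [hPeq', map_add, map_sum, pdPhi_pdE_mul]
    refine Submodule.add_mem _ (Submodule.mem_sup_left ?_) (Submodule.sum_mem _ fun i _ => ?_)
    · exact ⟨derivative q, derivative_mem_degreeLT hq, rfl⟩
    · rw [pdPhi_pdE_erase_mul r a (Finset.mem_univ i)]
      refine Submodule.mem_sup_right (Submodule.mem_iSup_of_mem i ?_)
      exact ⟨_, twisted_derivative_mem_degreeLT (r i) (a i) (v i) (hvi i), rfl⟩

end Span

section Finrank

variable {k : Type*} [Field k] [CharZero k] {ι : Type*} [DecidableEq ι] (r : ι → k) (a : ι → ℕ)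

omit [CharZero k] in
theorem finrank_degreeLT (n : ℕ) : Module.finrank k (degreeLT k n) = n := by
  rw [Module.finrank_eq_card_basis (degreeLT.basis k n), Fintype.card_fin]

/-- `Φ` drops the dimension of a finite-dimensional space containing `E` by one. -/
theorem finrank_map_pdPhi_of_mem (s : Finset ι) (Q : Submodule k k[X]) [FiniteDimensional k Q]
    (hE : pdE r a s ∈ Q) : Module.finrank k (Q.map (pdPhi r a s)) + 1 = Module.finrank k Q := by
  have h := LinearMap.finrank_range_add_finrank_ker ((pdPhi r a s).domRestrict Q)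
  rw [LinearMap.range_domRestrict] at h
  have hker : LinearMap.ker ((pdPhi r a s).domRestrict Q) = Submodule.span k {⟨pdE r a s, hE⟩} := by
    ext ⟨P, hP⟩
    rw [LinearMap.mem_ker, LinearMap.domRestrict_apply, Submodule.mem_span_singleton]
    constructor
    · intro h0
      obtain ⟨c, hc⟩ := pdPhi_eq_zero r a s P h0
      refine ⟨c, Subtype.ext ?_⟩
      simp [hc, smul_eq_C_mul]
    · rintro ⟨c, hc⟩
      have hc' : P = C c * pdE r a s := by
        have := congrArg Subtype.val hc
        simpa [smul_eq_C_mul] using this.symm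
      change pdPhi r a s P = 0
      rw [hc', pdPhi_C_mul_pdE]
  have hne : (⟨pdE r a s, hE⟩ : Q) ≠ 0 := by
    intro h0
    exact (pdE_monic r a s).ne_zero (congrArg Subtype.val h0)
  rw [hker, finrank_span_singleton hne] at h
  exact h

/-- `Φ` is injective on a subspace not containing `E`. -/
theorem finrank_map_pdPhi_of_notMem (s : Finset ι) (Q : Submodule k k[X])
    (hE : pdE r a s ∉ Q) : Module.finrank k (Q.map (pdPhi r a s)) = Module.finrank k Q := by
  have hinj : Function.Injective ((pdPhi r a s).domRestrict Q) := by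
    rw [← LinearMap.ker_eq_bot, LinearMap.ker_eq_bot']
    rintro ⟨P, hP⟩ h0
    have h0' : pdPhi r a s P = 0 := h0
    obtain ⟨c, hc⟩ := pdPhi_eq_zero r a s P h0'
    apply Subtype.ext
    change P = 0
    by_cases hc0 : c = 0
    · rw [hc, hc0]; simp
    · exfalso
      apply hE
      have : pdE r a s = c⁻¹ • P := by
        rw [hc, smul_eq_C_mul, ← mul_assoc, ← C_mul, inv_mul_cancel₀ hc0, C_1, one_mul]
      rw [this]
      exact Submodule.smul_mem _ _ hP
  have := LinearMap.finrank_range_of_inj hinj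
  rw [LinearMap.range_domRestrict] at this
  exact this

theorem finrank_map_pdPhi_degreeLT (s : Finset ι) (T : ℕ) (hT : ∑ j ∈ s, a j < T) :
    Module.finrank k ((degreeLT k T).map (pdPhi r a s)) + 1 = T := by
  rw [finrank_map_pdPhi_of_mem r a s _ (pdE_mem_degreeLT r a s hT), finrank_degreeLT]

theorem finrank_map_pdPhi_degreeLT' (s : Finset ι) (T : ℕ) (hT : T ≤ ∑ j ∈ s, a j) :
    Module.finrank k ((degreeLT k T).map (pdPhi r a s)) = T := by
  rw [finrank_map_pdPhi_of_notMem r a s, finrank_degreeLT]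
  rw [mem_degreeLT_iff_natDegree, natDegree_pdE]
  rintro (h | h)
  · exact (pdE_monic r a s).ne_zero h
  · omega

/-- No nonzero `Φ P` with `deg P < T ≤ n + 1` is divisible by `(X - q)^n`, at an unmarked point. -/
theorem pd_inf_span_pow_eq_bot (s : Finset ι) (q : k) (hq : ∀ j ∈ s, q ≠ r j) (T : ℕ)
    (hT : ∑ j ∈ s, a j < T) (n : ℕ) (hn : T ≤ n + 1) :
    (degreeLT k T).map (pdPhi r a s) ⊓ (Ideal.span {(X - C q) ^ n}).restrictScalars k = ⊥ := by
  rw [eq_bot_iff]
  rintro h ⟨⟨P, hP, rfl⟩, hdvd⟩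
  rw [SetLike.mem_coe, Submodule.restrictScalars_mem, Ideal.mem_span_singleton] at hdvd
  obtain ⟨Q, hQ, hQdvd, hQeq⟩ := exists_dvd_of_dvd_pdPhi r a s q hq n T P hP
    (pdE_mem_degreeLT r a s hT) hdvd
  have hQ0 : Q = 0 := by
    by_contra hne
    have h1 := natDegree_le_of_dvd hQdvd hne
    rw [natDegree_pow, natDegree_X_sub_C, mul_one] at h1
    rw [mem_degreeLT_iff_natDegree] at hQ
    rcases hQ with hQ | hQ
    · exact hne hQ
    · omega
  rw [Submodule.mem_bot, ← hQeq, hQ0, map_zero]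

omit [CharZero k] in
/-- A subspace containing all polynomials of degree `< N - 1`, one of degree exactly `N` and one
of degree exactly `N - 1` contains all polynomials of degree `≤ N`. -/
theorem degreeLT_le_of_mem (Z : Submodule k k[X]) (M : ℕ) (hZ : degreeLT k M ≤ Z)
    (P₁ P₂ : k[X]) (h1 : P₁ ∈ degreeLT k (M + 2)) (h1c : P₁.coeff (M + 1) ≠ 0)
    (h2 : P₂ ∈ degreeLT k (M + 1)) (h2c : P₂.coeff M ≠ 0) (hP₁ : P₁ ∈ Z) (hP₂ : P₂ ∈ Z) :
    degreeLT k (M + 2) ≤ Z := by
  intro P hP
  set c₁ := P.coeff (M + 1) / P₁.coeff (M + 1) with hc₁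
  set P' := P - c₁ • P₁ with hP'
  have hP'mem : P' ∈ degreeLT k (M + 1) := by
    have h3 : P' ∈ degreeLT k (M + 2) := Submodule.sub_mem _ hP (Submodule.smul_mem _ _ h1)
    rw [mem_degreeLT, degree_lt_iff_coeff_zero] at h3 ⊢
    intro j hj
    rcases Nat.eq_or_lt_of_le hj with h4 | h4
    · rw [← h4, hP', coeff_sub, coeff_smul, smul_eq_mul, hc₁, div_mul_cancel₀ _ h1c, sub_self]
    · exact h3 j (by omega)
  set c₂ := P'.coeff M / P₂.coeff M with hc₂
  set P'' := P' - c₂ • P₂ with hP''
  have hP''mem : P'' ∈ degreeLT k M := by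
    have h3 : P'' ∈ degreeLT k (M + 1) := Submodule.sub_mem _ hP'mem (Submodule.smul_mem _ _ h2)
    rw [mem_degreeLT, degree_lt_iff_coeff_zero] at h3 ⊢
    intro j hj
    rcases Nat.eq_or_lt_of_le hj with h4 | h4
    · rw [← h4, hP'', coeff_sub, coeff_smul, smul_eq_mul, hc₂, div_mul_cancel₀ _ h2c, sub_self]
    · exact h3 j (by omega)
  have : P = P'' + c₂ • P₂ + c₁ • P₁ := by rw [hP'', hP']; ring
  rw [this]
  exact Submodule.add_mem _ (Submodule.add_mem _ (hZ hP''mem) (Submodule.smul_mem _ _ hP₂))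
    (Submodule.smul_mem _ _ hP₁)

/-- A hyperplane of `Φ(k[X]_{≤ N})` containing `Φ(k[X]_{< N-1})` cannot contain both `Φ P₁` and
`Φ P₂` with `deg P₁ = N` and `deg P₂ = N - 1`. -/
theorem pd_hyperplane_absurd (s : Finset ι) (M : ℕ) (hA : ∑ j ∈ s, a j < M + 2)
    (V₁ : Submodule k k[X]) (hfin : Module.finrank k V₁ = M)
    [FiniteDimensional k V₁]
    (hU : (degreeLT k M).map (pdPhi r a s) ≤ V₁)
    (P₁ P₂ : k[X]) (h1 : P₁ ∈ degreeLT k (M + 2)) (h1c : P₁.coeff (M + 1) ≠ 0)
    (h2 : P₂ ∈ degreeLT k (M + 1)) (h2c : P₂.coeff M ≠ 0)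
    (hP₁ : pdPhi r a s P₁ ∈ V₁) (hP₂ : pdPhi r a s P₂ ∈ V₁) : False := by
  have hle : degreeLT k (M + 2) ≤ V₁.comap (pdPhi r a s) :=
    degreeLT_le_of_mem _ M (Submodule.map_le_iff_le_comap.mp hU) P₁ P₂ h1 h1c h2 h2c hP₁ hP₂
  have hle' : (degreeLT k (M + 2)).map (pdPhi r a s) ≤ V₁ := Submodule.map_le_iff_le_comap.mpr hle
  have h3 := Submodule.finrank_mono hle'
  have h4 := finrank_map_pdPhi_degreeLT r a s (M + 2) hA
  omega

omit [CharZero k] in
/-- Vanishing at `p` cuts a finite-dimensional space of polynomials, not all vanishing at `p`,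
down by one dimension. -/
theorem finrank_inf_span_X_sub_C (t : Submodule k k[X]) [FiniteDimensional k t] (p : k)
    (h₀ : k[X]) (h₀t : h₀ ∈ t) (h₀p : h₀.eval p ≠ 0) :
    Module.finrank k ↥(t ⊓ (Ideal.span {X - C p}).restrictScalars k) + 1 = Module.finrank k t := by
  set M := (Ideal.span {X - C p}).restrictScalars k with hM
  have hmem : ∀ h : k[X], h ∈ M ↔ h.eval p = 0 := by
    intro h
    rw [hM, Submodule.restrictScalars_mem, Ideal.mem_span_singleton, dvd_iff_isRoot, IsRoot.def]
  have h := Submodule.finrank_sup_add_finrank_inf_eq (t ⊓ M) (Submodule.span k {h₀})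
  have hne : h₀ ≠ 0 := fun h0 => h₀p (by rw [h0, eval_zero])
  have hsup : (t ⊓ M) ⊔ Submodule.span k {h₀} = t := by
    apply le_antisymm
    · refine sup_le inf_le_left ?_
      rw [Submodule.span_singleton_le_iff_mem]
      exact h₀t
    · intro x hx
      have hx1 : x - (x.eval p / h₀.eval p) • h₀ ∈ t ⊓ M := by
        refine ⟨Submodule.sub_mem _ hx (Submodule.smul_mem _ _ h₀t), ?_⟩
        rw [SetLike.mem_coe, hmem, eval_sub, eval_smul, smul_eq_mul, div_mul_cancel₀ _ h₀p, sub_self]
      have : x = (x - (x.eval p / h₀.eval p) • h₀) + (x.eval p / h₀.eval p) • h₀ := by ring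
      rw [this]
      exact Submodule.add_mem _ (Submodule.mem_sup_left hx1)
        (Submodule.mem_sup_right (Submodule.smul_mem _ _ (Submodule.mem_span_singleton_self _)))
  have hinf : (t ⊓ M) ⊓ Submodule.span k {h₀} = ⊥ := by
    rw [eq_bot_iff]
    rintro x ⟨⟨_, hxM⟩, hxs⟩
    rw [SetLike.mem_coe, Submodule.mem_span_singleton] at hxs
    obtain ⟨c, rfl⟩ := hxs
    rw [SetLike.mem_coe, hmem, eval_smul, smul_eq_mul] at hxM
    rcases mul_eq_zero.mp hxM with h5 | h5
    · rw [h5, zero_smul]; exact Submodule.zero_mem _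
    · exact absurd h5 h₀p
  rw [hsup, hinf, finrank_bot, add_zero, finrank_span_singleton hne] at h
  exact h.symm

end Finrank

end Groth.Agent.Lib.Helper88
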