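import Groth.Agent.Lib.Helper88.PolarDiff

/-!
# Differentials with prescribed poles: ramification off the marked points

Continuation of `PolarDiff.lean`.
-/

set_option autoImplicit false

namespace Groth.Agent.Lib.Helper88

open Polynomial

section Coeffs

variable {k : Type*} [Field k]

theorem coeff_X_sub_C_pow_self (q : k) (n : ℕ) : ((X - C q) ^ n).coeff n = 1 := by
  have h := (monic_X_sub_C q).pow n
  have h2 : ((X - C q) ^ n).natDegree = n := by
    rw [(monic_X_sub_C q).natDegree_pow, natDegree_X_sub_C, mul_one]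
  have := h.coeff_natDegree
  rwa [h2] at this

theorem coeff_X_sub_C_pow_succ (q : k) (n : ℕ) :
    ((X - C q) ^ (n + 1)).coeff n = -((n : k) + 1) * q := by
  have h : (X - C q : k[X]) = X + C (-q) := by rw [C_neg, sub_eq_add_neg]
  rw [h, coeff_X_add_C_pow, Nat.choose_succ_self_right]
  have : n + 1 - n = 1 := by omega
  rw [this]
  push_cast
  ring

theorem X_sub_C_pow_mem_degreeLT (q : k) (n : ℕ) : (X - C q) ^ n ∈ degreeLT k (n + 1) := by
  rw [mem_degreeLT_iff_natDegree]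
  right
  rw [(monic_X_sub_C q).natDegree_pow, natDegree_X_sub_C, mul_one]
  exact Nat.lt_succ_self n

theorem coeff_eq_zero_of_mem_degreeLT {f : k[X]} {n j : ℕ} (hf : f ∈ degreeLT k n) (hj : n ≤ j) :
    f.coeff j = 0 := by
  rw [mem_degreeLT, degree_lt_iff_coeff_zero] at hf
  exact hf j hj

/-- The difference of two `(M+1)`-st powers of distinct linear forms has degree exactly `M`
(characteristic zero). -/
theorem X_sub_C_pow_sub_mem (q q' : k) (M : ℕ) :
    (X - C q) ^ (M + 1) - (X - C q') ^ (M + 1) ∈ degreeLT k (M + 1) := by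
  rw [mem_degreeLT, degree_lt_iff_coeff_zero]
  intro j hj
  rw [coeff_sub]
  rcases Nat.eq_or_lt_of_le hj with h | h
  · rw [← h, coeff_X_sub_C_pow_self, coeff_X_sub_C_pow_self, sub_self]
  · rw [coeff_eq_zero_of_mem_degreeLT (X_sub_C_pow_mem_degreeLT q (M + 1)) (by omega),
      coeff_eq_zero_of_mem_degreeLT (X_sub_C_pow_mem_degreeLT q' (M + 1)) (by omega), sub_self]

theorem coeff_X_sub_C_pow_sub [CharZero k] (q q' : k) (hqq : q ≠ q') (M : ℕ) :
    ((X - C q) ^ (M + 1) - (X - C q') ^ (M + 1)).coeff M ≠ 0 := by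
  rw [coeff_sub, coeff_X_sub_C_pow_succ, coeff_X_sub_C_pow_succ]
  have h1 : ((M : k) + 1) ≠ 0 := by exact_mod_cast Nat.succ_ne_zero M
  have h2 : -((M : k) + 1) * q - -((M : k) + 1) * q' = ((M : k) + 1) * (q' - q) := by ring
  rw [h2]
  exact mul_ne_zero h1 (sub_ne_zero.mpr hqq.symm)

theorem X_sub_C_pow_mul_X_mem_degreeLT (q : k) (n : ℕ) :
    (X - C q) ^ n * X ∈ degreeLT k (n + 2) := by
  have := mul_mem_degreeLT (p := (X - C q) ^ n) (q := X) (m := n) (n := 2)
    (by rw [(monic_X_sub_C q).natDegree_pow, natDegree_X_sub_C, mul_one])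
    (by rw [mem_degreeLT_iff_natDegree]; right; rw [natDegree_X]; norm_num)
  exact this

theorem coeff_X_sub_C_pow_mul_X (q : k) (n : ℕ) : ((X - C q) ^ n * X).coeff (n + 1) = 1 := by
  rw [coeff_mul_X, coeff_X_sub_C_pow_self]

end Coeffs

section Unmarked2

variable {k : Type*} [Field k] [CharZero k] {ι : Type*} [DecidableEq ι] (r : ι → k) (a : ι → ℕ)

/-- At an unmarked point, the members of `Φ(k[X]_{<T})` divisible by `(X - q)^n` come from the
multiples of `(X - q)^(n+1)`. -/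
theorem pd_inf_span_pow_le (s : Finset ι) (q : k) (hq : ∀ j ∈ s, q ≠ r j) (T n e : ℕ)
    (hT : ∑ j ∈ s, a j < T) (hTe : T = (n + 1) + e) :
    (degreeLT k T).map (pdPhi r a s) ⊓ (Ideal.span {(X - C q) ^ n}).restrictScalars k ≤
      ((degreeLT k e).map (LinearMap.mulLeft k ((X - C q) ^ (n + 1)))).map (pdPhi r a s) := by
  rintro h ⟨⟨P, hP, rfl⟩, hdvd⟩
  rw [SetLike.mem_coe, Submodule.restrictScalars_mem, Ideal.mem_span_singleton] at hdvd
  obtain ⟨Q, hQ, ⟨ℓ, rfl⟩, hQeq⟩ := exists_dvd_of_dvd_pdPhi r a s q hq n T P hP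
    (pdE_mem_degreeLT r a s hT) hdvd
  refine ⟨_, ⟨ℓ, ?_, rfl⟩, hQeq⟩
  rw [hTe] at hQ
  exact mem_degreeLT_of_mul_mem ((monic_X_sub_C q).pow (n + 1))
    (by rw [(monic_X_sub_C q).natDegree_pow, natDegree_X_sub_C, mul_one]) hQ

omit [CharZero k] in
theorem finrank_map_map_degreeLT_le (s : Finset ι) (f : k[X]) (e : ℕ) :
    Module.finrank k (((degreeLT k e).map (LinearMap.mulLeft k f)).map (pdPhi r a s)) ≤ e := by
  refine le_trans (Submodule.finrank_map_le _ _) ?_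
  refine le_trans (Submodule.finrank_map_le _ _) ?_
  rw [finrank_degreeLT]

/-- If a subspace `V₁` of `Φ(k[X]_{≤ M+1})` has a nonzero member divisible by `(X - q)^M` at an
unmarked point `q`, then `Φ((X - q)^(M+1)) ∈ V₁`. -/
theorem pd_mem_of_inf_ne_bot (s : Finset ι) (q : k) (hq : ∀ j ∈ s, q ≠ r j) (M : ℕ)
    (hA : ∑ j ∈ s, a j < M + 2) (V₁ : Submodule k k[X])
    (hV₁ : V₁ ≤ (degreeLT k (M + 2)).map (pdPhi r a s))
    (hne : V₁ ⊓ (Ideal.span {(X - C q) ^ M}).restrictScalars k ≠ ⊥) :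
    pdPhi r a s ((X - C q) ^ (M + 1)) ∈ V₁ := by
  obtain ⟨h, hh, hh0⟩ := Submodule.exists_mem_ne_zero_of_ne_bot hne
  obtain ⟨hhV, hhM⟩ := hh
  have hmem := pd_inf_span_pow_le r a s q hq (M + 2) M 1 hA (by omega) ⟨hV₁ hhV, hhM⟩
  obtain ⟨_, ⟨ℓ, hℓ, rfl⟩, hQeq⟩ := hmem
  have hℓ' : ℓ ∈ degreeLT k 1 := hℓ
  obtain ⟨c, hℓC⟩ : ∃ c : k, ℓ = C c := by
    refine ⟨ℓ.coeff 0, eq_C_of_degree_le_zero ?_⟩
    rw [mem_degreeLT] at hℓ'
    have h1 : (ℓ.degree : WithBot ℕ) < ((1 : ℕ) : WithBot ℕ) := hℓ'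
    by_cases hℓ0 : ℓ = 0
    · rw [hℓ0, degree_zero]; exact bot_le
    · rw [degree_eq_natDegree hℓ0] at h1 ⊢
      have h2 : ℓ.natDegree < 1 := by exact_mod_cast h1
      have h3 : ℓ.natDegree = 0 := by omega
      rw [h3]; rfl
  subst hℓC
  have hc : c ≠ 0 := by
    intro h0
    apply hh0
    rw [← hQeq, h0]
    simp
  have hfin : pdPhi r a s ((X - C q) ^ (M + 1)) = c⁻¹ • h := by
    rw [← hQeq, LinearMap.mulLeft_apply, mul_comm, ← smul_eq_C_mul, map_smul, smul_smul,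
      inv_mul_cancel₀ hc, one_smul]
  rw [hfin]
  exact Submodule.smul_mem _ _ hhV

omit [CharZero k] in
theorem pdPhi_X_sub_C_pow (s : Finset ι) (q : k) (n : ℕ) :
    pdPhi r a s ((X - C q) ^ (n + 1)) =
      (X - C q) ^ n * (C ((n : k) + 1) * pdR r s - pdS r a s * (X - C q)) := by
  rw [pdPhi_apply, derivative_X_sub_C_pow]
  simp only [Nat.add_sub_cancel]
  push_cast
  rw [pow_succ]
  simp only [map_add, map_natCast, map_one]
  ring

/-- Two distinct unmarked points `q ≠ q'` (both `≠ p`) cannot both have `Φ((X - q)^(M+1))`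
vanishing at the unmarked point `p`. -/
theorem pd_eq_of_eval_eq_zero (s : Finset ι) (p q q' : k) (hp : ∀ j ∈ s, p ≠ r j)
    (hqp : q ≠ p) (hqp' : q' ≠ p) (M : ℕ)
    (h1 : (pdPhi r a s ((X - C q) ^ (M + 1))).eval p = 0)
    (h2 : (pdPhi r a s ((X - C q') ^ (M + 1))).eval p = 0) : q = q' := by
  rw [pdPhi_X_sub_C_pow] at h1 h2
  simp only [eval_mul, eval_pow, eval_sub, eval_X, eval_C, eval_add, eval_one] at h1 h2
  have hR := pdR_eval_ne_zero r s p hp
  have hM1 : ((M : k) + 1) ≠ 0 := by exact_mod_cast Nat.succ_ne_zero M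
  have e1 : ((M : k) + 1) * (pdR r s).eval p - (pdS r a s).eval p * (p - q) = 0 :=
    (mul_eq_zero.mp h1).resolve_left (pow_ne_zero _ (sub_ne_zero.mpr hqp.symm))
  have e2 : ((M : k) + 1) * (pdR r s).eval p - (pdS r a s).eval p * (p - q') = 0 :=
    (mul_eq_zero.mp h2).resolve_left (pow_ne_zero _ (sub_ne_zero.mpr hqp'.symm))
  have e3 : (pdS r a s).eval p * (q - q') = 0 := by linear_combination e1 - e2
  rcases mul_eq_zero.mp e3 with h | h
  · exfalso
    rw [h, zero_mul, sub_zero] at e1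
    exact (mul_ne_zero hM1 hR) e1
  · exact sub_eq_zero.mp h

omit [CharZero k] in
/-- `Φ((X - q)^M (X - p))` does not vanish at the unmarked point `p ≠ q`. -/
theorem pd_eval_ne_zero (s : Finset ι) (p q : k) (hp : ∀ j ∈ s, p ≠ r j) (hqp : q ≠ p) (M : ℕ) :
    (pdPhi r a s ((X - C q) ^ M * (X - C p))).eval p ≠ 0 := by
  rw [pdPhi_mul, pdPhi_apply]
  simp only [eval_add, eval_mul, eval_sub, eval_X, eval_C, sub_self, mul_zero, zero_add,
    derivative_sub, derivative_X, derivative_C, sub_zero, mul_one, eval_pow]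
  exact mul_ne_zero (pow_ne_zero _ (sub_ne_zero.mpr hqp.symm)) (pdR_eval_ne_zero r s p hp)

end Unmarked2

end Groth.Agent.Lib.Helper88
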