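import Groth.Agent.Lib.Helper88.PolarDiff2

/-!
# Differentials with prescribed poles: vanishing orders at the marked points

Continuation of `PolarDiff2.lean`.
-/

set_option autoImplicit false

namespace Groth.Agent.Lib.Helper88

open Polynomial

section Marked

variable {k : Type*} [Field k] [CharZero k] {ι : Type*} [DecidableEq ι] (r : ι → k) (a : ι → ℕ)

omit [CharZero k] in
/-- `Φ` on a multiple of `(X - r i)^n` at a marked point. -/
theorem pdPhi_pow_mul_marked {s : Finset ι} {i : ι} (hi : i ∈ s) (n : ℕ) (u : k[X]) :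
    pdPhi r a s ((X - C (r i)) ^ n * u) = (X - C (r i)) ^ n *
      (C ((n : k) - (a i : k)) * pdR r (s.erase i) * u +
        (X - C (r i)) * pdPhi r a (s.erase i) u) := by
  rw [pdPhi_mul, derivative_X_sub_C_pow, pdPhi_erase r a hi u, pdR_erase r hi]
  rcases Nat.eq_zero_or_pos n with h0 | hpos
  · subst h0
    simp only [Nat.cast_zero, map_zero, zero_mul, mul_zero, pow_zero, one_mul, zero_sub, map_neg]
    ring
  · obtain ⟨n', rfl⟩ := Nat.exists_eq_succ_of_ne_zero hpos.ne'
    simp only [Nat.succ_sub_one, map_sub, map_natCast]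
    rw [pow_succ]
    ring

omit [CharZero k] in
theorem dvd_pdPhi_of_dvd_marked {s : Finset ι} {i : ι} (hi : i ∈ s) (n : ℕ) (Q : k[X])
    (h : (X - C (r i)) ^ n ∣ Q) : (X - C (r i)) ^ n ∣ pdPhi r a s Q := by
  obtain ⟨u, rfl⟩ := h
  rw [pdPhi_pow_mul_marked r a hi]
  exact Dvd.intro _ rfl

/-- At a marked point: if `(X - r i)^n` divides `Φ P` then it divides `P - c E` for some
constant `c`. -/
theorem exists_dvd_sub_of_dvd_pdPhi_marked {s : Finset ι} {i : ι} (hi : i ∈ s)
    (hr : ∀ j ∈ s, j ≠ i → r i ≠ r j) (n : ℕ) (P : k[X])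
    (h : (X - C (r i)) ^ n ∣ pdPhi r a s P) :
    ∃ c : k, (X - C (r i)) ^ n ∣ P - C c * pdE r a s := by
  have hr' : ∀ j ∈ s.erase i, r i ≠ r j := fun j hj =>
    hr j (Finset.mem_of_mem_erase hj) (Finset.ne_of_mem_erase hj)
  have hRi : (pdR r (s.erase i)).eval (r i) ≠ 0 := pdR_eval_ne_zero r _ _ hr'
  have hEi : (pdE r a (s.erase i)).eval (r i) ≠ 0 := pdE_eval_ne_zero r a _ _ hr'
  induction n with
  | zero => exact ⟨0, by simp⟩
  | succ n ih =>
    obtain ⟨c₀, u, hu⟩ := ih (dvd_trans (pow_dvd_pow _ (Nat.le_succ n)) h)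
    have hΦ : pdPhi r a s P = pdPhi r a s ((X - C (r i)) ^ n * u) := by
      rw [← hu, map_sub, pdPhi_C_mul_pdE, sub_zero]
    rw [hΦ, pdPhi_pow_mul_marked r a hi, pow_succ,
      mul_dvd_mul_iff_left (pow_ne_zero _ (X_sub_C_ne_zero (r i)))] at h
    have h1 : (X - C (r i)) ∣ C ((n : k) - (a i : k)) * pdR r (s.erase i) * u := by
      have h2 : (X - C (r i)) ∣ (X - C (r i)) * pdPhi r a (s.erase i) u := Dvd.intro _ rfl
      exact (dvd_add_left h2).mp h
    rw [dvd_iff_isRoot, IsRoot.def, eval_mul, eval_mul, eval_C] at h1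
    by_cases hna : n = a i
    · -- adjust the constant
      set c' := u.eval (r i) / (pdE r a (s.erase i)).eval (r i) with hc'
      refine ⟨c₀ + c', ?_⟩
      have h3 : (u - C c' * pdE r a (s.erase i)).eval (r i) = 0 := by
        rw [eval_sub, eval_mul, eval_C, hc', div_mul_cancel₀ _ hEi, sub_self]
      obtain ⟨v, hv⟩ := dvd_iff_isRoot.mpr h3
      refine ⟨v, ?_⟩
      have h4 : P - C (c₀ + c') * pdE r a s =
          (P - C c₀ * pdE r a s) - C c' * pdE r a s := by rw [C_add]; ring
      rw [h4, hu, pdE_erase r a hi, ← hna, pow_succ]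
      have h5 : u = (X - C (r i)) * v + C c' * pdE r a (s.erase i) := by rw [← hv]; ring
      rw [h5]
      ring
    · have hne : ((n : k) - (a i : k)) ≠ 0 := by
        rw [sub_ne_zero]
        exact_mod_cast hna
      have h3 : u.eval (r i) = 0 := by
        rcases mul_eq_zero.mp h1 with h5 | h5
        · rcases mul_eq_zero.mp h5 with h6 | h6
          · exact absurd h6 hne
          · exact absurd h6 hRi
        · exact h5
      obtain ⟨v, hv⟩ := dvd_iff_isRoot.mpr h3
      refine ⟨c₀, v, ?_⟩
      rw [hu, hv, pow_succ]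
      ring

omit [CharZero k] in
theorem finrank_map_mulLeft_degreeLT (f : k[X]) (hf : f ≠ 0) (e : ℕ) :
    Module.finrank k ((degreeLT k e).map (LinearMap.mulLeft k f)) = e := by
  have hinj : Function.Injective (LinearMap.mulLeft k f) := by
    intro x y hxy
    exact mul_left_cancel₀ hf hxy
  rw [← (Submodule.equivMapOfInjective _ hinj (degreeLT k e)).finrank_eq, finrank_degreeLT]

/-- The members of `Φ(k[X]_{<T})` divisible by `(X - r i)^n` at a marked point. -/
theorem pd_inf_span_pow_marked_eq {s : Finset ι} {i : ι} (hi : i ∈ s)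
    (hr : ∀ j ∈ s, j ≠ i → r i ≠ r j) (T n : ℕ) (hT : ∑ j ∈ s, a j < T) :
    (degreeLT k T).map (pdPhi r a s) ⊓ (Ideal.span {(X - C (r i)) ^ n}).restrictScalars k =
      ((degreeLT k (T - n)).map (LinearMap.mulLeft k ((X - C (r i)) ^ n))).map (pdPhi r a s) := by
  apply le_antisymm
  · rintro h ⟨⟨P, hP, rfl⟩, hdvd⟩
    rw [SetLike.mem_coe, Submodule.restrictScalars_mem, Ideal.mem_span_singleton] at hdvd
    obtain ⟨c, u, hu⟩ := exists_dvd_sub_of_dvd_pdPhi_marked r a hi hr n P hdvd
    refine ⟨_, ⟨u, ?_, rfl⟩, ?_⟩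
    · have h1 : P - C c * pdE r a s ∈ degreeLT k T := by
        refine Submodule.sub_mem _ hP ?_
        rw [← smul_eq_C_mul]
        exact Submodule.smul_mem _ _ (pdE_mem_degreeLT r a s hT)
      rw [hu] at h1
      have h2 : (X - C (r i)) ^ n * u ∈ degreeLT k (n + (T - n)) :=
        degreeLT_mono (by omega) h1
      exact mem_degreeLT_of_mul_mem ((monic_X_sub_C (r i)).pow n)
        (by rw [(monic_X_sub_C (r i)).natDegree_pow, natDegree_X_sub_C, mul_one]) h2
    · rw [LinearMap.mulLeft_apply, ← hu, map_sub, pdPhi_C_mul_pdE, sub_zero]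
  · rintro _ ⟨_, ⟨u, hu, rfl⟩, rfl⟩
    rw [LinearMap.mulLeft_apply]
    refine ⟨⟨_, ?_, rfl⟩, ?_⟩
    · by_cases hnT : n ≤ T
      · have := mul_mem_degreeLT (p := (X - C (r i)) ^ n) (m := n)
          (by rw [(monic_X_sub_C (r i)).natDegree_pow, natDegree_X_sub_C, mul_one]) hu
        exact degreeLT_mono (by omega) this
      · have h0 : T - n = 0 := by omega
        rw [h0] at hu
        have hu' : u ∈ degreeLT k 0 := hu
        have hu0 : u = 0 := by
          rw [mem_degreeLT_iff_natDegree] at hu'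
          rcases hu' with hu' | hu'
          · exact hu'
          · omega
        rw [hu0, mul_zero]
        exact Submodule.zero_mem _
    · rw [SetLike.mem_coe, Submodule.restrictScalars_mem, Ideal.mem_span_singleton]
      exact dvd_pdPhi_of_dvd_marked r a hi n _ (Dvd.intro _ rfl)

omit [CharZero k] in
/-- `E` is a multiple of `(X - r i)^n` of the right degree iff `n ≤ a i`. -/
theorem pdE_mem_map_mulLeft_iff {s : Finset ι} {i : ι} (hi : i ∈ s)
    (hr : ∀ j ∈ s, j ≠ i → r i ≠ r j) (T n : ℕ) (hT : ∑ j ∈ s, a j < T) :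
    pdE r a s ∈ (degreeLT k (T - n)).map (LinearMap.mulLeft k ((X - C (r i)) ^ n)) ↔
      n ≤ a i := by
  have hr' : ∀ j ∈ s.erase i, r i ≠ r j := fun j hj =>
    hr j (Finset.mem_of_mem_erase hj) (Finset.ne_of_mem_erase hj)
  have hEi : (pdE r a (s.erase i)).eval (r i) ≠ 0 := pdE_eval_ne_zero r a _ _ hr'
  have hai : a i ≤ ∑ j ∈ s, a j := Finset.single_le_sum (fun _ _ => Nat.zero_le _) hi
  constructor
  · rintro ⟨u, _, hu⟩
    rw [LinearMap.mulLeft_apply, pdE_erase r a hi] at hu
    by_contra hcon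
    push Not at hcon
    obtain ⟨e, he⟩ : ∃ e, n = a i + 1 + e := ⟨n - (a i + 1), by omega⟩
    rw [he, pow_add, pow_succ, mul_assoc, mul_assoc,
      mul_right_inj' (pow_ne_zero _ (X_sub_C_ne_zero (r i)))] at hu
    apply hEi
    rw [← hu]
    simp
  · intro hn
    obtain ⟨e, he⟩ : ∃ e, a i = n + e := ⟨a i - n, by omega⟩
    refine ⟨(X - C (r i)) ^ e * pdE r a (s.erase i), ?_, ?_⟩
    · have h1 : pdE r a s ∈ degreeLT k (n + (T - n)) :=
        degreeLT_mono (by omega) (pdE_mem_degreeLT r a s hT)
      rw [pdE_erase r a hi, he, pow_add, mul_assoc] at h1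
      exact mem_degreeLT_of_mul_mem ((monic_X_sub_C (r i)).pow n)
        (by rw [(monic_X_sub_C (r i)).natDegree_pow, natDegree_X_sub_C, mul_one]) h1
    · rw [LinearMap.mulLeft_apply, pdE_erase r a hi, he, pow_add, mul_assoc]

/-- The dimension of the space of members of `Φ(k[X]_{<T})` vanishing to order `n` at a marked
point. -/
theorem finrank_pd_inf_span_pow_marked {s : Finset ι} {i : ι} (hi : i ∈ s)
    (hr : ∀ j ∈ s, j ≠ i → r i ≠ r j) (T n : ℕ) (hT : ∑ j ∈ s, a j < T) :
    Module.finrank k ↥((degreeLT k T).map (pdPhi r a s) ⊓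
      (Ideal.span {(X - C (r i)) ^ n}).restrictScalars k) =
      if n ≤ a i then T - 1 - n else T - n := by
  rw [pd_inf_span_pow_marked_eq r a hi hr T n hT]
  have hai : a i ≤ ∑ j ∈ s, a j := Finset.single_le_sum (fun _ _ => Nat.zero_le _) hi
  have hfr := finrank_map_mulLeft_degreeLT ((X - C (r i)) ^ n)
    (pow_ne_zero _ (X_sub_C_ne_zero (r i))) (T - n)
  split_ifs with hn
  · have h1 := finrank_map_pdPhi_of_mem r a s _
      ((pdE_mem_map_mulLeft_iff r a hi hr T n hT).mpr hn)
    rw [hfr] at h1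
    omega
  · have h1 := finrank_map_pdPhi_of_notMem r a s _
      (fun hmem => hn ((pdE_mem_map_mulLeft_iff r a hi hr T n hT).mp hmem))
    rw [hfr] at h1
    exact h1

end Marked

section Infinity

variable {k : Type*} [Field k] [CharZero k] {ι : Type*} [DecidableEq ι] (r : ι → k) (a : ι → ℕ)

omit [CharZero k] [DecidableEq ι] in
theorem pdR_monic (s : Finset ι) : (pdR r s).Monic :=
  monic_prod_of_monic _ _ fun _ _ => monic_X_sub_C _

omit [CharZero k] [DecidableEq ι] in
theorem natDegree_pdR (s : Finset ι) : (pdR r s).natDegree = s.card := by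
  unfold pdR
  rw [natDegree_prod_of_monic _ _ (fun j _ => monic_X_sub_C _)]
  simp

omit [CharZero k] in
theorem natDegree_pdS_le (s : Finset ι) : (pdS r a s).natDegree ≤ s.card - 1 := by
  unfold pdS
  refine natDegree_sum_le_of_forall_le _ _ fun j hj => ?_
  refine le_trans (natDegree_C_mul_le _ _) ?_
  have := natDegree_pdR r (s.erase j)
  unfold pdR at this
  rw [this, Finset.card_erase_of_mem hj]

omit [CharZero k] in
theorem coeff_pdS (s : Finset ι) :
    (pdS r a s).coeff (s.card - 1) = ((∑ j ∈ s, a j : ℕ) : k) := by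
  unfold pdS
  rw [finsetSum_coeff]
  push_cast
  refine Finset.sum_congr rfl fun j hj => ?_
  rw [coeff_C_mul]
  have h1 := natDegree_pdR r (s.erase j)
  have h2 := (pdR_monic r (s.erase j)).coeff_natDegree
  rw [h1, Finset.card_erase_of_mem hj] at h2
  unfold pdR at h2
  rw [h2, mul_one]

omit [CharZero k] in
theorem natDegree_le_of_mem_degreeLT {P : k[X]} {e : ℕ} (hP : P ∈ degreeLT k (e + 1)) :
    P.natDegree ≤ e := by
  rw [mem_degreeLT_iff_natDegree] at hP
  rcases hP with hP | hP
  · rw [hP, natDegree_zero]; exact Nat.zero_le _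
  · omega

omit [CharZero k] in
/-- The top coefficient of `Φ P`. -/
theorem coeff_pdPhi (s : Finset ι) (e : ℕ) (P : k[X]) (hP : P ∈ degreeLT k (e + 1)) :
    (pdPhi r a s P).coeff (e + s.card - 1) =
      ((e : k) - ((∑ j ∈ s, a j : ℕ) : k)) * P.coeff e := by
  rw [pdPhi_apply, coeff_sub]
  have hR : (pdR r s * derivative P).coeff (e + s.card - 1) = (e : k) * P.coeff e := by
    rcases Nat.eq_zero_or_pos e with h0 | hpos
    · subst h0
      have h1 : derivative P ∈ degreeLT k 0 := derivative_mem_degreeLT hP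
      have h2 : derivative P = 0 := by
        rw [mem_degreeLT_iff_natDegree] at h1
        rcases h1 with h1 | h1
        · exact h1
        · omega
      rw [h2, mul_zero, coeff_zero, Nat.cast_zero, zero_mul]
    · obtain ⟨e', rfl⟩ := Nat.exists_eq_succ_of_ne_zero hpos.ne'
      have h1 : derivative P ∈ degreeLT k (e' + 1) := derivative_mem_degreeLT hP
      have h2 : e' + 1 + s.card - 1 = s.card + e' := by omega
      rw [h2, coeff_mul_add_eq_of_natDegree_le (natDegree_pdR r s).le
        (natDegree_le_of_mem_degreeLT h1), coeff_derivative]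
      have h3 := (pdR_monic r s).coeff_natDegree
      rw [natDegree_pdR] at h3
      rw [h3]
      push_cast
      ring
  have hS : (pdS r a s * P).coeff (e + s.card - 1) = ((∑ j ∈ s, a j : ℕ) : k) * P.coeff e := by
    rcases Nat.eq_zero_or_pos s.card with h0 | hpos
    · have hs : s = ∅ := Finset.card_eq_zero.mp h0
      subst hs
      simp [pdS]
    · obtain ⟨c', hc'⟩ := Nat.exists_eq_succ_of_ne_zero hpos.ne'
      have h2 : e + s.card - 1 = (s.card - 1) + e := by omega
      rw [h2, coeff_mul_add_eq_of_natDegree_le (natDegree_pdS_le r a s)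
        (natDegree_le_of_mem_degreeLT hP), coeff_pdS]
  rw [hR, hS]
  ring

omit [CharZero k] in
/-- `Φ` raises the degree by at most `|s| - 1`. -/
theorem pdPhi_mem_degreeLT (s : Finset ι) (t : ℕ) (P : k[X]) (hP : P ∈ degreeLT k t) :
    pdPhi r a s P ∈ degreeLT k (t + s.card - 1) := by
  rcases Nat.eq_zero_or_pos t with h0 | hpos
  · subst h0
    have h2 : P = 0 := by
      rw [mem_degreeLT_iff_natDegree] at hP
      rcases hP with h1 | h1
      · exact h1
      · omega
    rw [h2, map_zero]
    exact Submodule.zero_mem _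
  · obtain ⟨t', rfl⟩ := Nat.exists_eq_succ_of_ne_zero hpos.ne'
    rw [pdPhi_apply]
    have h2 : t' + 1 + s.card - 1 = s.card + t' := by omega
    rw [h2]
    refine Submodule.sub_mem _ ?_ ?_
    · exact mul_mem_degreeLT (natDegree_pdR r s).le (derivative_mem_degreeLT hP)
    · rcases Nat.eq_zero_or_pos s.card with h0 | hpos'
      · have hs : s = ∅ := Finset.card_eq_zero.mp h0
        subst hs
        simp [pdS]
      · have := mul_mem_degreeLT (natDegree_pdS_le r a s) hP
        exact degreeLT_mono (by omega) this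

/-- If `Φ P` has small degree then `P`, up to a multiple of `E`, has small degree. -/
theorem exists_sub_mem_degreeLT_of_pdPhi_mem (s : Finset ι) (T : ℕ) :
    ∀ P ∈ degreeLT k T, ∀ t ≤ T, pdPhi r a s P ∈ degreeLT k (t + s.card - 1) →
      ∃ c : k, P - C c * pdE r a s ∈ degreeLT k t := by
  induction T with
  | zero =>
    intro P hP t ht _
    have : t = 0 := by omega
    subst this
    exact ⟨0, by simpa using hP⟩
  | succ T ih =>
    intro P hP t ht hΦ
    rcases Nat.eq_or_lt_of_le ht with h | h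
    · subst h
      exact ⟨0, by simpa using hP⟩
    · have htT : t ≤ T := by omega
      have hcoeff := coeff_pdPhi r a s T P hP
      have h0 : (pdPhi r a s P).coeff (T + s.card - 1) = 0 :=
        coeff_eq_zero_of_mem_degreeLT hΦ (by omega)
      rw [h0] at hcoeff
      by_cases hTA : T = ∑ j ∈ s, a j
      · -- subtract the top coefficient times `E`
        set P₁ := P - C (P.coeff T) * pdE r a s with hP₁
        have hE1 : pdE r a s ∈ degreeLT k (T + 1) := pdE_mem_degreeLT r a s (by omega)
        have hP₁mem : P₁ ∈ degreeLT k T := by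
          have h3 : P₁ ∈ degreeLT k (T + 1) := by
            refine Submodule.sub_mem _ hP ?_
            rw [← smul_eq_C_mul]
            exact Submodule.smul_mem _ _ hE1
          rw [mem_degreeLT, degree_lt_iff_coeff_zero] at h3 ⊢
          intro j hj
          rcases Nat.eq_or_lt_of_le hj with h4 | h4
          · have h5 := (pdE_monic r a s).coeff_natDegree
            rw [natDegree_pdE, ← hTA] at h5
            rw [← h4, hP₁, coeff_sub, coeff_C_mul, h5, mul_one, sub_self]
          · exact h3 j (by omega)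
        have hΦ₁ : pdPhi r a s P₁ = pdPhi r a s P := by
          rw [hP₁, map_sub, pdPhi_C_mul_pdE, sub_zero]
        obtain ⟨c₁, hc₁⟩ := ih P₁ hP₁mem t htT (by rw [hΦ₁]; exact hΦ)
        refine ⟨c₁ + P.coeff T, ?_⟩
        have : P - C (c₁ + P.coeff T) * pdE r a s = P₁ - C c₁ * pdE r a s := by
          rw [hP₁, C_add]; ring
        rw [this]
        exact hc₁
      · have hne : ((T : k) - ((∑ j ∈ s, a j : ℕ) : k)) ≠ 0 := by
          rw [sub_ne_zero]
          exact_mod_cast hTA
        have hPT : P.coeff T = 0 := by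
          rcases mul_eq_zero.mp hcoeff.symm with h5 | h5
          · exact absurd h5 hne
          · exact h5
        have hPmem : P ∈ degreeLT k T := by
          rw [mem_degreeLT, degree_lt_iff_coeff_zero] at hP ⊢
          intro j hj
          rcases Nat.eq_or_lt_of_le hj with h4 | h4
          · rw [← h4]; exact hPT
          · exact hP j (by omega)
        exact ih P hPmem t htT hΦ

/-- The members of `Φ(k[X]_{<T})` of small degree. -/
theorem pd_inf_degreeLT_eq (s : Finset ι) (T t : ℕ) (ht : t ≤ T) :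
    (degreeLT k T).map (pdPhi r a s) ⊓ degreeLT k (t + s.card - 1) =
      (degreeLT k t).map (pdPhi r a s) := by
  apply le_antisymm
  · rintro h ⟨⟨P, hP, rfl⟩, hdeg⟩
    obtain ⟨c, hc⟩ := exists_sub_mem_degreeLT_of_pdPhi_mem r a s T P hP t ht hdeg
    exact ⟨_, hc, by rw [map_sub, pdPhi_C_mul_pdE, sub_zero]⟩
  · refine le_inf (Submodule.map_mono (degreeLT_mono ht)) ?_
    rintro _ ⟨P, hP, rfl⟩
    exact pdPhi_mem_degreeLT r a s t P hP

theorem finrank_pd_inf_degreeLT (s : Finset ι) (T t : ℕ) (ht : t ≤ T) :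
    Module.finrank k ↥((degreeLT k T).map (pdPhi r a s) ⊓ degreeLT k (t + s.card - 1)) =
      if ∑ j ∈ s, a j < t then t - 1 else t := by
  rw [pd_inf_degreeLT_eq r a s T t ht]
  split_ifs with h
  · have := finrank_map_pdPhi_degreeLT r a s t h
    omega
  · exact finrank_map_pdPhi_degreeLT' r a s t (by omega)

end Infinity

end Groth.Agent.Lib.Helper88
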