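import Groth.Agent.Lib.Helper88.PolarDiff3

/-!
# Differentials with prescribed poles: weights of hyperplanes at the marked points

Continuation of `PolarDiff3.lean`.
-/

set_option autoImplicit false

namespace Groth.Agent.Lib.Helper88

open Polynomial

section Combinatorics

theorem sum_range_ite_reflected (c K : ℕ) :
    ∑ j ∈ Finset.range K, (if c ≤ j then j else j + 1) = K.choose 2 + min c K := by
  induction K with
  | zero => simp
  | succ K ih =>
    rw [Finset.sum_range_succ, ih]
    have h2 : (K + 1).choose 2 = K + K.choose 2 := by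
      rw [Nat.choose_succ_succ' K 1, Nat.choose_one_right]
    rw [h2]
    split_ifs with h
    · rw [min_eq_left h, min_eq_left (by omega)]; omega
    · rw [min_eq_right (by omega), min_eq_right (by omega)]; omega

/-- The sum of the vanishing orders `0, …, K` with `α` omitted, minus `0 + ⋯ + (K-1)`. -/
theorem sum_range_ite (K α : ℕ) :
    ∑ n ∈ Finset.range K, (if n + 1 ≤ α then K - 1 - n else K - n) = K.choose 2 + (K - α) := by
  have h1 := sum_range_ite_reflected (K - α) K
  rw [← Finset.sum_range_reflect] at h1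
  have h2 : min (K - α) K = K - α := min_eq_left (Nat.sub_le _ _)
  rw [h2] at h1
  rw [← h1]
  refine Finset.sum_congr rfl fun n hn => ?_
  have hn' := Finset.mem_range.mp hn
  by_cases h : n + 1 ≤ α
  · rw [if_pos h, if_pos (by omega)]
  · rw [if_neg h, if_neg (by omega)]; omega

theorem sum_range_split (φ : ℕ → ℕ) (N d : ℕ) (hN : 1 ≤ N) (hd : N ≤ d + 1)
    (hφ : ∀ n, N ≤ n → φ n = 0) :
    ∑ n ∈ Finset.range d, φ n =
      ∑ n ∈ Finset.range (N - 1), φ n + (if N ≤ d then φ (N - 1) else 0) := by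
  have hd' : N - 1 ≤ d := by omega
  induction d, hd' using Nat.le_induction with
  | base =>
    rw [if_neg (by omega), add_zero]
  | succ d hd1 ih =>
    rw [Finset.sum_range_succ]
    by_cases hdN : N ≤ d
    · rw [ih (by omega), if_pos hdN, if_pos (by omega), hφ d hdN, add_zero]
    · have hdeq : d = N - 1 := by omega
      rw [ih (by omega), if_neg hdN, if_pos (by omega), add_zero, hdeq]

end Combinatorics

section Abstract

variable {K : Type*} [Field K] {E : Type*} [AddCommGroup E] [Module K E]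

/-- A subspace not contained in a hyperplane meets it in a hyperplane of itself. -/
theorem finrank_inf_add_one_of_not_le (V V₁ X : Submodule K E) [FiniteDimensional K V]
    (hV₁ : V₁ ≤ V) (hfin : Module.finrank K V₁ + 1 = Module.finrank K V) (hX : X ≤ V)
    (hnot : ¬ X ≤ V₁) : Module.finrank K ↥(V₁ ⊓ X) + 1 = Module.finrank K X := by
  have hfV₁ : FiniteDimensional K V₁ := Submodule.finiteDimensional_of_le hV₁
  have hfX : FiniteDimensional K X := Submodule.finiteDimensional_of_le hX
  have h := Submodule.finrank_sup_add_finrank_inf_eq V₁ X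
  have hle : V₁ ⊔ X ≤ V := sup_le hV₁ hX
  have hfsup : FiniteDimensional K ↥(V₁ ⊔ X) := Submodule.finiteDimensional_of_le hle
  have hlt : V₁ < V₁ ⊔ X := by
    refine lt_of_le_of_ne le_sup_left ?_
    intro heq
    apply hnot
    rw [heq]
    exact le_sup_right
  have h1 := Submodule.finrank_lt_finrank_of_lt hlt
  have h2 := Submodule.finrank_mono hle
  omega

/-- The weight of a hyperplane `V₁ ⊆ V` along a filtration `F` for which `V` has vanishing
sequence `0, …, N` with `α` omitted, when `V₁` misses none of the orders `< N - 1`. -/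
theorem weight_sum_hyperplane (V V₁ : Submodule K E) [FiniteDimensional K V]
    (F : ℕ → Submodule K E) (N α d : ℕ) (hV₁ : V₁ ≤ V) (hfinV : Module.finrank K V = N)
    (hfin : Module.finrank K V₁ + 1 = N) (hα : α ≤ N) (hd : N ≤ d + 1)
    (hg : ∀ n, Module.finrank K ↥(V ⊓ F n) = if n ≤ α then N - n else N + 1 - n)
    (hnot : ∀ n, n < N → ¬ (V ⊓ F n ≤ V₁)) :
    ∃ ε : ℕ, ε ≤ 1 ∧
      (∑ n ∈ Finset.range d, Module.finrank K ↥(V₁ ⊓ F (n + 1))) + 1 =
        (N - 1).choose 2 + (N - α) + ε := by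
  have hN : 1 ≤ N := by omega
  have hle : ∀ n, Module.finrank K ↥(V₁ ⊓ F n) ≤ Module.finrank K ↥(V ⊓ F n) := fun n =>
    Submodule.finrank_mono (inf_le_inf_right _ hV₁)
  have heq : ∀ n, n < N → Module.finrank K ↥(V₁ ⊓ F n) + 1 = Module.finrank K ↥(V ⊓ F n) := by
    intro n hn
    have h1 := finrank_inf_add_one_of_not_le V V₁ (V ⊓ F n) hV₁ (by omega) inf_le_left
      (hnot n hn)
    have h2 : V₁ ⊓ (V ⊓ F n) = V₁ ⊓ F n := by
      rw [← inf_assoc, inf_eq_left.mpr hV₁]
    rw [h2] at h1
    exact h1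
  have hzero : ∀ n, N ≤ n → Module.finrank K ↥(V₁ ⊓ F (n + 1)) = 0 := by
    intro n hn
    have h1 := hle (n + 1)
    rw [hg (n + 1), if_neg (by omega)] at h1
    omega
  rw [sum_range_split (fun n => Module.finrank K ↥(V₁ ⊓ F (n + 1))) N d hN hd hzero]
  have hsum : ∑ n ∈ Finset.range (N - 1), Module.finrank K ↥(V₁ ⊓ F (n + 1)) =
      (N - 1).choose 2 + (N - 1 - α) := by
    rw [← sum_range_ite (N - 1) α]
    refine Finset.sum_congr rfl fun n hn => ?_
    have hn' := Finset.mem_range.mp hn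
    have h1 := heq (n + 1) (by omega)
    rw [hg (n + 1)] at h1
    split_ifs with h
    · rw [if_pos h] at h1; omega
    · rw [if_neg h] at h1; omega
  rw [hsum]
  have hN1 : N - 1 + 1 = N := by omega
  have hlast := hle N
  rw [hg N] at hlast
  by_cases hαN : α = N
  · refine ⟨1, le_refl _, ?_⟩
    rw [if_pos (by omega)] at hlast
    have h0 : Module.finrank K ↥(V₁ ⊓ F (N - 1 + 1)) = 0 := by rw [hN1]; omega
    split_ifs
    · rw [h0]; omega
    · omega
  · rw [if_neg (by omega)] at hlast
    by_cases hNd : N ≤ d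
    · refine ⟨Module.finrank K ↥(V₁ ⊓ F N), by omega, ?_⟩
      rw [if_pos hNd, hN1]
      omega
    · refine ⟨0, by omega, ?_⟩
      rw [if_neg hNd]
      omega

end Abstract

section Weights

variable {k : Type*} [Field k] [CharZero k] {ι : Type*} [DecidableEq ι] (r : ι → k) (a : ι → ℕ)

omit [CharZero k] [DecidableEq ι] in
theorem map_degreeLT_zero (f : k[X] →ₗ[k] k[X]) : (degreeLT k 0).map f = ⊥ := by
  rw [eq_bot_iff]
  rintro _ ⟨P, hP, rfl⟩
  have hP' : P ∈ degreeLT k 0 := hP
  have hP0 : P = 0 := by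
    rw [mem_degreeLT_iff_natDegree] at hP'
    rcases hP' with hP' | hP'
    · exact hP'
    · omega
  rw [hP0, map_zero]
  exact Submodule.zero_mem _

/-- The dimensions of the spaces of members of `Φ(k[X]_{≤N})` vanishing to order `n` at `∞`. -/
theorem finrank_pd_inf_degreeLT_all (s : Finset ι) (N : ℕ) (hA : ∑ j ∈ s, a j ≤ N) (n : ℕ) :
    Module.finrank k ↥((degreeLT k (N + 1)).map (pdPhi r a s) ⊓ degreeLT k (N + s.card - n)) =
      if n ≤ N - ∑ j ∈ s, a j then N - n else N + 1 - n := by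
  by_cases hn : n ≤ N
  · have e : N + s.card - n = (N + 1 - n) + s.card - 1 := by omega
    rw [e, finrank_pd_inf_degreeLT r a s (N + 1) (N + 1 - n) (by omega)]
    split_ifs <;> omega
  · have hle : (degreeLT k (N + 1)).map (pdPhi r a s) ⊓ degreeLT k (N + s.card - n) ≤
        (degreeLT k (N + 1)).map (pdPhi r a s) ⊓ degreeLT k (0 + s.card - 1) :=
      inf_le_inf_left _ (degreeLT_mono (by omega))
    rw [pd_inf_degreeLT_eq r a s (N + 1) 0 (by omega), map_degreeLT_zero, le_bot_iff] at hle
    rw [hle, finrank_bot]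
    split_ifs <;> omega

/-- Weight at a marked point `r i` of a hyperplane `V₁` of `V = Φ(k[X]_{≤N})` not containing
`V(-(N-1) r i)`. -/
theorem pd_weight_marked {s : Finset ι} {i : ι} (hi : i ∈ s)
    (hr : ∀ j ∈ s, j ≠ i → r i ≠ r j) (N d : ℕ) (hA : ∑ j ∈ s, a j < N) (hd : N ≤ d + 1)
    (V₁ : Submodule k k[X]) (hV₁ : V₁ ≤ (degreeLT k (N + 1)).map (pdPhi r a s))
    (hfin : Module.finrank k V₁ + 1 = N)
    (hnot : ∃ P : k[X], (X - C (r i)) ^ (N - 1) ∣ P ∧ P ∈ degreeLT k (N + 1) ∧
      pdPhi r a s P ∉ V₁) :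
    ∃ ε : ℕ, ε ≤ 1 ∧
      (∑ n ∈ Finset.range d, Module.finrank k
        ↥(V₁ ⊓ (Ideal.span {(X - C (r i)) ^ (n + 1)}).restrictScalars k)) + 1 =
        (N - 1).choose 2 + (N - a i) + ε := by
  have hai : a i ≤ ∑ j ∈ s, a j := Finset.single_le_sum (fun _ _ => Nat.zero_le _) hi
  have hfinV : Module.finrank k ↥((degreeLT k (N + 1)).map (pdPhi r a s)) = N := by
    have := finrank_map_pdPhi_degreeLT r a s (N + 1) (by omega)
    omega
  refine weight_sum_hyperplane ((degreeLT k (N + 1)).map (pdPhi r a s)) V₁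
    (fun n => (Ideal.span {(X - C (r i)) ^ n}).restrictScalars k) N (a i) d hV₁ hfinV hfin
    (by omega) hd ?_ ?_
  · intro n
    rw [finrank_pd_inf_span_pow_marked r a hi hr (N + 1) n (by omega)]
    simp
  · intro n hn hle
    obtain ⟨P, hPdvd, hPmem, hPnot⟩ := hnot
    apply hPnot
    apply hle
    refine ⟨⟨P, hPmem, rfl⟩, ?_⟩
    rw [SetLike.mem_coe, Submodule.restrictScalars_mem, Ideal.mem_span_singleton]
    exact dvd_pdPhi_of_dvd_marked r a hi n P
      (dvd_trans (pow_dvd_pow _ (by omega)) hPdvd)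

end Weights

end Groth.Agent.Lib.Helper88
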