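import Groth.Agent.Lib.Helper88.ProperOver

/-!
# Closed subsets proper over a base: images

Helper library for the `ClSub.IsProperOver` family (continuation of `ProperOver.lean`).
-/

set_option autoImplicit false
universe u

namespace Groth.Agent.Lib.Helper88

open CategoryTheory AlgebraicGeometry Limits

/-- Separatedness descends along a surjective universally closed morphism at the source. -/
theorem isSeparated_of_comp_surjective_universallyClosed {Z T S : Scheme.{u}} (j : Z ⟶ T)
    (g : T ⟶ S) [UniversallyClosed j] [Surjective j] [IsSeparated (j ≫ g)] : IsSeparated g := by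
  constructor
  apply IsClosedImmersion.of_isPreimmersion
  have hm : UniversallyClosed (pullback.map (j ≫ g) (j ≫ g) g g j j (𝟙 S)
      ((Category.comp_id _).trans rfl) ((Category.comp_id _).trans rfl)) :=
    MorphismProperty.pullbackMap (P := @UniversallyClosed) inferInstance inferInstance rfl rfl
  set m := pullback.map (j ≫ g) (j ≫ g) g g j j (𝟙 S)
      ((Category.comp_id _).trans rfl) ((Category.comp_id _).trans rfl) with hm'
  have hnat : pullback.diagonal (j ≫ g) ≫ m = j ≫ pullback.diagonal g := by
    apply pullback.hom_ext
    · simp only [hm', Category.assoc, pullback.map, pullback.lift_fst, pullback.diagonal_fst,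
        Category.comp_id]
      rw [← Category.assoc, pullback.diagonal_fst, Category.id_comp]
    · simp only [hm', Category.assoc, pullback.map, pullback.lift_snd, pullback.diagonal_snd,
        Category.comp_id]
      rw [← Category.assoc, pullback.diagonal_snd, Category.id_comp]
  have hrange : Set.range (pullback.diagonal g) = m '' Set.range (pullback.diagonal (j ≫ g)) := by
    have h1 : Set.range (pullback.diagonal g) = Set.range (j ≫ pullback.diagonal g) := by
      rw [Scheme.Hom.comp_base, TopCat.coe_comp, Set.range_comp,
        Set.range_eq_univ.mpr (Surjective.surj (f := j)), Set.image_univ]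
    rw [h1, ← hnat, Scheme.Hom.comp_base, TopCat.coe_comp, Set.range_comp]
  rw [hrange]
  exact m.isClosedMap _ (pullback.diagonal (j ≫ g)).isClosedEmbedding.isClosed_range

/-- The image of a proper `S`-scheme under a universally closed `S`-morphism into an `S`-scheme
locally of finite type is closed and proper over `S`. -/
theorem isProperOver_range {W Y S : Scheme.{u}} (p' : W ⟶ S) (q : Y ⟶ S) [IsProper p']
    [LocallyOfFiniteType q] (h : W ⟶ Y) [UniversallyClosed h] (w : h ≫ q = p') :
    ClSub.IsProperOver q (Set.range h) := by
  have hclosed : IsClosed (Set.range h) := h.isClosedMap.isClosed_range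
  have hr : Set.range h.imageι = Set.range h := by
    rw [Scheme.IdealSheafData.range_subschemeι, Scheme.Hom.support_ker, hclosed.closure_eq]
  have hsurj : Surjective h.toImage := by
    constructor
    intro t
    have ht : h.imageι t ∈ Set.range h := by rw [← hr]; exact ⟨t, rfl⟩
    obtain ⟨z, hz⟩ := ht
    refine ⟨z, ?_⟩
    apply h.imageι.isClosedEmbedding.injective
    rw [← hz, ← Scheme.Hom.comp_apply, Scheme.Hom.toImage_imageι]
  have hcomp : h.toImage ≫ (h.imageι ≫ q) = p' := by
    rw [← Category.assoc, Scheme.Hom.toImage_imageι, w]
  have hsep0 : IsSeparated (h.toImage ≫ (h.imageι ≫ q)) := by rw [hcomp]; infer_instance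
  have hsep : IsSeparated (h.imageι ≫ q) :=
    isSeparated_of_comp_surjective_universallyClosed h.toImage (h.imageι ≫ q)
  have huc0 : UniversallyClosed (h.toImage ≫ (h.imageι ≫ q)) := by rw [hcomp]; infer_instance
  have huc : UniversallyClosed (h.imageι ≫ q) :=
    UniversallyClosed.of_comp_surjective h.toImage (h.imageι ≫ q)
  have hprop : IsProper (h.imageι ≫ q) := { }
  exact (isProperOver_iff_of_isClosedImmersion q h.imageι _ hr).mpr hprop

end Groth.Agent.Lib.Helper88
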