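import Groth.Agent.Lib.Helper88.ProperOver2

/-!
# Closed subsets proper over a base: finite unions

Helper library for the `ClSub.IsProperOver` family (continuation of `ProperOver2.lean`).
-/

set_option autoImplicit false
universe u

namespace Groth.Agent.Lib.Helper88

open CategoryTheory AlgebraicGeometry Limits

/-- Universal closedness descends along a finite jointly surjective family at the source. -/
theorem universallyClosed_of_comp_jointly_surjective {ι : Type} [Finite ι] {V S : Scheme.{u}}
    (W : ι → Scheme.{u}) (c : ∀ i, W i ⟶ V) (g : V ⟶ S)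
    (hsurj : ∀ v : V, ∃ i, v ∈ Set.range (c i))
    (hc : ∀ i, UniversallyClosed (c i ≫ g)) : UniversallyClosed g := by
  constructor
  intro X' Y' i₁ i₂ f' H
  have hi : ∀ i, IsClosedMap (pullback.fst i₁ (c i) ≫ f') := fun i =>
    UniversallyClosed.universally_isClosedMap _ _ _
      ((IsPullback.of_hasPullback i₁ (c i)).paste_horiz H)
  intro C hC
  have hcover : ∀ x : X', ∃ i, x ∈ Set.range (pullback.fst i₁ (c i)) := by
    intro x
    obtain ⟨i, hi⟩ := hsurj (i₁ x)
    refine ⟨i, ?_⟩
    rw [Scheme.Pullback.range_fst]
    exact hi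
  have hEq : f' '' C = ⋃ i, (pullback.fst i₁ (c i) ≫ f') '' ((pullback.fst i₁ (c i)) ⁻¹' C) := by
    ext y
    simp only [Set.mem_image, Set.mem_iUnion, Set.mem_preimage]
    constructor
    · rintro ⟨x, hxC, rfl⟩
      obtain ⟨i, z, hz⟩ := hcover x
      refine ⟨i, z, ?_, ?_⟩
      · rw [hz]; exact hxC
      · rw [Scheme.Hom.comp_apply, hz]
    · rintro ⟨i, z, hzC, rfl⟩
      exact ⟨_, hzC, (Scheme.Hom.comp_apply _ _ _).symm⟩
  rw [hEq]
  exact isClosed_iUnion_of_finite fun i => hi i _ (hC.preimage (Scheme.Hom.continuous _))

/-- Separatedness descends along a finite jointly surjective family of universally closed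
morphisms at the source. -/
theorem isSeparated_of_comp_jointly_surjective {ι : Type} [Finite ι] {V S : Scheme.{u}}
    (W : ι → Scheme.{u}) (c : ∀ i, W i ⟶ V) (g : V ⟶ S)
    (hsurj : ∀ v : V, ∃ i, v ∈ Set.range (c i))
    (huc : ∀ i, UniversallyClosed (c i))
    (hc : ∀ i, IsSeparated (c i ≫ g)) : IsSeparated g := by
  constructor
  apply IsClosedImmersion.of_isPreimmersion
  have hrange : Set.range (pullback.diagonal g) =
      ⋃ i, (pullback.map (c i ≫ g) (c i ≫ g) g g (c i) (c i) (𝟙 S)
        ((Category.comp_id _).trans rfl) ((Category.comp_id _).trans rfl)) ''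
        Set.range (pullback.diagonal (c i ≫ g)) := by
    have hnat : ∀ i, pullback.diagonal (c i ≫ g) ≫
        pullback.map (c i ≫ g) (c i ≫ g) g g (c i) (c i) (𝟙 S)
          ((Category.comp_id _).trans rfl) ((Category.comp_id _).trans rfl) =
        c i ≫ pullback.diagonal g := by
      intro i
      apply pullback.hom_ext
      · simp only [Category.assoc, pullback.map, pullback.lift_fst, pullback.diagonal_fst,
          Category.comp_id]
        rw [← Category.assoc, pullback.diagonal_fst, Category.id_comp]
      · simp only [Category.assoc, pullback.map, pullback.lift_snd, pullback.diagonal_snd,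
          Category.comp_id]
        rw [← Category.assoc, pullback.diagonal_snd, Category.id_comp]
    have h2 : ∀ i, (pullback.map (c i ≫ g) (c i ≫ g) g g (c i) (c i) (𝟙 S)
        ((Category.comp_id _).trans rfl) ((Category.comp_id _).trans rfl)) ''
        Set.range (pullback.diagonal (c i ≫ g)) = (pullback.diagonal g) '' Set.range (c i) := by
      intro i
      rw [← Set.range_comp, ← Set.range_comp, ← TopCat.coe_comp, ← TopCat.coe_comp,
        ← Scheme.Hom.comp_base, ← Scheme.Hom.comp_base, hnat i]
    simp_rw [h2]
    rw [← Set.image_iUnion]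
    have : (⋃ i, Set.range (c i)) = Set.univ := by
      rw [Set.eq_univ_iff_forall]
      intro v
      obtain ⟨i, hi⟩ := hsurj v
      exact Set.mem_iUnion.mpr ⟨i, hi⟩
    rw [this, Set.image_univ]
  rw [hrange]
  refine isClosed_iUnion_of_finite fun i => ?_
  have hm : UniversallyClosed (pullback.map (c i ≫ g) (c i ≫ g) g g (c i) (c i) (𝟙 S)
      ((Category.comp_id _).trans rfl) ((Category.comp_id _).trans rfl)) :=
    MorphismProperty.pullbackMap (P := @UniversallyClosed) (huc i) (huc i) rfl rfl
  exact Scheme.Hom.isClosedMap _ _ (pullback.diagonal (c i ≫ g)).isClosedEmbedding.isClosed_range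

/-- Properness descends along a finite jointly surjective family of universally closed morphisms
at the source, for a target morphism locally of finite type. -/
theorem isProper_of_comp_jointly_surjective {ι : Type} [Finite ι] {V S : Scheme.{u}}
    (W : ι → Scheme.{u}) (c : ∀ i, W i ⟶ V) (g : V ⟶ S) [LocallyOfFiniteType g]
    (hsurj : ∀ v : V, ∃ i, v ∈ Set.range (c i))
    (huc : ∀ i, UniversallyClosed (c i))
    (hc : ∀ i, IsProper (c i ≫ g)) : IsProper g := by
  have h1 : IsSeparated g :=
    isSeparated_of_comp_jointly_surjective W c g hsurj huc fun i => inferInstance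
  have h2 : UniversallyClosed g :=
    universallyClosed_of_comp_jointly_surjective W c g hsurj fun i => inferInstance
  exact { }

end Groth.Agent.Lib.Helper88
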