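import Mathlib

/-!
# Artinian local rings with `𝔪² = 0` are `B/𝔫²` for `B` regular local (helper88)

Main lemma `exists_regular_of_coeff`: given a local principal ideal domain `Λ` (a field or a
discrete valuation ring) and `φ : Λ →+* A` which is onto the residue field of `A` and has kernel
`𝔪_Λ²`, a Noetherian local ring `A` with `𝔪_A² = 0` is isomorphic to `B/𝔫_B²` where `B` is the
localization of a polynomial ring over `Λ` at a prime ideal, a regular local ring.
-/

set_option autoImplicit false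
set_option linter.unusedSectionVars false

universe u

namespace Groth.Agent.Lib.Helper88.SqZeroRegular

open IsLocalRing MvPolynomial

section Decomp

variable {Λ : Type u} [CommRing Λ] {s : ℕ}

/-- every polynomial is constant + linear + element of `(X)²`. -/
theorem exists_decomp (f : MvPolynomial (Fin s) Λ) :
    ∃ (c : Λ) (d : Fin s → Λ) (g : MvPolynomial (Fin s) Λ),
      g ∈ (Ideal.span (Set.range (X : Fin s → MvPolynomial (Fin s) Λ))) ^ 2 ∧
      f = C c + ∑ i, C (d i) * X i + g := by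
  classical
  have hX : ∀ i : Fin s, (X i : MvPolynomial (Fin s) Λ) ∈
      Ideal.span (Set.range (X : Fin s → MvPolynomial (Fin s) Λ)) :=
    fun i => Ideal.subset_span ⟨i, rfl⟩
  induction f using MvPolynomial.induction_on with
  | C a => exact ⟨a, 0, 0, Ideal.zero_mem _, by simp⟩
  | add p q hp hq =>
    obtain ⟨c, d, g, hg, rfl⟩ := hp
    obtain ⟨c', d', g', hg', rfl⟩ := hq
    refine ⟨c + c', d + d', g + g', Ideal.add_mem _ hg hg', ?_⟩
    simp only [map_add, Pi.add_apply, add_mul, Finset.sum_add_distrib]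
    ring
  | mul_X p j hp =>
    obtain ⟨c, d, g, hg, rfl⟩ := hp
    refine ⟨0, Pi.single j c, (∑ i, C (d i) * X i) * X j + g * X j, ?_, ?_⟩
    · refine Ideal.add_mem _ ?_ (Ideal.mul_mem_right _ _ hg)
      rw [Finset.sum_mul]
      refine Ideal.sum_mem _ fun i _ => ?_
      rw [mul_assoc, sq]
      exact Ideal.mul_mem_left _ _ (Ideal.mul_mem_mul (hX i) (hX j))
    · have h1 : ∑ i, C ((Pi.single j c : Fin s → Λ) i) * (X i : MvPolynomial (Fin s) Λ) = C c * X j := by
        rw [Finset.sum_eq_single j]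
        · rw [Pi.single_eq_same]
        · intro b _ hb
          rw [Pi.single_eq_of_ne hb, map_zero, zero_mul]
        · intro h
          exact absurd (Finset.mem_univ j) h
      rw [h1, map_zero, zero_add]
      ring

end Decomp

section Main

variable {A : Type u} [CommRing A] [IsLocalRing A] [IsNoetherianRing A]
  {Λ : Type u} [CommRing Λ] [IsDomain Λ] [IsLocalRing Λ] [IsPrincipalIdealRing Λ]

theorem exists_regular_of_coeff (h : maximalIdeal A ^ 2 = ⊥) (φ : Λ →+* A)
    (hres : ∀ a : A, ∃ l : Λ, a - φ l ∈ maximalIdeal A)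
    (hker : RingHom.ker φ = maximalIdeal Λ ^ 2) :
    ∃ (B : Type u) (_ : CommRing B) (_ : IsRegularLocalRing B),
      Nonempty (A ≃+* B ⧸ IsLocalRing.maximalIdeal B ^ 2) := by
  classical
  have hmm : ∀ a ∈ maximalIdeal A, ∀ b ∈ maximalIdeal A, a * b = 0 := by
    intro a ha b hb
    have : a * b ∈ maximalIdeal A ^ 2 := by
      rw [sq]
      exact Ideal.mul_mem_mul ha hb
    rw [h] at this
    exact this
  -- `φ` is local
  have hcomap : (maximalIdeal A).comap φ = maximalIdeal Λ := by
    have hprime : ((maximalIdeal A).comap φ).IsPrime := Ideal.comap_isPrime φ _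
    apply le_antisymm
    · exact IsLocalRing.le_maximalIdeal hprime.ne_top
    · have h1 : maximalIdeal Λ ^ 2 ≤ (maximalIdeal A).comap φ := by
        rw [← hker]
        intro x hx
        rw [Ideal.mem_comap, RingHom.mem_ker.mp hx]
        exact Ideal.zero_mem _
      exact hprime.le_of_pow_le h1
  have hφm : ∀ l : Λ, φ l ∈ maximalIdeal A ↔ l ∈ maximalIdeal Λ := by
    intro l
    rw [← hcomap, Ideal.mem_comap]
  set U : Ideal A := (maximalIdeal Λ).map φ with hU
  have hUm : U ≤ maximalIdeal A := by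
    rw [hU, Ideal.map_le_iff_le_comap, hcomap]
  -- minimal number of extra generators
  have hex : ∃ s : ℕ, ∃ x : Fin s → A, U ⊔ Ideal.span (Set.range x) = maximalIdeal A := by
    obtain ⟨n, x, hx⟩ := Submodule.fg_iff_exists_fin_generating_family.mp
      (IsNoetherian.noetherian (maximalIdeal A))
    refine ⟨n, x, ?_⟩
    change U ⊔ Submodule.span A (Set.range x) = maximalIdeal A
    rw [hx]
    exact sup_eq_right.mpr hUm
  obtain ⟨s, ⟨x, hx⟩, hmin⟩ : ∃ s : ℕ, (∃ x : Fin s → A,
      U ⊔ Ideal.span (Set.range x) = maximalIdeal A) ∧ ∀ t < s, ¬ ∃ x : Fin t → A,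
      U ⊔ Ideal.span (Set.range x) = maximalIdeal A :=
    ⟨Nat.find hex, Nat.find_spec hex, fun t ht => Nat.find_min hex ht⟩
  clear hex
  have hxm : ∀ i, x i ∈ maximalIdeal A := by
    intro i
    rw [← hx]
    exact Ideal.mem_sup_right (Ideal.subset_span ⟨i, rfl⟩)
  -- independence
  have hind : ∀ a : Fin s → A, ∑ i, a i * x i ∈ U → ∀ i, a i ∈ maximalIdeal A := by
    intro a ha j
    by_contra hj
    have hunit : IsUnit (a j) := by
      by_contra hnu
      exact hj ((IsLocalRing.mem_maximalIdeal _).mpr hnu)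
    obtain ⟨t, ht⟩ : ∃ t, s = t + 1 := by
      cases hst : s with
      | zero => exact (hst ▸ j).elim0
      | succ t => exact ⟨t, rfl⟩
    subst ht
    apply hmin t (Nat.lt_succ_self t)
    refine ⟨x ∘ j.succAbove, ?_⟩
    apply le_antisymm
    · refine sup_le hUm ?_
      rw [Ideal.span_le]
      rintro _ ⟨i, rfl⟩
      exact hxm _
    · rw [← hx]
      refine sup_le le_sup_left ?_
      rw [Ideal.span_le]
      rintro _ ⟨i, rfl⟩
      by_cases hij : i = j
      · subst hij
        rw [Fin.sum_univ_succAbove _ i] at ha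
        obtain ⟨v, hv⟩ := hunit
        have hxi : x i = (↑v⁻¹ : A) * (a i * x i + ∑ k, a (i.succAbove k) * x (i.succAbove k)) -
            (↑v⁻¹ : A) * ∑ k, a (i.succAbove k) * x (i.succAbove k) := by
          rw [← hv]
          have : (↑v⁻¹ : A) * ((v : A) * x i) = x i := by
            rw [← mul_assoc, Units.inv_mul, one_mul]
          linear_combination (-1 : A) * this
        change x i ∈ _
        rw [hxi]
        refine Ideal.sub_mem _ (Ideal.mul_mem_left _ _ (Ideal.mem_sup_left ha)) ?_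
        refine Ideal.mul_mem_left _ _ (Ideal.mem_sup_right ?_)
        refine Ideal.sum_mem _ fun k _ => Ideal.mul_mem_left _ _ (Ideal.subset_span ⟨k, rfl⟩)
      · obtain ⟨k, hk⟩ := Fin.exists_succAbove_eq hij
        exact Ideal.mem_sup_right (Ideal.subset_span ⟨k, by simp [hk]⟩)
  -- the evaluation map
  let ev : MvPolynomial (Fin s) Λ →+* A := eval₂Hom φ x
  have hevC : ∀ l, ev (C l) = φ l := fun l => eval₂Hom_C _ _ _
  have hevX : ∀ i, ev (X i) = x i := fun i => eval₂Hom_X' _ _ _
  set 𝔓 : Ideal (MvPolynomial (Fin s) Λ) := (maximalIdeal A).comap ev with h𝔓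
  have h𝔓prime : 𝔓.IsPrime := Ideal.comap_isPrime ev _
  -- `ev` is surjective
  have hmrange : ∀ a ∈ maximalIdeal A, a ∈ Set.range ev := by
    intro a ha
    rw [← hx] at ha
    have hgen : U ⊔ Ideal.span (Set.range x) =
        Ideal.span ((φ '' (maximalIdeal Λ : Set Λ)) ∪ Set.range x) := by
      change (maximalIdeal Λ).map φ ⊔ _ = _
      rw [Ideal.map, Ideal.span_union]
    rw [hgen] at ha
    refine Submodule.span_induction (p := fun a _ => a ∈ Set.range ev) ?_ ?_ ?_ ?_ ha
    · rintro y (⟨l, _, rfl⟩ | ⟨i, rfl⟩)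
      · exact ⟨C l, hevC l⟩
      · exact ⟨X i, hevX i⟩
    · exact ⟨0, map_zero _⟩
    · rintro y z _ _ ⟨y', rfl⟩ ⟨z', rfl⟩
      exact ⟨y' + z', map_add _ _ _⟩
    · rintro b y hy ⟨y', rfl⟩
      obtain ⟨l, hl⟩ := hres b
      have hym : ev y' ∈ maximalIdeal A := by
        have hle : Ideal.span ((φ '' (maximalIdeal Λ : Set Λ)) ∪ Set.range x) ≤ maximalIdeal A := by
          rw [← hgen, hx]
        exact hle hy
      refine ⟨C l * y', ?_⟩
      rw [map_mul, hevC, smul_eq_mul]
      have := hmm _ hl _ hym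
      linear_combination (-1 : A) * this
  have hsurj : Function.Surjective ev := by
    intro a
    obtain ⟨l, hl⟩ := hres a
    obtain ⟨y, hy⟩ := hmrange _ hl
    refine ⟨y + C l, ?_⟩
    rw [map_add, hy, hevC]
    ring
  -- kernel of `ev`
  have hC𝔓 : ∀ l ∈ maximalIdeal Λ, C l ∈ 𝔓 := by
    intro l hl
    rw [h𝔓, Ideal.mem_comap, hevC, hφm]
    exact hl
  have hX𝔓 : Ideal.span (Set.range (X : Fin s → MvPolynomial (Fin s) Λ)) ≤ 𝔓 := by
    rw [Ideal.span_le]
    rintro _ ⟨i, rfl⟩
    change ev (X i) ∈ maximalIdeal A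
    rw [hevX]
    exact hxm i
  have h𝔓sq : 𝔓 ^ 2 ≤ RingHom.ker ev := by
    intro f hf
    have h1 : f ∈ (maximalIdeal A ^ 2).comap ev := Ideal.le_comap_pow ev 2 hf
    rw [h, Ideal.mem_comap] at h1
    exact h1
  have hkerle : RingHom.ker ev ≤ 𝔓 ^ 2 := by
    intro f hf
    obtain ⟨c, d, g, hg, rfl⟩ := exists_decomp f
    have hg𝔓 : g ∈ 𝔓 ^ 2 := Ideal.pow_right_mono hX𝔓 2 hg
    have hevg : ev g = 0 := h𝔓sq hg𝔓
    rw [RingHom.mem_ker, map_add, map_add, hevg, add_zero, hevC, map_sum] at hf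
    simp only [map_mul, hevC, hevX] at hf
    have hsum_m : ∑ i, φ (d i) * x i ∈ maximalIdeal A :=
      Ideal.sum_mem _ fun i _ => Ideal.mul_mem_left _ _ (hxm i)
    have hφc : φ c ∈ maximalIdeal A := by
      have : φ c = -∑ i, φ (d i) * x i := by linear_combination hf
      rw [this]
      exact neg_mem hsum_m
    have hc : c ∈ maximalIdeal Λ := (hφm c).mp hφc
    have hsumU : ∑ i, φ (d i) * x i ∈ U := by
      have : ∑ i, φ (d i) * x i = -φ c := by linear_combination hf
      rw [this]
      exact neg_mem (Ideal.mem_map_of_mem φ hc)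
    have hd : ∀ i, d i ∈ maximalIdeal Λ := fun i => (hφm (d i)).mp (hind (fun i => φ (d i)) hsumU i)
    have hsum0 : ∑ i, φ (d i) * x i = 0 :=
      Finset.sum_eq_zero fun i _ => hmm _ ((hφm (d i)).mpr (hd i)) _ (hxm i)
    rw [hsum0, add_zero] at hf
    have hc2 : c ∈ maximalIdeal Λ ^ 2 := by
      rw [← hker]
      exact hf
    refine Ideal.add_mem _ (Ideal.add_mem _ ?_ ?_) hg𝔓
    · have hle : (maximalIdeal Λ).map (C : Λ →+* MvPolynomial (Fin s) Λ) ≤ 𝔓 := by
        rw [Ideal.map_le_iff_le_comap]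
        intro l hl
        exact hC𝔓 l hl
      have h2 : C c ∈ ((maximalIdeal Λ).map (C : Λ →+* MvPolynomial (Fin s) Λ)) ^ 2 := by
        rw [← Ideal.map_pow]
        exact Ideal.mem_map_of_mem _ hc2
      exact Ideal.pow_right_mono hle 2 h2
    · refine Ideal.sum_mem _ fun i _ => ?_
      rw [sq]
      exact Ideal.mul_mem_mul (hC𝔓 _ (hd i)) (hX𝔓 (Ideal.subset_span ⟨i, rfl⟩))
  -- the localization
  let B := Localization.AtPrime 𝔓
  have hunits : ∀ y : 𝔓.primeCompl, IsUnit (ev y) := by
    intro y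
    by_contra hnu
    exact y.2 ((IsLocalRing.mem_maximalIdeal _).mpr hnu)
  let ev' : B →+* A := IsLocalization.lift (M := 𝔓.primeCompl) (S := B) hunits
  have hev' : ∀ f, ev' (algebraMap (MvPolynomial (Fin s) Λ) B f) = ev f :=
    fun f => IsLocalization.lift_eq hunits f
  have hsurj' : Function.Surjective ev' := by
    intro a
    obtain ⟨f, rfl⟩ := hsurj a
    exact ⟨_, hev' f⟩
  have hmaxB : maximalIdeal B ^ 2 = (𝔓 ^ 2).map (algebraMap (MvPolynomial (Fin s) Λ) B) := by
    rw [Ideal.map_pow, Localization.AtPrime.map_eq_maximalIdeal]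
  have hker' : RingHom.ker ev' = maximalIdeal B ^ 2 := by
    apply le_antisymm
    · intro b hb
      obtain ⟨f, t, rfl⟩ := IsLocalization.exists_mk'_eq 𝔓.primeCompl b
      have h1 : IsLocalization.mk' B f t * algebraMap (MvPolynomial (Fin s) Λ) B t =
          algebraMap (MvPolynomial (Fin s) Λ) B f := IsLocalization.mk'_spec B f t
      have h2 := congrArg ev' h1
      rw [map_mul, RingHom.mem_ker.mp hb, zero_mul, hev'] at h2
      have hf : f ∈ 𝔓 ^ 2 := hkerle h2.symm
      rw [hmaxB, IsLocalization.mk'_eq_mul_mk'_one]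
      exact Ideal.mul_mem_right _ _ (Ideal.mem_map_of_mem _ hf)
    · rw [hmaxB, Ideal.map_le_iff_le_comap]
      intro f hf
      rw [Ideal.mem_comap, RingHom.mem_ker, hev']
      exact h𝔓sq hf
  have hreg : IsRegularLocalRing B := inferInstance
  exact ⟨B, inferInstance, hreg,
    ⟨(RingHom.quotientKerEquivOfSurjective hsurj').symm.trans (Ideal.quotEquivOfEq hker')⟩⟩

end Main

end Groth.Agent.Lib.Helper88.SqZeroRegular
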