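import Mathlib.NumberTheory.Bernoulli
import Mathlib.RingTheory.PowerSeries.Inverse
import Mathlib.RingTheory.PowerSeries.NoZeroDivisors
import Mathlib.RingTheory.PowerSeries.Exp
import Mathlib.Tactic

set_option autoImplicit false

namespace Groth.Agent.Lib.Helper88

open PowerSeries

/-- The series `(e^x - 1)/x = ∑ x^k/(k+1)!`. -/
noncomputable def Wser : ℚ⟦X⟧ := PowerSeries.mk fun k => (1 : ℚ) / ((k + 1).factorial : ℚ)

theorem coeff_Wser (k : ℕ) : coeff k Wser = (1 : ℚ) / ((k + 1).factorial : ℚ) := by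
  simp [Wser]

theorem Wser_mul_X : Wser * X = exp ℚ - 1 := by
  ext n
  cases n with
  | zero => simp
  | succ n =>
    rw [coeff_succ_mul_X, coeff_Wser, map_sub, coeff_exp, coeff_one]
    simp

theorem bernoulliPowerSeries_eq_rescale :
    bernoulliPowerSeries ℚ = rescale (-1 : ℚ) (bernoulli'PowerSeries ℚ) := by
  ext n
  simp only [bernoulliPowerSeries, bernoulli'PowerSeries, coeff_rescale, coeff_mk, bernoulli]
  simp [mul_div_assoc]

theorem bernoulliPowerSeries_mul_Wser : bernoulliPowerSeries ℚ * Wser = 1 := by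
  have h1 : bernoulliPowerSeries ℚ * Wser * X = 1 * X := by
    rw [mul_assoc, Wser_mul_X, bernoulliPowerSeries_mul_exp_sub_one, one_mul]
  exact mul_right_cancel₀ PowerSeries.X_ne_zero h1

theorem constantCoeff_bernoulli' : constantCoeff (bernoulli'PowerSeries ℚ) = 1 := by
  rw [← coeff_zero_eq_constantCoeff_apply]
  simp [bernoulli'PowerSeries]

/-- `B'(-dx)⁻¹ = W(dx)`. -/
theorem inv_rescale_neg_bernoulli' (d : ℚ) :
    (rescale (-d) (bernoulli'PowerSeries ℚ))⁻¹ = rescale d Wser := by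
  rw [PowerSeries.inv_eq_iff_mul_eq_one]
  · have : (-d) = (-1) * d := by ring
    rw [this, rescale_mul, RingHom.comp_apply, ← bernoulliPowerSeries_eq_rescale, ← map_mul,
      mul_comm, bernoulliPowerSeries_mul_Wser, map_one]
  · rw [← coeff_zero_eq_constantCoeff_apply, coeff_rescale]
    simp [bernoulli'PowerSeries]

/-- `B(x) e^x = B'(x)`. -/
theorem bernoulliPowerSeries_mul_exp : bernoulliPowerSeries ℚ * exp ℚ = bernoulli'PowerSeries ℚ := by
  have hne : (exp ℚ - 1) ≠ 0 := by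
    intro h
    have := congrArg (coeff 1) h
    simp [coeff_exp, coeff_one] at this
  have h1 : bernoulliPowerSeries ℚ * exp ℚ * (exp ℚ - 1) = bernoulli'PowerSeries ℚ * (exp ℚ - 1) := by
    rw [bernoulli'PowerSeries_mul_exp_sub_one, mul_right_comm, bernoulliPowerSeries_mul_exp_sub_one]
  exact mul_right_cancel₀ hne h1

/-- `B'(-qx) e^{qx} = B'(qx)`. -/
theorem rescale_neg_bernoulli'_mul_exp (q : ℚ) :
    rescale (-q) (bernoulli'PowerSeries ℚ) * rescale q (exp ℚ) =
      rescale q (bernoulli'PowerSeries ℚ) := by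
  have : (-q) = (-1) * q := by ring
  rw [this, rescale_mul, RingHom.comp_apply, ← bernoulliPowerSeries_eq_rescale, ← map_mul,
    bernoulliPowerSeries_mul_exp]

/-- The `p`-independent factor of the Todd product. -/
noncomputable def Gser (m : ℕ) (d c : ℚ) : ℚ⟦X⟧ :=
  rescale d Wser * bernoulli'PowerSeries ℚ ^ m * rescale c (exp ℚ)

/-- Factorisation of the Todd product into a `p`-dependent factor `B'(qx)` and `G`. -/
theorem todd_factor (m : ℕ) (d q c : ℚ) :
    (rescale (-d) (bernoulli'PowerSeries ℚ))⁻¹ * rescale (-q) (bernoulli'PowerSeries ℚ) *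
        bernoulli'PowerSeries ℚ ^ m * rescale (q + c) (exp ℚ) =
      rescale q (bernoulli'PowerSeries ℚ) * Gser m d c := by
  rw [inv_rescale_neg_bernoulli', ← exp_mul_exp_eq_exp_add, ← rescale_neg_bernoulli'_mul_exp q, Gser]
  ring

theorem coeff_rescale_bernoulli' (q : ℚ) (k : ℕ) :
    coeff k (rescale q (bernoulli'PowerSeries ℚ)) = q ^ k * (bernoulli' k / (k.factorial : ℚ)) := by
  simp [bernoulli'PowerSeries]

theorem coeff_todd (n m : ℕ) (d q c : ℚ) :
    coeff n ((rescale (-d) (bernoulli'PowerSeries ℚ))⁻¹ * rescale (-q) (bernoulli'PowerSeries ℚ) *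
        bernoulli'PowerSeries ℚ ^ m * rescale (q + c) (exp ℚ)) =
      ∑ k ∈ Finset.range (n + 1),
        q ^ k * (bernoulli' k / (k.factorial : ℚ)) * coeff (n - k) (Gser m d c) := by
  rw [todd_factor, coeff_mul, Finset.Nat.sum_antidiagonal_eq_sum_range_succ_mk]
  simp only [coeff_rescale_bernoulli']

end Groth.Agent.Lib.Helper88

namespace Groth.Agent.Lib.Helper88

open PowerSeries

theorem coeff_zero_mul' (f g : ℚ⟦X⟧) : coeff 0 (f * g) = coeff 0 f * coeff 0 g := by
  simp [coeff_mul]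

theorem coeff_one_mul' (f g : ℚ⟦X⟧) :
    coeff 1 (f * g) = coeff 0 f * coeff 1 g + coeff 1 f * coeff 0 g := by
  rw [coeff_mul]
  simp [Finset.Nat.antidiagonal_succ]

theorem coeff_two_mul' (f g : ℚ⟦X⟧) :
    coeff 2 (f * g) = coeff 0 f * coeff 2 g + coeff 1 f * coeff 1 g + coeff 2 f * coeff 0 g := by
  rw [coeff_mul]
  simp [Finset.Nat.antidiagonal_succ]
  ring

theorem coeff_three_mul' (f g : ℚ⟦X⟧) :
    coeff 3 (f * g) = coeff 0 f * coeff 3 g + coeff 1 f * coeff 2 g + coeff 2 f * coeff 1 g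
      + coeff 3 f * coeff 0 g := by
  rw [coeff_mul]
  simp [Finset.Nat.antidiagonal_succ]
  ring

theorem coeff_zero_pow' (f : ℚ⟦X⟧) (m : ℕ) : coeff 0 (f ^ m) = (coeff 0 f) ^ m := by
  simp [coeff_zero_eq_constantCoeff_apply]

theorem coeff_one_pow' (f : ℚ⟦X⟧) (h : coeff 0 f = 1) (m : ℕ) :
    coeff 1 (f ^ m) = m * coeff 1 f := by
  induction m with
  | zero => simp
  | succ m ih =>
    rw [pow_succ, coeff_one_mul', ih, coeff_zero_pow', h]
    push_cast
    ring

theorem coeff_zero_bernoulli' : coeff 0 (bernoulli'PowerSeries ℚ) = 1 := by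
  simp [bernoulli'PowerSeries]

theorem coeff_one_bernoulli' : coeff 1 (bernoulli'PowerSeries ℚ) = 1 / 2 := by
  simp [bernoulli'PowerSeries]

theorem coeff_two_bernoulli' : coeff 2 (bernoulli'PowerSeries ℚ) = 1 / 12 := by
  simp [bernoulli'PowerSeries, Nat.factorial]
  norm_num

theorem coeff_three_bernoulli' : coeff 3 (bernoulli'PowerSeries ℚ) = 0 := by
  simp [bernoulli'PowerSeries]

theorem coeff_zero_Gser (m : ℕ) (d c : ℚ) : coeff 0 (Gser m d c) = 1 := by
  rw [Gser, coeff_zero_mul', coeff_zero_mul', coeff_zero_pow', coeff_zero_bernoulli']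
  simp [coeff_Wser, coeff_exp]

theorem coeff_one_Gser (m : ℕ) (d c : ℚ) : coeff 1 (Gser m d c) = d / 2 + m / 2 + c := by
  rw [Gser, coeff_one_mul', coeff_one_mul', coeff_zero_mul', coeff_zero_pow',
    coeff_one_pow' _ coeff_zero_bernoulli', coeff_zero_bernoulli', coeff_one_bernoulli']
  simp [coeff_Wser, coeff_exp]
  ring

end Groth.Agent.Lib.Helper88
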