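import Mathlib.NumberTheory.ZetaValues
import Mathlib.Analysis.Polynomial.Basic
import Mathlib.Tactic

set_option autoImplicit false

namespace Groth.Agent.Lib.Helper88

open Polynomial

/-- The sign of the even Bernoulli numbers: `(-1)^(k+1) B_{2k} > 0` for `k ≥ 1`. -/
theorem bernoulli_sign (k : ℕ) (hk : k ≠ 0) : 0 < (-1 : ℚ) ^ (k + 1) * _root_.bernoulli (2 * k) := by
  have h := hasSum_zeta_nat hk
  have h1 : (1 : ℝ) ≤ (-1 : ℝ) ^ (k + 1) * (2 : ℝ) ^ (2 * k - 1) * Real.pi ^ (2 * k) *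
        _root_.bernoulli (2 * k) / (2 * k).factorial := by
    have := sum_le_hasSum {1} (fun i _ => by positivity) h
    simpa using this
  have hpos : (0 : ℝ) < (2 : ℝ) ^ (2 * k - 1) * Real.pi ^ (2 * k) / (2 * k).factorial := by
    positivity
  have h2 : (0 : ℝ) < ((-1 : ℝ) ^ (k + 1) * _root_.bernoulli (2 * k)) *
      ((2 : ℝ) ^ (2 * k - 1) * Real.pi ^ (2 * k) / (2 * k).factorial) := by
    have : ((-1 : ℝ) ^ (k + 1) * _root_.bernoulli (2 * k)) *
      ((2 : ℝ) ^ (2 * k - 1) * Real.pi ^ (2 * k) / (2 * k).factorial) =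
      (-1 : ℝ) ^ (k + 1) * (2 : ℝ) ^ (2 * k - 1) * Real.pi ^ (2 * k) *
        _root_.bernoulli (2 * k) / (2 * k).factorial := by ring
    rw [this]; linarith
  have h3 : (0 : ℝ) < (-1 : ℝ) ^ (k + 1) * _root_.bernoulli (2 * k) :=
    (pos_iff_pos_of_mul_pos h2).mpr hpos
  have h4 : ((0 : ℚ) : ℝ) < (((-1 : ℚ) ^ (k + 1) * _root_.bernoulli (2 * k) : ℚ) : ℝ) := by
    push_cast; exact h3
  exact_mod_cast h4

theorem bernoulli'_neg_of_four_dvd (n : ℕ) (hn : n ≠ 0) (h4 : n % 4 = 0) : bernoulli' n < 0 := by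
  obtain ⟨j, rfl⟩ : ∃ j, n = 4 * j := ⟨n / 4, by omega⟩
  have hj : 2 * j ≠ 0 := by omega
  have h := bernoulli_sign (2 * j) hj
  have h1 : bernoulli' (4 * j) = _root_.bernoulli (2 * (2 * j)) := by
    rw [← mul_assoc]; norm_num
    exact (bernoulli_eq_bernoulli'_of_ne_one (by omega)).symm
  rw [h1]
  have h2 : (-1 : ℚ) ^ (2 * j + 1) = -1 := by
    rw [pow_succ, pow_mul]; norm_num
  rw [h2] at h
  linarith

theorem bernoulli'_pos_of_two_mod_four (n : ℕ) (h4 : n % 4 = 2) : 0 < bernoulli' n := by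
  obtain ⟨j, rfl⟩ : ∃ j, n = 2 * (2 * j + 1) := ⟨n / 4, by omega⟩
  have h := bernoulli_sign (2 * j + 1) (by omega)
  have hne : 2 * (2 * j + 1) ≠ 1 := by omega
  have h1 : bernoulli' (2 * (2 * j + 1)) = _root_.bernoulli (2 * (2 * j + 1)) :=
    (bernoulli_eq_bernoulli'_of_ne_one hne).symm
  rw [h1]
  have h2 : (-1 : ℚ) ^ (2 * j + 1 + 1) = 1 := by
    have : 2 * j + 1 + 1 = 2 * (j + 1) := by ring
    rw [this, pow_mul]; norm_num
  rw [h2] at h
  linarith

/-- A polynomial expression with negative leading coefficient is eventually negative. -/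
theorem eventually_neg_of_lead (a : ℚ) (ha : a < 0) (m : ℕ) (hm : 1 ≤ m) (Q : ℚ[X])
    (hQ : Q.natDegree < m) :
    ∃ P₀ : ℕ, ∀ p : ℕ, P₀ ≤ p → a * (p : ℚ) ^ m + Q.eval (p : ℚ) < 0 := by
  set R : ℚ[X] := C a * X ^ m + Q with hR
  have hdegm : (C a * X ^ m : ℚ[X]).degree = m := degree_C_mul_X_pow m ha.ne
  have hQdeg : Q.degree < (C a * X ^ m : ℚ[X]).degree := by
    rw [hdegm]
    exact lt_of_le_of_lt degree_le_natDegree (by exact_mod_cast hQ)
  have hdeg : R.degree = m := by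
    rw [hR, degree_add_eq_left_of_degree_lt hQdeg, hdegm]
  have hlead : R.leadingCoeff = a := by
    rw [hR, add_comm, leadingCoeff_add_of_degree_lt hQdeg, leadingCoeff_mul, leadingCoeff_C,
      leadingCoeff_X_pow, mul_one]
  have htend := R.tendsto_atBot_of_leadingCoeff_nonpos
    (by rw [hdeg]; exact_mod_cast hm) (by rw [hlead]; exact ha.le)
  have htend' := htend.comp (tendsto_natCast_atTop_atTop (R := ℚ))
  have hev := htend'.eventually (Filter.eventually_lt_atBot (0 : ℚ))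
  rw [Filter.eventually_atTop] at hev
  obtain ⟨P₀, hP₀⟩ := hev
  refine ⟨P₀, fun p hp => ?_⟩
  have := hP₀ p hp
  simpa [hR] using this

end Groth.Agent.Lib.Helper88
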