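import Mathlib
import Groth.Agent.Lib.Helper88.ImperfKey
import Groth.Agent.S2471

/-!
# Formal smoothness of twisted power series algebras (helper88)

* `injective_Phi_of_data`: in the setting of `ImperfKey`, if a `K`-linear map
  `δt : K ⊗[k] Ω[k⁄ℤ] → Kⁿ` is injective on `Υ_{K/k}` and is induced by a derivation
  `Dl : A → Kⁿ`, then `Phi` is injective.
* `isAdicFormallySmooth_of_data`: hence a regular such `A` is formally smooth over `k`.
* `ccAlgebra`, `Dlin`: the constant-coefficient algebra structure `K[[T]] → K` and the derivation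
  `f ↦ (∂f/∂Tᵢ)(0)`.
* `exists_detecting_map`: a `K`-linear map to `Kⁿ` injective on a subspace of dimension `≤ n`.
-/

set_option autoImplicit false
set_option linter.unusedSectionVars false

universe u

namespace Groth.Agent.Lib.Helper88.TwistSmooth

open IsLocalRing TensorProduct Groth.Agent.Lib.Helper88.ImperfKey

section Abstract

variable (k A K : Type u) [Field k] [CommRing A] [Field K]
  [Algebra k A] [Algebra A K] [Algebra k K] [IsScalarTower k A K]

theorem lift_map_eq {n : ℕ} (δt : K ⊗[k] Ω[k⁄ℤ] →ₗ[K] (Fin n → K))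
    (Dl : Derivation ℤ A (Fin n → K))
    (hDl : ∀ x : k, Dl (algebraMap k A x) = δt (1 ⊗ₜ[k] KaehlerDifferential.D ℤ k x))
    (ω : Ω[k⁄ℤ]) :
    Dl.liftKaehlerDifferential (KaehlerDifferential.map ℤ ℤ k A ω) = δt (1 ⊗ₜ[k] ω) := by
  have h : (Dl.liftKaehlerDifferential.restrictScalars k).comp (KaehlerDifferential.map ℤ ℤ k A) =
      (δt.restrictScalars k).comp (TensorProduct.mk k K Ω[k⁄ℤ] 1) := by
    apply Derivation.liftKaehlerDifferential_unique
    ext x : 1
    change Dl.liftKaehlerDifferential (KaehlerDifferential.map ℤ ℤ k A (KaehlerDifferential.D ℤ k x))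
      = δt (1 ⊗ₜ[k] KaehlerDifferential.D ℤ k x)
    rw [KaehlerDifferential.map_D, Derivation.liftKaehlerDifferential_comp_D, hDl]
  exact LinearMap.congr_fun h ω

theorem injective_Phi_of_data {n : ℕ} (δt : K ⊗[k] Ω[k⁄ℤ] →ₗ[K] (Fin n → K))
    (hδt : ∀ z ∈ EGA41.imperfection ℤ k K, δt z = 0 → z = 0)
    (Dl : Derivation ℤ A (Fin n → K))
    (hDl : ∀ x : k, Dl (algebraMap k A x) = δt (1 ⊗ₜ[k] KaehlerDifferential.D ℤ k x)) :
    Function.Injective (Phi k A K) := by
  let Θ : K ⊗[A] Ω[A⁄ℤ] →ₗ[K] (Fin n → K) := LinearMap.liftBaseChange K Dl.liftKaehlerDifferential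
  have hΘ : ∀ z, Θ (Phi k A K z) = δt z := by
    intro z
    induction z using TensorProduct.induction_on with
    | zero => simp
    | add x y hx hy => simp only [map_add, hx, hy]
    | tmul c ω =>
      rw [Phi_tmul]
      change c • Dl.liftKaehlerDifferential (KaehlerDifferential.map ℤ ℤ k A ω) = _
      rw [lift_map_eq k A K δt Dl hDl]
      rw [← map_smul, TensorProduct.smul_tmul', smul_eq_mul, mul_one]
  rw [injective_iff_map_eq_zero]
  intro z hz
  apply hδt z
  · change KaehlerDifferential.mapBaseChange ℤ k K z = 0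
    rw [← mapBaseChange_Phi k A K z, hz, map_zero]
  · rw [← hΘ z, hz, map_zero]

theorem isAdicFormallySmooth_of_data [IsLocalRing A] [IsNoetherianRing A]
    (hsurj : Function.Surjective (algebraMap A K)) (hreg : IsRegularLocalRing A)
    {n : ℕ} (δt : K ⊗[k] Ω[k⁄ℤ] →ₗ[K] (Fin n → K))
    (hδt : ∀ z ∈ EGA41.imperfection ℤ k K, δt z = 0 → z = 0)
    (Dl : Derivation ℤ A (Fin n → K))
    (hDl : ∀ x : k, Dl (algebraMap k A x) = δt (1 ⊗ₜ[k] KaehlerDifferential.D ℤ k x)) :
    CAlgX.IsAdicFormallySmooth k A (maximalIdeal A) :=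
  Groth.Agent.S2471.result.mpr ⟨hreg,
    (injective_lTensor_iff k A K hsurj).mpr (injective_Phi_of_data k A K δt hδt Dl hDl)⟩

theorem finite_imperfection_of_isAdicFormallySmooth [IsLocalRing A] [IsNoetherianRing A]
    (hsurj : Function.Surjective (algebraMap A K))
    (hfs : CAlgX.IsAdicFormallySmooth k A (maximalIdeal A)) :
    Module.Finite K (EGA41.imperfection ℤ k K) :=
  finite_imperfection k A K hsurj
    ((injective_lTensor_iff k A K hsurj).mp (Groth.Agent.S2471.result.mp hfs).2)

end Abstract

section MkDer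

/-- a derivation into `Kⁿ` from its components. -/
noncomputable def mkDer {A K : Type u} [CommRing A] [Field K] [Algebra A K] {n : ℕ}
    (c : Fin n → (A →+ K))
    (h : ∀ i a b, c i (a * b) = algebraMap A K a * c i b + algebraMap A K b * c i a) :
    Derivation ℤ A (Fin n → K) :=
  Derivation.mk' (LinearMap.pi fun i => (c i).toIntLinearMap) (by
    intro a b
    funext i
    change c i (a * b) = a • c i b + b • c i a
    rw [Algebra.smul_def, Algebra.smul_def]
    exact h i a b)

theorem mkDer_apply {A K : Type u} [CommRing A] [Field K] [Algebra A K] {n : ℕ}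
    (c : Fin n → (A →+ K))
    (h : ∀ i a b, c i (a * b) = algebraMap A K a * c i b + algebraMap A K b * c i a)
    (a : A) (i : Fin n) : mkDer c h a i = c i a := rfl

end MkDer

section Concrete

open MvPowerSeries

variable (n : ℕ) (K : Type u) [Field K]

theorem coeff_single_one_mul (i : Fin n) (f g : MvPowerSeries (Fin n) K) :
    coeff (Finsupp.single i 1) (f * g) =
      constantCoeff f * coeff (Finsupp.single i 1) g +
        constantCoeff g * coeff (Finsupp.single i 1) f := by
  classical
  rw [coeff_mul, Finsupp.antidiagonal_single, Finset.sum_map]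
  have h : Finset.HasAntidiagonal.antidiagonal (1 : ℕ) = {((0:ℕ), (1:ℕ)), (1, 0)} := by decide
  rw [h, Finset.sum_pair (by decide)]
  simp [coeff_zero_eq_constantCoeff_apply, mul_comm]

/-- `K` as an algebra over `K[[T₁..Tₙ]]` through the constant coefficient. -/
@[instance_reducible] noncomputable def ccAlgebra : Algebra (MvPowerSeries (Fin n) K) K :=
  (constantCoeff (σ := Fin n) (R := K)).toAlgebra

attribute [local instance] ccAlgebra

theorem ccAlgebra_algebraMap (f : MvPowerSeries (Fin n) K) :
    algebraMap (MvPowerSeries (Fin n) K) K f = constantCoeff f := rfl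

theorem ccAlgebra_surjective :
    Function.Surjective (algebraMap (MvPowerSeries (Fin n) K) K) := fun c =>
  ⟨C c, by rw [ccAlgebra_algebraMap, constantCoeff_C]⟩

/-- the derivation `f ↦ (∂f/∂Tᵢ (0))ᵢ`. -/
noncomputable def Dlin : @Derivation ℤ (MvPowerSeries (Fin n) K) (Fin n → K) _ _ _
    (Ring.toIntAlgebra _) _ _ :=
  mkDer (fun i => ((coeff (Finsupp.single i 1) :
      MvPowerSeries (Fin n) K →ₗ[K] K) : MvPowerSeries (Fin n) K →+ K))
    (by
      intro i f g
      change coeff (Finsupp.single i 1) (f * g) =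
        algebraMap (MvPowerSeries (Fin n) K) K f * coeff (Finsupp.single i 1) g +
          algebraMap (MvPowerSeries (Fin n) K) K g * coeff (Finsupp.single i 1) f
      rw [ccAlgebra_algebraMap, ccAlgebra_algebraMap, coeff_single_one_mul])

theorem Dlin_apply (f : MvPowerSeries (Fin n) K) (i : Fin n) :
    Dlin n K f i = coeff (Finsupp.single i 1) f := rfl

end Concrete

section Detect

theorem exists_detecting_map {K V : Type u} [Field K] [AddCommGroup V] [Module K V]
    (p : Submodule K V) [Module.Finite K p] (n : ℕ) (hn : Module.finrank K p ≤ n) :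
    ∃ δt : V →ₗ[K] (Fin n → K), ∀ z ∈ p, δt z = 0 → z = 0 := by
  have h1 : Module.finrank K p ≤ Module.finrank K (Fin n → K) := by
    rw [Module.finrank_fin_fun]
    exact hn
  obtain ⟨g, hg⟩ := finrank_le_iff_exists_linearMap.mp h1
  obtain ⟨G, hG⟩ := LinearMap.exists_extend g
  refine ⟨G, fun z hz h0 => ?_⟩
  have h2 : g ⟨z, hz⟩ = 0 := by
    rw [← hG]
    exact h0
  have h3 : (⟨z, hz⟩ : p) = 0 := hg (by rw [h2, map_zero])
  exact congrArg Subtype.val h3

end Detect

end Groth.Agent.Lib.Helper88.TwistSmooth
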